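import Mathlib.GroupTheory.PGroup
import Mathlib.GroupTheory.QuotientGroup.Basic
import Cfsg.Agent.Transfer.Critical
import Cfsg.Agent.OddOrder.BG4.Basic

/-!
# 2-groups of normal rank two with an automorphism of odd order: common tools
-/

set_option autoImplicit false

namespace CfsgLib.NormalRankTwoAut

open Subgroup
open scoped commutatorElement

variable {T : Type*} [Group T]

/-- A finite 2-group all of whose normal abelian subgroups have at most four solutions of
`x * x = 1`. -/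
structure Base (T : Type*) [Group T] : Prop where
  pg : IsPGroup 2 T
  small : ∀ A : Subgroup T, A.Normal → (∀ a ∈ A, ∀ b ∈ A, Commute a b) →
    ∀ B : Subgroup T, B ≤ A → (∀ b ∈ B, b * b = 1) → Nat.card B ≤ 4

section Finite

variable [Finite T]

theorem Base.eq_one_of_sq (hB : Base T) {n : ℕ} (hn : Odd n) {c : T} (h : c ^ n = 1) : c = 1 := by
  obtain ⟨k, hk⟩ := hB.pg c
  rw [← orderOf_eq_one_iff]
  exact Nat.eq_one_of_dvd_coprimes (Nat.Coprime.pow_left k (Nat.coprime_two_left.2 hn))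
    (orderOf_dvd_of_pow_eq_one hk) (orderOf_dvd_of_pow_eq_one h)

theorem Base.even_card (hB : Base T) {A : Subgroup T} {x : T} (hx : x ∈ A) (h1 : x ≠ 1) :
    2 ∣ Nat.card A := by
  haveI : Fact (Nat.Prime 2) := ⟨Nat.prime_two⟩
  rcases (hB.pg.to_subgroup A).card_eq_or_dvd with h | h
  · exact absurd (mem_bot.1 ((Subgroup.card_eq_one.1 h) ▸ hx)) h1
  · exact h

/-- The image of a subgroup in a quotient. -/
theorem card_map_mk (Z : Subgroup T) [Z.Normal] {A : Subgroup T} (hZA : Z ≤ A) :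
    Nat.card (A.map (QuotientGroup.mk' Z)) * Nat.card Z = Nat.card A := by
  rw [← Subgroup.relIndex_ker, QuotientGroup.ker_mk']
  have h := Subgroup.card_mul_index (Z.subgroupOf A)
  rw [Nat.card_congr (subgroupOfEquivOfLe hZA).toEquiv] at h
  rw [mul_comm]
  exact h

/-- If `N < C` are normal, some element of `C ∖ N` is central modulo `N`. -/
theorem Base.exists_fixed_mod (hB : Base T) (N C : Subgroup T) [N.Normal] [C.Normal] {v : T}
    (hv : v ∈ C) (hvN : v ∉ N) : ∃ y ∈ C, y ∉ N ∧ ∀ t : T, t * y * t⁻¹ * y⁻¹ ∈ N := by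
  haveI : Fact (Nat.Prime 2) := ⟨Nat.prime_two⟩
  haveI : (C.map (QuotientGroup.mk' N)).Normal :=
    (inferInstance : C.Normal).map _ (QuotientGroup.mk'_surjective N)
  have hne : C.map (QuotientGroup.mk' N) ≠ ⊥ := by
    rw [Ne, Subgroup.map_eq_bot_iff, QuotientGroup.ker_mk']
    exact fun h => hvN (h hv)
  obtain ⟨w, ⟨y, hy, rfl⟩, hwc, hwo⟩ :=
    CfsgLib.OddOrder.BG4.exists_central_orderOf_prime (hB.pg.to_quotient N) hne
  refine ⟨y, hy, fun h => ?_, fun t => ?_⟩
  · rw [QuotientGroup.mk'_apply, (QuotientGroup.eq_one_iff y).2 h, orderOf_one] at hwo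
    omega
  · rw [← QuotientGroup.eq_one_iff, QuotientGroup.mk_mul, QuotientGroup.mk_mul,
      QuotientGroup.mk_mul, QuotientGroup.mk_inv, QuotientGroup.mk_inv]
    have h := mem_center_iff.1 hwc (t : T ⧸ N)
    rw [QuotientGroup.mk'_apply] at h
    rw [h]
    group

/-- The basic contradiction: an involution outside a normal four group `U`, centralising `U`,
with all its commutators in `U`. -/
theorem Base.false_of_normal_involution (hB : Base T) (U : Subgroup T) [hU : U.Normal]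
    (hUc : ∀ u ∈ U, ∀ v ∈ U, Commute u v) (hU1 : ∀ u ∈ U, u * u = 1) (hcard : Nat.card U = 4)
    {x : T} (hxU : x ∉ U) (hx : x * x = 1) (hxc : ∀ u ∈ U, Commute x u)
    (hxt : ∀ t : T, t * x * t⁻¹ * x⁻¹ ∈ U) : False := by
  let A : Subgroup T :=
    { carrier := {a | a ∈ U ∨ a * x⁻¹ ∈ U}
      one_mem' := Or.inl U.one_mem
      mul_mem' := by
        intro a b ha hb
        have hxu : ∀ {u : T}, u ∈ U → x⁻¹ * u * x = u := fun {u} hu => by
          rw [mul_assoc, ← (hxc u hu).eq, inv_mul_cancel_left]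
        rcases ha with ha | ha <;> rcases hb with hb | hb
        · exact Or.inl (U.mul_mem ha hb)
        · refine Or.inr ?_
          rw [mul_assoc]; exact U.mul_mem ha hb
        · refine Or.inr ?_
          have : a * b * x⁻¹ = a * x⁻¹ * b := by
            calc a * b * x⁻¹ = a * x⁻¹ * (x * b) * x⁻¹ := by group
              _ = _ := by rw [(hxc b hb).eq]; group
          rw [this]; exact U.mul_mem ha hb
        · refine Or.inl ?_
          have : a * b = a * x⁻¹ * (x * (b * x⁻¹) * x⁻¹) * (x * x) := by group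
          rw [this, hx, mul_one, (hxc _ hb).eq, mul_inv_cancel_right]
          exact U.mul_mem ha hb
      inv_mem' := by
        intro a ha
        rcases ha with ha | ha
        · exact Or.inl (U.inv_mem ha)
        · refine Or.inr ?_
          have : a⁻¹ * x⁻¹ = x⁻¹ * (a * x⁻¹)⁻¹ * x * (x * x)⁻¹ := by group
          rw [this, hx, inv_one, mul_one, mul_assoc, ← (hxc _ (U.inv_mem ha)).eq,
            inv_mul_cancel_left]
          exact U.inv_mem ha }
  have hAdef : ∀ a, a ∈ A ↔ a ∈ U ∨ a * x⁻¹ ∈ U := fun a => Iff.rfl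
  have hdec : ∀ a ∈ A, ∃ u ∈ U, a = u ∨ a = u * x := by
    intro a ha
    rcases ha with h | h
    · exact ⟨a, h, Or.inl rfl⟩
    · exact ⟨_, h, Or.inr (inv_mul_cancel_right a x).symm⟩
  have hxA : x ∈ A := Or.inr (by rw [mul_inv_cancel]; exact U.one_mem)
  have hUA : U ≤ A := fun u hu => Or.inl hu
  have hxx : ∀ u ∈ U, Commute (u * x) x := fun u hu => ((hxc u hu).symm.mul_left (Commute.refl x))
  have hAc : ∀ a ∈ A, ∀ b ∈ A, Commute a b := by
    intro a ha b hb
    obtain ⟨u, hu, rfl | rfl⟩ := hdec a ha <;> obtain ⟨v, hv, rfl | rfl⟩ := hdec b hb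
    · exact hUc _ hu _ hv
    · exact (hUc _ hu _ hv).mul_right (hxc _ hu).symm
    · exact (hUc _ hu _ hv).mul_left (hxc _ hv)
    · exact ((hUc _ hu _ hv).mul_left (hxc _ hv)).mul_right (hxx _ hu)
  have hA1 : ∀ a ∈ A, a * a = 1 := by
    intro a ha
    obtain ⟨u, hu, rfl | rfl⟩ := hdec a ha
    · exact hU1 _ hu
    · rw [(hxc u hu).mul_mul_mul_comm, hU1 u hu, hx, one_mul]
  have hAn : A.Normal := by
    refine ⟨fun a ha t => ?_⟩
    obtain ⟨u, hu, rfl | rfl⟩ := hdec a ha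
    · exact hUA (hU.conj_mem _ hu t)
    · refine Or.inr ?_
      rw [show t * (u * x) * t⁻¹ * x⁻¹ = (t * u * t⁻¹) * (t * x * t⁻¹ * x⁻¹) by group]
      exact U.mul_mem (hU.conj_mem _ hu t) (hxt t)
  have h1 := hB.small A hAn hAc A le_rfl hA1
  have h2 : U < A := lt_of_le_of_ne hUA fun h => hxU (h ▸ hxA)
  have h3 := Subgroup.card_dvd_of_le hUA
  have h4 : Nat.card U ≠ Nat.card A := fun h => h2.ne (eq_of_le_of_card_ge hUA h.ge)
  have h5 := Nat.le_of_dvd Nat.card_pos h3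
  omega

/-- If `φ m ≡ m p` and `φ p ≡ p` modulo an invariant normal subgroup `N`, then `p ∈ N`. -/
theorem Base.mem_of_fixed_mod (hB : Base T) {φ : MulAut T} (hφ : Odd (orderOf φ))
    (N : Subgroup T) [N.Normal] (hN : ∀ x ∈ N, φ x ∈ N) {m p : T}
    (hm : (m * p)⁻¹ * φ m ∈ N) (hp : p⁻¹ * φ p ∈ N) : p ∈ N := by
  let f : T ⧸ N →* T ⧸ N := QuotientGroup.map N N φ.toMonoidHom (fun x hx => hN x hx)
  have hf : ∀ x : T, f (x : T ⧸ N) = ((φ x : T) : T ⧸ N) := fun x => rfl
  have hm' : f (m : T ⧸ N) = (m : T ⧸ N) * (p : T ⧸ N) := by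
    rw [hf, ← QuotientGroup.mk_mul, eq_comm, QuotientGroup.eq]; exact hm
  have hp' : f (p : T ⧸ N) = (p : T ⧸ N) := by
    rw [hf, eq_comm, QuotientGroup.eq]; exact hp
  have key : ∀ k : ℕ, (((φ ^ k) m : T) : T ⧸ N) = (m : T ⧸ N) * (p : T ⧸ N) ^ k := by
    intro k
    induction k with
    | zero => simp
    | succ k ih =>
      rw [pow_succ', MulAut.mul_apply, ← hf, ih, map_mul, map_pow, hm', hp', mul_assoc,
        ← pow_succ']
  have h := key (orderOf φ)
  rw [pow_orderOf_eq_one, MulAut.one_apply, left_eq_mul, ← QuotientGroup.mk_pow,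
    QuotientGroup.eq_one_iff] at h
  obtain ⟨k, hk⟩ := hB.pg p
  have hd := orderOf_dvd_of_pow_eq_one
    (show ((p : T ⧸ N)) ^ 2 ^ k = 1 by rw [← QuotientGroup.mk_pow, hk]; rfl)
  have he := orderOf_dvd_of_pow_eq_one
    (show ((p : T ⧸ N)) ^ orderOf φ = 1 by rwa [← QuotientGroup.mk_pow, QuotientGroup.eq_one_iff])
  have h1 := Nat.eq_one_of_dvd_coprimes (Nat.Coprime.pow_left k (Nat.coprime_two_left.2 hφ)) hd he
  rwa [orderOf_eq_one_iff, QuotientGroup.eq_one_iff] at h1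

theorem Base.fixed_of_fixed (hB : Base T) {φ : MulAut T} (hφ : Odd (orderOf φ)) {m : T}
    (h : φ (m⁻¹ * φ m) = m⁻¹ * φ m) : φ m = m := by
  have := hB.mem_of_fixed_mod hφ ⊥ (fun x hx => by
    rw [mem_bot] at hx ⊢; rw [hx, map_one]) (m := m) (p := m⁻¹ * φ m)
    (by rw [mem_bot]; group) (by rw [mem_bot, h, inv_mul_cancel])
  exact (inv_mul_eq_one.1 (mem_bot.1 this)).symm

omit [Finite T] in
theorem eq_of_apply_apply {φ : MulAut T} (hφ : Odd (orderOf φ)) {x : T} (h : φ (φ x) = x) :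
    φ x = x := by
  obtain ⟨k, hk⟩ := hφ
  have key : ∀ j : ℕ, (φ ^ (2 * j)) x = x := by
    intro j
    induction j with
    | zero => simp
    | succ j ih => rw [Nat.mul_succ, pow_add, MulAut.mul_apply, pow_two, MulAut.mul_apply, h, ih]
  have h1 := congrArg (fun ψ : MulAut T => ψ x) (pow_orderOf_eq_one φ)
  rw [hk, pow_succ', MulAut.mul_apply, key k] at h1
  exact h1

/-- An automorphism of odd order fixing the involutions of an invariant abelian subgroup fixes
it pointwise. -/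
theorem Base.fixed_of_fixed_involutions (hB : Base T) {φ : MulAut T} (hφ : Odd (orderOf φ))
    {A : Subgroup T} (hAc : ∀ a ∈ A, ∀ b ∈ A, Commute a b) (hA : ∀ a ∈ A, φ a ∈ A)
    (h : ∀ a ∈ A, a * a = 1 → φ a = a) : ∀ a ∈ A, φ a = a := by
  have key : ∀ n : ℕ, ∀ a ∈ A, a ^ 2 ^ n = 1 → φ a = a := by
    intro n
    induction n with
    | zero => intro a _ h1; rw [pow_zero, pow_one] at h1; rw [h1, map_one]
    | succ n ih =>
      intro a ha h1
      have h2 : φ (a * a) = a * a := ih _ (A.mul_mem ha ha) (by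
        rw [← pow_two, ← pow_mul, ← pow_succ']; exact h1)
      apply hB.fixed_of_fixed hφ
      refine h _ (A.mul_mem (A.inv_mem ha) (hA a ha)) ?_
      rw [(hAc _ (hA a ha) _ (A.inv_mem ha)).mul_mul_mul_comm, ← map_mul, h2]
      group
  intro a ha
  obtain ⟨n, hn⟩ := hB.pg a
  exact key n a ha hn

/-- A moved coset in an invariant four group modulo `Z` has the three nontrivial cosets as its
orbit. -/
theorem orbit_of_four {φ : MulAut T} (hφ : Odd (orderOf φ)) (Z P : Subgroup T) [Z.Normal]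
    (hZ : ∀ x ∈ Z, φ x ∈ Z) (hZP : Z ≤ P) (hP : ∀ x ∈ P, φ x ∈ P)
    (hcard : Nat.card (P.map (QuotientGroup.mk' Z)) ≤ 4) {p : T} (hp : p ∈ P)
    (hmv : p⁻¹ * φ p ∉ Z) :
    Nat.card (P.map (QuotientGroup.mk' Z)) = 4 ∧
      ∀ v ∈ P, v ∉ Z → v⁻¹ * φ v ∉ Z ∧
        (v⁻¹ * p ∈ Z ∨ v⁻¹ * φ p ∈ Z ∨ v⁻¹ * φ (φ p) ∈ Z) := by
  classical
  have hbij : ∀ x, φ x ∈ Z → x ∈ Z := by
    intro x hx
    have hpow : ∀ (k : ℕ), ∀ y ∈ Z, (φ ^ k) y ∈ Z := by
      intro k
      induction k with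
      | zero => intro y hy; simpa using hy
      | succ k ih => intro y hy; rw [pow_succ', MulAut.mul_apply]; exact hZ _ (ih y hy)
    have h1 := hpow (orderOf φ - 1) _ hx
    rwa [← MulAut.mul_apply, ← pow_succ, Nat.sub_add_cancel hφ.pos, pow_orderOf_eq_one,
      MulAut.one_apply] at h1
  let f : T ⧸ Z →* T ⧸ Z := QuotientGroup.map Z Z φ.toMonoidHom (fun x hx => hZ x hx)
  have hf : ∀ x : T, f (x : T ⧸ Z) = ((φ x : T) : T ⧸ Z) := fun x => rfl
  have hinj : Function.Injective f := by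
    rw [injective_iff_map_eq_one]
    intro a
    induction a using QuotientGroup.induction_on with
    | H x =>
      intro h
      rw [hf, QuotientGroup.eq_one_iff] at h
      rw [QuotientGroup.eq_one_iff]; exact hbij x h
  set a : T ⧸ Z := (p : T ⧸ Z) with ha
  have hab : a ≠ f a := by rw [ha, hf, Ne, QuotientGroup.eq]; exact hmv
  have ha1 : a ≠ 1 := by
    intro h1; exact hab (by rw [h1, map_one])
  have hfa1 : f a ≠ 1 := fun h1 => ha1 (hinj (h1.trans (map_one f).symm))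
  have hffa1 : f (f a) ≠ 1 := fun h1 => hfa1 (hinj (h1.trans (map_one f).symm))
  have hbc : f a ≠ f (f a) := fun h => hab (hinj h)
  have hac : a ≠ f (f a) := by
    intro h
    let g : ℕ → T ⧸ Z := fun k => (((φ ^ k) p : T) : T ⧸ Z)
    have hg : ∀ k, g (k + 1) = f (g k) := fun k => by
      simp only [g, hf, pow_succ', MulAut.mul_apply]
    have he : ∀ j, g (2 * j) = a := by
      intro j
      induction j with
      | zero => simp [g, ha]
      | succ j ih => rw [Nat.mul_succ, hg, hg, ih]; exact h.symm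
    obtain ⟨k, hk⟩ := hφ
    have h2 := hg (2 * k)
    rw [he, ← hk] at h2
    simp only [g, pow_orderOf_eq_one, MulAut.one_apply] at h2
    exact hab h2
  have hsub : ({1, a, f a, f (f a)} : Set (T ⧸ Z)) ⊆ (P.map (QuotientGroup.mk' Z) : Set (T ⧸ Z)) := by
    intro v hv
    rcases hv with rfl | rfl | rfl | rfl
    · exact one_mem _
    · exact ⟨p, hp, rfl⟩
    · exact ⟨φ p, hP _ hp, rfl⟩
    · exact ⟨φ (φ p), hP _ (hP _ hp), rfl⟩
  have h4 : ({1, a, f a, f (f a)} : Set (T ⧸ Z)).ncard = 4 :=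
    Set.ncard_eq_four.2 ⟨1, a, f a, f (f a), ha1.symm, hfa1.symm, hffa1.symm, hab, hac, hbc, rfl⟩
  have heq := Set.eq_of_subset_of_ncard_le hsub (by
    rw [h4, ← Nat.card_coe_set_eq]; exact hcard) (Set.toFinite _)
  refine ⟨?_, fun v hv hvZ => ?_⟩
  · rw [← h4, heq, ← Nat.card_coe_set_eq]; rfl
  · have hmem : (v : T ⧸ Z) ∈ ({1, a, f a, f (f a)} : Set (T ⧸ Z)) := heq ▸ ⟨v, hv, rfl⟩
    rw [← QuotientGroup.eq, ← hf v]
    rcases hmem with h | h | h | h
    · exact absurd ((QuotientGroup.eq_one_iff v).1 h) hvZ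
    · exact ⟨by rw [h]; exact hab, Or.inl (QuotientGroup.eq.1 h)⟩
    · exact ⟨by rw [h]; exact hbc, Or.inr (Or.inl (QuotientGroup.eq.1 h))⟩
    · exact ⟨by rw [h]; exact fun h' => hbc (hinj h'),
        Or.inr (Or.inr (QuotientGroup.eq.1 (h.trans (by rw [ha, hf, hf]))))⟩

/-- The data extracted from a critical subgroup: `Z = Z(K)` and `M = C(Z)`. -/
structure Setup (Z M : Subgroup T) : Prop where
  zchar : Z.Characteristic
  mchar : M.Characteristic
  zcomm : ∀ a ∈ Z, ∀ b ∈ Z, Commute a b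
  zm : Z ≤ M
  mem_m : ∀ t : T, (∀ z ∈ Z, Commute t z) → t ∈ M
  cent : ∀ m ∈ M, ∀ z ∈ Z, Commute m z
  sq : ∀ m ∈ M, m * m ∈ Z
  comm : ∀ m ∈ M, ∀ n ∈ M, m * n * m⁻¹ * n⁻¹ ∈ Z
  comm_sq : ∀ m ∈ M, ∀ n ∈ M, (m * n * m⁻¹ * n⁻¹) * (m * n * m⁻¹ * n⁻¹) = 1
  center_le : center T ≤ Z
  faithful : ∀ φ : MulAut T, Odd (orderOf φ) → (∀ m ∈ M, φ m = m) → φ = 1

theorem Base.exists_setup (hB : Base T) : ∃ Z M : Subgroup T, Setup Z M := by
  haveI : Fact (Nat.Prime 2) := ⟨Nat.prime_two⟩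
  obtain ⟨K, hK, hK1, hK2, hK3⟩ := CfsgLib.Transfer.exists_critical hB.pg
  haveI := hK
  let Z := centralizer (K : Set T)
  haveI hZ : Z.Characteristic := inferInstance
  have hKn : K.Normal := inferInstance
  have hKM : K ≤ centralizer (Z : Set T) := fun k hk z hz => (hz k hk).symm
  have hZc : ∀ a ∈ Z, ∀ b ∈ Z, Commute a b := fun a ha b hb => (ha b (hK3 hb)).symm
  have hKZ : ∀ k ∈ K, ∀ z ∈ Z, Commute k z := fun k hk z hz => hz k hk
  have hMZ : ∀ m ∈ centralizer (Z : Set T), ∀ z ∈ Z, Commute m z :=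
    fun m hm z hz => (hm z hz).symm
  have hks : ∀ k ∈ K, k * k ∈ Z := by
    intro k hk
    refine hK1 ⟨⟨k, hk⟩ ^ 2, CfsgLib.Solvable.pow_mem_frattini (hB.pg.to_subgroup K) _, ?_⟩
    simp [pow_two]
  -- an element of `M` moves an element of `K` by an element of `Z` squaring to one
  have hmk : ∀ m ∈ centralizer (Z : Set T), ∀ k ∈ K,
      ∃ c ∈ Z, m * k * m⁻¹ = c * k ∧ c * c = 1 := by
    intro m hm k hk
    have hc : m * k * m⁻¹ * k⁻¹ ∈ Z := by
      have := Z.inv_mem (hK2 (Subgroup.commutator_mem_commutator hk (mem_top m))).2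
      rw [commutatorElement_def] at this
      simpa [mul_assoc] using this
    refine ⟨_, hc, by group, ?_⟩
    set c := m * k * m⁻¹ * k⁻¹ with hcdef
    have e1 : m * k * m⁻¹ = c * k := by rw [hcdef]; group
    have e2 : m * (k * k) * m⁻¹ = k * k := by
      rw [(hMZ m hm _ (hks k hk)).eq, mul_inv_cancel_right]
    have e3 : (c * k) * (c * k) = k * k := by
      rw [← e1]
      calc m * k * m⁻¹ * (m * k * m⁻¹) = m * (k * k) * m⁻¹ := by group
        _ = _ := e2
    rw [(hKZ k hk c hc).mul_mul_mul_comm] at e3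
    exact mul_eq_right.1 e3
  have hsq : ∀ m ∈ centralizer (Z : Set T), m * m ∈ Z := by
    intro m hm
    rw [mem_centralizer_iff]
    intro k hk
    obtain ⟨c, hc, e, hcc⟩ := hmk m hm k hk
    have : m * m * k * (m * m)⁻¹ = k := by
      calc m * m * k * (m * m)⁻¹ = m * (m * k * m⁻¹) * m⁻¹ := by group
        _ = m * (c * k) * m⁻¹ := by rw [e]
        _ = (m * c * m⁻¹) * (m * k * m⁻¹) := by group
        _ = c * (c * k) := by rw [(hMZ m hm c hc).eq, mul_inv_cancel_right, e]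
        _ = k := by rw [← mul_assoc, hcc, one_mul]
    exact (mul_inv_eq_iff_eq_mul.1 this).symm
  have hcomm : ∀ m ∈ centralizer (Z : Set T), ∀ n ∈ centralizer (Z : Set T),
      m * n * m⁻¹ * n⁻¹ ∈ Z := by
    intro m hm n hn
    rw [mem_centralizer_iff]
    intro k' hk'
    obtain ⟨k, hk, rfl⟩ : ∃ k ∈ K, k' = (n * m) * k * (n * m)⁻¹ :=
      ⟨(n * m)⁻¹ * k' * (n * m), by simpa using hKn.conj_mem k' hk' (n * m)⁻¹, by group⟩
    obtain ⟨c, hc, e, -⟩ := hmk m hm k hk
    obtain ⟨d, hd, e', -⟩ := hmk n hn k hk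
    have h1 : (n * m) * k * (n * m)⁻¹ = c * d * k := by
      calc (n * m) * k * (n * m)⁻¹ = n * (m * k * m⁻¹) * n⁻¹ := by group
        _ = n * (c * k) * n⁻¹ := by rw [e]
        _ = (n * c * n⁻¹) * (n * k * n⁻¹) := by group
        _ = _ := by rw [(hMZ n hn c hc).eq, mul_inv_cancel_right, e', mul_assoc]
    have h2 : (m * n) * k * (m * n)⁻¹ = (n * m) * k * (n * m)⁻¹ := by
      calc (m * n) * k * (m * n)⁻¹ = m * (n * k * n⁻¹) * m⁻¹ := by group
        _ = m * (d * k) * m⁻¹ := by rw [e']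
        _ = (m * d * m⁻¹) * (m * k * m⁻¹) := by group
        _ = d * c * k := by rw [(hMZ m hm d hd).eq, mul_inv_cancel_right, e, mul_assoc]
        _ = _ := by rw [h1, (hZc d hd c hc).eq]
    calc (n * m) * k * (n * m)⁻¹ * (m * n * m⁻¹ * n⁻¹)
        = (m * n) * k * (m * n)⁻¹ * (m * n * m⁻¹ * n⁻¹) := by rw [h2]
      _ = _ := by group
  refine ⟨Z, centralizer (Z : Set T), ⟨hZ, inferInstance, hZc, fun z hz w hw => (hZc w hw z hz).eq,
    fun t ht z hz => (ht z hz).eq.symm, hMZ, hsq, hcomm, ?_,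
    Subgroup.center_le_centralizer _, ?_⟩⟩
  · intro m hm n hn
    set c := m * n * m⁻¹ * n⁻¹ with hcdef
    have h3 : m * m * n * (m * m)⁻¹ = n := by
      rw [← (hMZ n hn _ (hsq m hm)).eq, mul_inv_cancel_right]
    have e1 : m * n * m⁻¹ = c * n := by rw [hcdef]; group
    have h4 : m * m * n * (m * m)⁻¹ = c * c * n := by
      calc m * m * n * (m * m)⁻¹ = m * (m * n * m⁻¹) * m⁻¹ := by group
        _ = m * (c * n) * m⁻¹ := by rw [e1]
        _ = (m * c * m⁻¹) * (m * n * m⁻¹) := by group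
        _ = _ := by rw [(hMZ m hm c (hcomm m hm n hn)).eq, mul_inv_cancel_right, e1]; exact (mul_assoc c c n).symm
    rw [h3] at h4
    exact right_eq_mul.1 h4
  · intro φ hφ h
    refine CfsgLib.OddOrder.BG4.aut_eq_one_of_fix hB.pg (Nat.coprime_two_right.2 hφ) hK3
      fun x hx => h x (hKM hx)

end Finite

end CfsgLib.NormalRankTwoAut
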