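import Mathlib.GroupTheory.Sylow

/-!
# Conjugating 2-subgroups into a Sylow subgroup
-/

set_option autoImplicit false

namespace CfsgLib.NormalRankTwoAut

variable {G : Type*} [Group G] [Finite G]

theorem exists_conj_le (P : Sylow 2 G) {R : Subgroup G} (hR : IsPGroup 2 R) :
    ∃ g : G, ∀ t ∈ R, g * t * g⁻¹ ∈ (P : Subgroup G) := by
  haveI : Fact (Nat.Prime 2) := ⟨Nat.prime_two⟩
  obtain ⟨Q, hQ⟩ := hR.exists_le_sylow
  obtain ⟨g, hg⟩ := MulAction.exists_smul_eq G Q P
  refine ⟨g, fun t ht => ?_⟩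
  rw [← hg]
  show g * t * g⁻¹ ∈ ((g • Q : Sylow 2 G) : Subgroup G)
  rw [Sylow.coe_subgroup_smul]
  exact ⟨t, hQ ht, rfl⟩

/-- If `g` conjugates `a` to an element `z` central in the Sylow subgroup `P`, some element does
so and moves the centraliser of `a` in `P` into `P`. -/
theorem exists_conj_centralizer (P : Sylow 2 G) {a z g : G} (hg : g * a * g⁻¹ = z)
    (hz : ∀ t ∈ (P : Subgroup G), Commute t z) :
    ∃ g' : G, g' * a * g'⁻¹ = z ∧
      ∀ t ∈ (P : Subgroup G), Commute t a → g' * t * g'⁻¹ ∈ (P : Subgroup G) := by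
  set C : Subgroup G := Subgroup.centralizer ({z} : Set G) with hC
  have hPC : (P : Subgroup G) ≤ C := fun t ht => by
    rw [hC, Subgroup.mem_centralizer_singleton_iff]; exact (hz t ht).eq
  set R : Subgroup G := ((P : Subgroup G) ⊓ Subgroup.centralizer ({a} : Set G)).map
    (MulAut.conj g).toMonoidHom with hR
  have hRC : R ≤ C := by
    rintro _ ⟨t, ht, rfl⟩
    have h2 : t * a = a * t := Subgroup.mem_centralizer_singleton_iff.1 ht.2
    have h3 := Commute.map (h2 : Commute t a) (MulAut.conj g).toMonoidHom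
    rw [hC, Subgroup.mem_centralizer_singleton_iff, ← hg]
    exact h3
  have hRp : IsPGroup 2 R := (P.2.to_le inf_le_left).map _
  obtain ⟨c, hc⟩ := exists_conj_le (P.subtype hPC)
    (hRp.comap_of_injective C.subtype C.subtype_injective)
  refine ⟨(c : G) * g, ?_, fun t ht hta => ?_⟩
  · have hcz : (c : G) * z = z * c := Subgroup.mem_centralizer_singleton_iff.1 c.2
    rw [show (c : G) * g * a * ((c : G) * g)⁻¹ = (c : G) * (g * a * g⁻¹) * (c : G)⁻¹ by group,
      hg, hcz, mul_inv_cancel_right]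
  · have hm : g * t * g⁻¹ ∈ R :=
      ⟨t, ⟨ht, Subgroup.mem_centralizer_singleton_iff.2 hta.eq⟩, rfl⟩
    have h := hc ⟨g * t * g⁻¹, hRC hm⟩ hm
    rw [Sylow.coe_subtype, Subgroup.mem_subgroupOf] at h
    simpa [mul_assoc] using h

end CfsgLib.NormalRankTwoAut
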