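import Cfsg.Agent.NormalRankTwoAut.Basic
import Cfsg.Agent.NormalRankTwoAut.Conj
import Cfsg.Agent.S0076
import Cfsg.Agent.ZStar.Theorem

/-!
# Sylow subgroups of the shape `⟨i, j⟩ W`: the central involution is isolated
-/

set_option autoImplicit false

namespace CfsgLib.NormalRankTwoAut

open Subgroup

variable {T : Type*} [Group T]

/-- A decomposition of `T` as a product of a quaternion-like pair and a subgroup centralising it. -/
structure Split (z i j : T) (W Z₁ : Subgroup T) : Prop where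
  z_ne : z ≠ 1
  z_sq : z * z = 1
  z_cen : ∀ t, Commute t z
  ii : i * i = z
  jj : j * j = z
  ijij : i * j * (i * j) = z
  wi : ∀ w ∈ W, Commute i w
  wj : ∀ w ∈ W, Commute j w
  dec : ∀ t, ∃ q, (q = 1 ∨ q = i ∨ q = j ∨ q = i * j) ∧ q⁻¹ * t ∈ W
  z1_le : Z₁ ≤ W
  z1_comm : ∀ a ∈ Z₁, ∀ b ∈ Z₁, Commute a b
  selfc : ∀ w ∈ W, (∀ a ∈ Z₁, Commute w a) → w ∈ Z₁
  z1_inv : ∀ a ∈ Z₁, a * a = 1 → ∀ t, Commute t a
  hk : ∀ g ∈ W, ∀ a ∈ Z₁, ∃ η ∈ Z₁, ∃ o ∈ Z₁, o * o = 1 ∧ g * a * g⁻¹ = a * (η * η) * o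
  z1_conj : ∀ g ∈ W, ∀ a ∈ Z₁, g * a * g⁻¹ ∈ Z₁

/-- The configuration refuted by the Z*-theorem. -/
def HasSplit (T : Type*) [Group T] : Prop :=
  ∃ (z i j : T) (W Z₁ : Subgroup T), Split z i j W Z₁ ∧
    (∀ w ∈ W, w * w * (w * w) = 1 → ∀ t, Commute t (w * w)) ∧ ∀ α : MulAut T, α (α z) = z

variable {z i j : T} {W Z₁ : Subgroup T}

theorem Split.commute_q (D : Split z i j W Z₁) {q : T} (hq : q = 1 ∨ q = i ∨ q = j ∨ q = i * j)
    {w : T} (hw : w ∈ W) : Commute q w := by
  rcases hq with rfl | rfl | rfl | rfl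
  · exact Commute.one_left w
  · exact D.wi w hw
  · exact D.wj w hw
  · exact (D.wi w hw).mul_left (D.wj w hw)

/-- An involutory square `s = w * w` from `W` fixes the elements of order dividing four of `Z₁`,
and is central in `T` modulo the involutions of `Z₁`. -/
theorem Split.square_data (D : Split z i j W Z₁) (hB : Base T) {w : T} (hw : w ∈ W)
    (hs : w * w * (w * w) = 1) :
    (∀ a ∈ Z₁, a * a * (a * a) = 1 → Commute (w * w) a) ∧
    ∀ t : T, ∃ o ∈ Z₁, o * o = 1 ∧ t * (w * w) * t⁻¹ = o * (w * w) := by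
  set s := w * w with hsdef
  have hsW : s ∈ W := W.mul_mem hw hw
  have hsinv : s⁻¹ = s := inv_eq_of_mul_eq_one_right hs
  have fix4 : ∀ a ∈ Z₁, a * a * (a * a) = 1 → Commute s a := by
    intro a ha h4
    set c := a⁻¹ * (w * a * w⁻¹) with hcdef
    have hc : c ∈ Z₁ := Z₁.mul_mem (Z₁.inv_mem ha) (D.z1_conj w hw a ha)
    have e1 : w * a * w⁻¹ = a * c := by rw [hcdef]; group
    have e2 : w * (a * a) * w⁻¹ = a * a := by
      rw [(D.z1_inv _ (Z₁.mul_mem ha ha) h4 w).eq, mul_inv_cancel_right]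
    have e3 : a * c * (a * c) = a * a := by
      rw [← e1]
      calc w * a * w⁻¹ * (w * a * w⁻¹) = w * (a * a) * w⁻¹ := by group
        _ = _ := e2
    rw [(D.z1_comm c hc a ha).mul_mul_mul_comm] at e3
    have hcc : c * c = 1 := mul_eq_left.1 e3
    have e4 : s * a * s⁻¹ = a := by
      calc s * a * s⁻¹ = w * (w * a * w⁻¹) * w⁻¹ := by rw [hsdef]; group
        _ = w * (a * c) * w⁻¹ := by rw [e1]
        _ = w * a * w⁻¹ * (w * c * w⁻¹) := by group
        _ = a := by
          rw [(D.z1_inv c hc hcc w).eq, mul_inv_cancel_right, e1, mul_assoc, hcc, mul_one]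
    exact mul_inv_eq_iff_eq_mul.1 e4
  -- an element inverted by `s` squares to one
  have inverted : ∀ n : ℕ, ∀ a ∈ Z₁, a ^ 2 ^ n = 1 → s * a * s⁻¹ = a⁻¹ → a * a = 1 := by
    intro n
    induction n with
    | zero => intro a _ h1 _; rw [pow_zero, pow_one] at h1; rw [h1, one_mul]
    | succ n ih =>
      intro a ha h1 hinv
      have h4 : a * a * (a * a) = 1 := ih _ (Z₁.mul_mem ha ha) (by
        rw [← pow_two, ← pow_mul, ← pow_succ']; exact h1) (by
        calc s * (a * a) * s⁻¹ = s * a * s⁻¹ * (s * a * s⁻¹) := by group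
          _ = _ := by rw [hinv, mul_inv_rev])
      rw [(fix4 a ha h4).eq, mul_inv_cancel_right] at hinv
      exact eq_inv_iff_mul_eq_one.1 hinv
  have inverted' : ∀ a ∈ Z₁, s * a * s⁻¹ = a⁻¹ → a * a = 1 := fun a ha h => by
    obtain ⟨n, hn⟩ := hB.pg a
    exact inverted n a ha hn h
  -- the displacement `h`
  let h : T → T := fun a => s * a * s⁻¹ * a⁻¹
  have hmem : ∀ a ∈ Z₁, h a ∈ Z₁ := fun a ha =>
    Z₁.mul_mem (D.z1_conj s hsW a ha) (Z₁.inv_mem ha)
  have hsq : ∀ a ∈ Z₁, h a * h a = 1 := by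
    intro a ha
    refine inverted' _ (hmem a ha) ?_
    show s * (s * a * s⁻¹ * a⁻¹) * s⁻¹ = (s * a * s⁻¹ * a⁻¹)⁻¹
    rw [show s * (s * a * s⁻¹ * a⁻¹) * s⁻¹ = s * s * a * (s * s)⁻¹ * (s * a⁻¹ * s⁻¹) by group, hs]
    group
  have hmul : ∀ a ∈ Z₁, ∀ b ∈ Z₁, h (a * b) = h a * h b := by
    intro a ha b hb
    show s * (a * b) * s⁻¹ * (a * b)⁻¹ = h a * h b
    rw [show s * (a * b) * s⁻¹ * (a * b)⁻¹ = h a * (a * h b * a⁻¹) by simp only [h]; group,
      (D.z1_comm a ha _ (hmem b hb)).eq, mul_inv_cancel_right]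
  have hfix : ∀ o ∈ Z₁, o * o = 1 → h o = 1 := fun o ho hoo => by
    show s * o * s⁻¹ * o⁻¹ = 1
    rw [(fix4 o ho (by rw [hoo, one_mul])).eq]
    group
  have hinvar : ∀ g ∈ W, ∀ a ∈ Z₁, h (g * a * g⁻¹) = h a := by
    intro g hg a ha
    obtain ⟨η, hη, o, ho, hoo, e⟩ := D.hk g hg a ha
    rw [e, hmul _ (Z₁.mul_mem ha (Z₁.mul_mem hη hη)) o ho, hmul a ha _ (Z₁.mul_mem hη hη),
      hmul η hη η hη, hsq η hη, hfix o ho hoo, mul_one, mul_one]
  refine ⟨fix4, fun t => ?_⟩
  obtain ⟨q, hq, hqt⟩ := D.dec t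
  set g := q⁻¹ * t with hgdef
  set o := g * s * g⁻¹ * s⁻¹ with hodef
  have hgsW : o ∈ W := W.mul_mem (W.mul_mem (W.mul_mem hqt hsW) (W.inv_mem hqt)) (W.inv_mem hsW)
  have ho : o ∈ Z₁ := by
    refine D.selfc _ hgsW fun a ha => ?_
    have ha' : g⁻¹ * a * g ∈ Z₁ := by
      have := D.z1_conj g⁻¹ (W.inv_mem hqt) a ha
      rwa [inv_inv] at this
    have h1 : g * (h (g⁻¹ * a * g)) * g⁻¹ = h a := by
      have := hinvar g hqt _ ha'
      rw [show g * (g⁻¹ * a * g) * g⁻¹ = a by group] at this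
      rw [← this, (D.z1_inv _ (hmem a ha) (hsq a ha) g).eq, mul_inv_cancel_right]
    have h2 : g * s * g⁻¹ * a * (g * s * g⁻¹)⁻¹ = s * a * s⁻¹ := by
      calc g * s * g⁻¹ * a * (g * s * g⁻¹)⁻¹
          = g * (h (g⁻¹ * a * g)) * g⁻¹ * a := by simp only [h]; group
        _ = _ := by rw [h1]; simp only [h]; group
    have h3 : o * (s * a * s⁻¹) * o⁻¹ = s * a * s⁻¹ := by
      calc o * (s * a * s⁻¹) * o⁻¹ = g * s * g⁻¹ * a * (g * s * g⁻¹)⁻¹ := by rw [hodef]; group
        _ = _ := h2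
    have h4 : Commute o (s * a * s⁻¹) := mul_inv_eq_iff_eq_mul.1 h3
    have h5 : s * a * s⁻¹ = h a * a := by simp only [h]; group
    rw [h5] at h4
    have h6 : Commute o (h a) := D.z1_inv _ (hmem a ha) (hsq a ha) o
    have h7 := h6.inv_right.mul_right h4
    rwa [inv_mul_cancel_left] at h7
  have hoo : o * o = 1 := by
    refine inverted' o ho ?_
    have e : o * s * (o * s) = 1 := by
      calc o * s * (o * s) = g * (s * s) * g⁻¹ := by rw [hodef]; group
        _ = 1 := by rw [hs, mul_one, mul_inv_cancel]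
    rw [hsinv]
    refine eq_inv_of_mul_eq_one_right ?_
    rw [← e]; group
  refine ⟨o, ho, hoo, ?_⟩
  calc t * s * t⁻¹ = q * (g * s * g⁻¹) * q⁻¹ := by rw [hgdef]; group
    _ = q * (o * s) * q⁻¹ := by rw [hodef]; group
    _ = o * s := by
      rw [(D.commute_q hq (W.mul_mem (D.z1_le ho) hsW)).eq, mul_inv_cancel_right]

/-- The split configuration contradicts simplicity, by the Z*-theorem. -/
theorem Split.false_of_simple {G : Type*} [Group G] [Finite G] [IsSimpleGroup G]
    (hna : ¬ IsMulCommutative G) (P : Sylow 2 G) {z i j : P} {W Z₁ : Subgroup P}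
    (D : Split z i j W Z₁) (hsq : ∀ w ∈ W, w * w * (w * w) = 1 → ∀ t, Commute t (w * w))
    (hfix : ∀ α : MulAut P, α (α z) = z) : False := by
  haveI : Fact (Nat.Prime 2) := ⟨Nat.prime_two⟩
  have horder : orderOf (z : G) = 2 := orderOf_eq_prime
    (by rw [pow_two]; exact_mod_cast congrArg Subtype.val D.z_sq)
    (fun h => D.z_ne (Subtype.ext h))
  have hzc : ∀ t ∈ (P : Subgroup G), Commute t (z : G) := fun t ht =>
    congrArg Subtype.val (D.z_cen ⟨t, ht⟩).eq
  -- no other central element of `P` is conjugate to `z`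
  have hcentral : ∀ e : P, (∀ t, Commute t e) → (∃ g : G, g * z * g⁻¹ = e) → e = z := by
    rintro e he ⟨g, hg⟩
    obtain ⟨n, hn, hne⟩ := Cfsg.Agent.S0076.result P {(z : G)} {(e : G)}
      (Set.singleton_subset_iff.2 z.2) (Set.singleton_subset_iff.2 e.2)
      (fun x hx => by rw [Set.image_singleton, (hzc x hx).eq, mul_inv_cancel_right])
      (fun x hx => by
        have := congrArg Subtype.val (he ⟨x, hx⟩).eq
        rw [Set.image_singleton]
        change x * (e : G) = (e : G) * x at this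
        rw [this, mul_inv_cancel_right])
      g (by rw [Set.image_singleton, hg])
    rw [Set.image_singleton, Set.singleton_eq_singleton_iff] at hne
    let α : MulAut P := (P : Subgroup G).normalizerMonoidHom ⟨n, hn⟩
    have h2 : n * (n * (z : G) * n⁻¹) * n⁻¹ = z := congrArg Subtype.val (hfix α)
    have hcomm : Commute (n * n) (z : G) :=
      mul_inv_eq_iff_eq_mul.1 (by
        rw [show n * n * (z : G) * (n * n)⁻¹ = n * (n * (z : G) * n⁻¹) * n⁻¹ by group]; exact h2)
    obtain ⟨a, m, hm, hnm⟩ := Nat.exists_eq_pow_mul_and_not_dvd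
      (orderOf_pos n).ne' 2 (by norm_num)
    have hmP : n ^ m ∈ (P : Subgroup G) := by
      have hQ : IsPGroup 2 (Subgroup.zpowers (n ^ m)) := by
        refine IsPGroup.of_card (n := a) ?_
        rw [Nat.card_zpowers, orderOf_pow' n (by rintro rfl; simp at hm), hnm,
          Nat.gcd_mul_left_left, Nat.mul_div_cancel _ (by
            rcases Nat.eq_zero_or_pos m with h | h
            · exact absurd (h ▸ dvd_zero 2) hm
            · exact h)]
      have h3 : n ^ m ∈ Subgroup.zpowers (n ^ m) ⊓ Subgroup.normalizer ((P : Subgroup G) : Set G) :=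
        ⟨Subgroup.mem_zpowers _, pow_mem hn m⟩
      exact ((hQ.inf_normalizer_sylow P).le h3).2
    obtain ⟨b, hb⟩ := Nat.odd_iff.2 (Nat.two_dvd_ne_zero.1 hm)
    refine Subtype.ext ?_
    rw [← hne]
    have h4 : Commute (n ^ m) (z : G) := hzc _ hmP
    rw [hb, pow_succ, pow_mul, pow_two] at h4
    have h5 : Commute n (z : G) := by
      have h6 := (hcomm.pow_left b).inv_left.mul_left h4
      rwa [inv_mul_cancel_left] at h6
    rw [h5.eq, mul_inv_cancel_right]
  obtain ⟨N, hN, hodd, hcomm⟩ := CfsgLib.ZStar.exists_oddNormal_of_sylow P horder z.2 (by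
    intro g hgP
    set e : P := ⟨g * z * g⁻¹, hgP⟩ with he
    obtain ⟨q, hq, hqe⟩ := D.dec e
    -- an element with square `z` centralising `e`
    obtain ⟨x, hxe, hxx⟩ : ∃ x : P, Commute x e ∧ x * x = z := by
      have hce : Commute q (q⁻¹ * e) := D.commute_q hq hqe
      rcases hq with h | h | h | h <;> subst h
      · exact ⟨_, D.wi e (by simpa using hqe), D.ii⟩
      · exact ⟨_, by simpa using (Commute.refl _).mul_right hce, D.ii⟩
      · exact ⟨_, by simpa using (Commute.refl _).mul_right hce, D.jj⟩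
      · refine ⟨_, ?_, D.ijij⟩
        have := (Commute.refl _).mul_right hce
        rwa [mul_inv_cancel_left] at this
    obtain ⟨g', hg', hg'P⟩ := exists_conj_centralizer P (a := (e : G)) (g := g⁻¹)
      (show g⁻¹ * (g * (z : G) * g⁻¹) * g⁻¹⁻¹ = (z : G) by group) hzc
    set x' : P := ⟨g' * x * g'⁻¹, hg'P x x.2 (congrArg Subtype.val hxe.eq)⟩ with hx'
    have hval : ((x' * x' : P) : G) = g' * z * g'⁻¹ := by
      show g' * (x : G) * g'⁻¹ * (g' * x * g'⁻¹) = _
      rw [← congrArg Subtype.val hxx, Subgroup.coe_mul]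
      group
    obtain ⟨q', hq', hqw⟩ := D.dec x'
    have hcen : ∀ t, Commute t (x' * x') := by
      set w := q'⁻¹ * x' with hw
      have hx'w : x' * x' = q' * q' * (w * w) := by
        rw [← (D.commute_q hq' hqw).symm.mul_mul_mul_comm, hw, mul_inv_cancel_left]
      have hq2 : q' * q' = 1 ∨ q' * q' = z := by
        rcases hq' with rfl | rfl | rfl | rfl
        · exact Or.inl (one_mul 1)
        · exact Or.inr D.ii
        · exact Or.inr D.jj
        · exact Or.inr D.ijij
      have hqz : q' * q' * (q' * q') = 1 := by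
        rcases hq2 with h | h <;> rw [h]
        · exact one_mul 1
        · exact D.z_sq
      have hxx4 : x' * x' * (x' * x') = 1 := by
        refine Subtype.ext ?_
        rw [Subgroup.coe_mul, hval]
        show g' * (z : G) * g'⁻¹ * (g' * z * g'⁻¹) = 1
        rw [show g' * (z : G) * g'⁻¹ * (g' * z * g'⁻¹) = g' * ((z : G) * z) * g'⁻¹ by group,
          show (z : G) * z = 1 from congrArg Subtype.val D.z_sq, mul_one, mul_inv_cancel]
      have hqc : ∀ t, Commute t (q' * q') := fun t => by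
        rcases hq2 with h | h <;> rw [h]
        · exact Commute.one_right t
        · exact D.z_cen t
      have hw4 : w * w * (w * w) = 1 := by
        rw [hx'w, ((hqc (w * w))).mul_mul_mul_comm, hqz, one_mul] at hxx4
        exact hxx4
      intro t
      rw [hx'w]
      exact (hqc t).mul_right (hsq w hqw hw4 t)
    have hfixz : g' * (z : G) * g'⁻¹ = z := by
      have := congrArg Subtype.val (hcentral (x' * x') hcen ⟨g', hval.symm⟩)
      rwa [hval] at this
    have : g' * (e : G) * g'⁻¹ = g' * z * g'⁻¹ := hg'.trans hfixz.symm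
    exact mul_left_cancel (mul_right_cancel this))
  rcases IsSimpleGroup.eq_bot_or_eq_top_of_normal N hN with rfl | rfl
  · have hc : (z : G) ∈ Subgroup.center G := Subgroup.mem_center_iff.2 fun g => by
      have := hcomm g
      rw [Subgroup.mem_bot, mul_inv_eq_one, mul_inv_eq_iff_eq_mul] at this
      exact this.symm
    rcases IsSimpleGroup.eq_bot_or_eq_top_of_normal (Subgroup.center G) inferInstance with h | h
    · rw [h, Subgroup.mem_bot] at hc
      exact D.z_ne (Subtype.ext hc)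
    · exact hna ⟨⟨fun a b => (Subgroup.mem_center_iff.1 (h ▸ Subgroup.mem_top b) a)⟩⟩
  · rw [Subgroup.card_top] at hodd
    have h2 : 2 ∣ Nat.card G := horder ▸ orderOf_dvd_natCard (z : G)
    exact (Nat.not_even_iff_odd.2 hodd) (even_iff_two_dvd.2 h2)

theorem HasSplit.false_of_simple {G : Type*} [Group G] [Finite G] [IsSimpleGroup G]
    (hna : ¬ IsMulCommutative G) (P : Sylow 2 G) (h : HasSplit P) : False := by
  obtain ⟨z, i, j, W, Z₁, D, hsq, hfix⟩ := h
  exact D.false_of_simple hna P hsq hfix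

end CfsgLib.NormalRankTwoAut
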