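import Cfsg.Agent.NormalRankTwoAut.Defect
import Cfsg.Agent.NormalRankTwoAut.Split

/-!
# The case of a cyclic `Z(K)`
-/

set_option autoImplicit false

namespace CfsgLib.NormalRankTwoAut

open Subgroup

variable {T : Type*} [Group T] [Finite T]

/-- If `Z(K)` has a single involution, the group splits over a quaternion pair. -/
theorem hasSplit_of_cyclic (hB : Base T) {Z M : Subgroup T} (S : Setup Z M) {φ : MulAut T}
    (hφ : Odd (orderOf φ)) (hne : φ ≠ 1) {E : Subgroup T}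
    (hEc : ∀ a ∈ E, ∀ b ∈ E, Commute a b) (hE1 : ∀ a ∈ E, a * a = 1) (hE8 : 8 ≤ Nat.card E)
    (h2 : Nat.card (omega Z) = 2) : HasSplit T := by
  classical
  haveI := S.zchar
  haveI := S.mchar
  have hZn : Z.Normal := inferInstance
  have hMn : M.Normal := inferInstance
  have hc := S.zcomm
  obtain ⟨v, hvΩ, hv1⟩ : ∃ v ∈ omega Z, v ≠ 1 := by
    by_contra h
    push Not at h
    rw [show omega Z = ⊥ from eq_bot_iff.2 fun x hx => Subgroup.mem_bot.2 (h x hx),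
      Subgroup.card_bot] at h2
    omega
  obtain ⟨z, hz, hz1, hzz, hzc'⟩ := hB.exists_central_involution Z (omega_le Z hvΩ) hv1
  have hzc : ∀ t, Commute t z := hzc'
  have huniq : ∀ a ∈ Z, a * a = 1 → a = 1 ∨ a = z := by
    intro a ha haa
    by_contra h
    push Not at h
    have hsub : ({1, z, a} : Set T) ⊆ (omega Z : Set T) := by
      intro x hx
      rcases hx with rfl | rfl | rfl
      · exact one_mem _
      · exact (mem_omega hc).2 ⟨hz, hzz⟩
      · exact (mem_omega hc).2 ⟨ha, haa⟩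
    have h3 := Set.ncard_le_ncard hsub (Set.toFinite _)
    rw [Set.ncard_eq_three.2 ⟨1, z, a, hz1.symm, h.1.symm, h.2.symm, rfl⟩,
      ← Nat.card_coe_set_eq] at h3
    have h3' : 3 ≤ Nat.card (omega Z) := h3
    omega
  have hαz : ∀ α : MulAut T, α z = z := by
    intro α
    refine (huniq _ (map_mem_of_characteristic S.zchar α hz)
      (by rw [← map_mul, hzz, map_one])).resolve_left fun h => hz1 (α.injective (h.trans ?_))
    exact (map_one α).symm
  have hZfix : ∀ a ∈ Z, φ a = a := hB.fixed_of_fixed_involutions hφ hc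
    (fun a ha => map_mem_of_characteristic S.zchar φ ha) fun a ha haa => by
      rcases huniq a ha haa with rfl | rfl
      · exact map_one φ
      · exact hαz φ
  -- an element of order four of `Z`
  obtain ⟨w₀, hw₀, hw₀z⟩ : ∃ w ∈ Z, w * w = z := by
    by_contra hno
    push Not at hno
    have hZ2 : ∀ a ∈ Z, a * a = 1 := by
      intro a ha
      by_contra haa
      obtain ⟨k, hk1, hk2⟩ := hB.exists_pow_sq haa
      have hk : (a * a) ^ k = z :=
        (huniq _ (Z.pow_mem (Z.mul_mem ha ha) k) hk2).resolve_left hk1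
      refine hno (a ^ k) (Z.pow_mem ha k) ?_
      rw [← hk, (Commute.refl a).mul_pow]
    have hM : ∀ t : T, t ∈ M := fun t => S.mem_m t fun a ha => by
      rcases huniq a ha (hZ2 a ha) with rfl | rfl
      · exact Commute.one_right t
      · exact hzc t
    obtain ⟨x, hxE, hxn⟩ : ∃ x ∈ E, x ∉ ({1, z} : Set T) := by
      by_contra h
      push Not at h
      have h3 := Set.ncard_le_ncard (show (E : Set T) ⊆ {1, z} from h) (Set.toFinite _)
      rw [Set.ncard_pair hz1.symm, ← Nat.card_coe_set_eq] at h3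
      have h3' : Nat.card E ≤ 2 := h3
      omega
    simp only [Set.mem_insert_iff, Set.mem_singleton_iff, not_or] at hxn
    obtain ⟨y, hyE, hyn⟩ : ∃ y ∈ E, y ∉ ({1, z, x, z * x} : Set T) := by
      by_contra h
      push Not at h
      have h3 := Set.ncard_le_ncard (show (E : Set T) ⊆ {1, z, x, z * x} from h) (Set.toFinite _)
      rw [← Nat.card_coe_set_eq] at h3
      have h4 := Set.ncard_insert_le (1 : T) {z, x, z * x}
      have h5 := Set.ncard_insert_le z ({x, z * x} : Set T)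
      have h6 := Set.ncard_insert_le x ({z * x} : Set T)
      rw [Set.ncard_singleton] at h6
      have h3' : Nat.card E ≤ ({1, z, x, z * x} : Set T).ncard := h3
      omega
    simp only [Set.mem_insert_iff, Set.mem_singleton_iff, not_or] at hyn
    have hin : ∀ a t : T, t * a * t⁻¹ * a⁻¹ = 1 ∨ t * a * t⁻¹ * a⁻¹ = z := fun a t =>
      huniq _ (S.comm t (hM t) a (hM a)) (S.comm_sq t (hM t) a (hM a))
    exact hB.false_of_four hzc hz1 hzz (hE1 x hxE) hxn (hin x) (hE1 y hyE) hyn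
      (hEc y hyE x hxE) fun t => (hin y t).imp_right Or.inl
  have hw₀4 : w₀ * w₀ * (w₀ * w₀) = 1 := by rw [hw₀z, hzz]
  -- squares
  set L := sqs Z with hL
  have hzL : z ∈ L := hw₀z ▸ mul_self_mem_sqs hw₀
  have hLn : L.Normal := sqs_normal hc
  have hcommL : ∀ m ∈ M, ∀ n ∈ M, m * n * m⁻¹ * n⁻¹ ∈ L := by
    intro m hm n hn
    rcases huniq _ (S.comm m hm n hn) (S.comm_sq m hm n hn) with h | h <;> rw [h]
    · exact L.one_mem
    · exact hzL
  have hrep : ∀ p ∈ M, p * p ∈ L → ∃ ζ ∈ Z, p * ζ⁻¹ * (p * ζ⁻¹) = 1 := by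
    intro p hp hpp
    obtain ⟨ζ, hζ, h⟩ := (mem_sqs hc).1 hpp
    refine ⟨ζ, hζ, ?_⟩
    rw [(S.cent p hp _ (Z.inv_mem hζ)).symm.mul_mul_mul_comm, ← h]
    group
  have hinM : ∀ x ∈ M, x * x = 1 → ∀ t : T, t * x * t⁻¹ * x⁻¹ ∈ Z →
      t * x * t⁻¹ * x⁻¹ = 1 ∨ t * x * t⁻¹ * x⁻¹ = z := fun x hx hxx t h =>
    huniq _ h (comm_sq_one (S.cent x hx _ h).symm (by rw [hxx]; exact Commute.one_right t))
  -- the displacement subgroup
  set P := defect φ Z M with hP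
  haveI hPn : P.Normal := S.defect_normal hZfix
  have hPM : P ≤ M := S.defect_le φ
  have hPL : ∀ p ∈ P, p * p ∈ L :=
    S.sq_mem_of_defect hZfix L (fun a ha => mul_self_mem_sqs ha) hcommL
  obtain ⟨p₀, hp₀, hp₀mv⟩ := S.exists_moved_defect hB hφ hne hZfix
  have hp₀Z : p₀ ∉ Z := fun h => hp₀mv (by rw [hZfix p₀ h, inv_mul_cancel]; exact Z.one_mem)
  obtain ⟨x₁, hx₁, hx₁Z, hx₁t⟩ := hB.exists_fixed_mod Z P hp₀ hp₀Z
  obtain ⟨ζ₁, hζ₁, hxx'⟩ := hrep x₁ (hPM hx₁) (hPL x₁ hx₁)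
  set x := x₁ * ζ₁⁻¹ with hxdef
  have hx : x ∈ P := P.mul_mem hx₁ (le_defect φ (Z.inv_mem hζ₁))
  have hxM : x ∈ M := hPM hx
  have hxx : x * x = 1 := hxx'
  have hxZ : x ∉ Z := fun h => hx₁Z ((Z.mul_mem_cancel_right (Z.inv_mem hζ₁)).1 h)
  have hxtZ : ∀ t : T, t * x * t⁻¹ * x⁻¹ ∈ Z := fun t => by
    have hd : t * ζ₁⁻¹ * t⁻¹ * ζ₁ ∈ Z := Z.mul_mem (hZn.conj_mem _ (Z.inv_mem hζ₁) t) hζ₁
    rw [show t * x * t⁻¹ * x⁻¹ =
      (t * x₁ * t⁻¹ * x₁⁻¹) * (x₁ * (t * ζ₁⁻¹ * t⁻¹ * ζ₁) * x₁⁻¹) by rw [hxdef]; group]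
    exact Z.mul_mem (hx₁t t) (hZn.conj_mem _ hd x₁)
  have hxt := fun t => hinM x hxM hxx t (hxtZ t)
  have hx1 : x ≠ 1 ∧ x ≠ z := ⟨fun h => hxZ (h ▸ Z.one_mem), fun h => hxZ (h ▸ hz)⟩
  -- `Z⟨x⟩` and the centraliser of `x` in `P` coincide
  set N := Z ⊔ Subgroup.zpowers x with hN
  have hNcases : ∀ a ∈ N, ∃ ζ ∈ Z, a = ζ ∨ a = ζ * x := by
    intro a ha
    obtain ⟨ζ, hζ, b, hb, rfl⟩ := Subgroup.mem_sup_of_normal_left.1 ha
    rcases mem_zpowers_of_sq hxx hb with rfl | rfl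
    · exact ⟨ζ, hζ, Or.inl (mul_one ζ)⟩
    · exact ⟨ζ, hζ, Or.inr rfl⟩
  have hxN : x ∈ N := Subgroup.mem_sup_right (Subgroup.mem_zpowers x)
  haveI hNn : N.Normal := by
    refine ⟨fun a ha t => ?_⟩
    obtain ⟨ζ, hζ, rfl | rfl⟩ := hNcases a ha
    · exact Subgroup.mem_sup_left (hZn.conj_mem _ hζ t)
    · rw [show t * (ζ * x) * t⁻¹ = t * ζ * t⁻¹ * (t * x * t⁻¹ * x⁻¹ * x) by group]
      exact N.mul_mem (Subgroup.mem_sup_left (hZn.conj_mem _ hζ t))
        (N.mul_mem (Subgroup.mem_sup_left (hxtZ t)) hxN)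
  set C := P ⊓ Subgroup.centralizer ({x} : Set T) with hCdef
  have hCiff : ∀ a, a ∈ C ↔ a ∈ P ∧ Commute a x := fun a => by
    rw [hCdef, Subgroup.mem_inf, Subgroup.mem_centralizer_singleton_iff]; rfl
  haveI hCn : C.Normal := by
    refine ⟨fun a ha t => ?_⟩
    rw [hCiff] at ha ⊢
    refine ⟨hPn.conj_mem a ha.1 t, ?_⟩
    have h1 : Commute (t * a * t⁻¹) (t * x * t⁻¹) := ha.2.map (MulAut.conj t).toMonoidHom
    have h2 : Commute (t * a * t⁻¹) (t * x * t⁻¹ * x⁻¹) :=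
      S.cent _ (hMn.conj_mem a (hPM ha.1) t) _ (hxtZ t)
    have h3 := h2.inv_right.mul_right h1
    rwa [show (t * x * t⁻¹ * x⁻¹)⁻¹ * (t * x * t⁻¹) = x by group] at h3
  have hCN : ∀ a ∈ C, a ∈ N := by
    intro a ha
    by_contra haN
    obtain ⟨y₀, hy₀, hy₀N, hy₀t⟩ := hB.exists_fixed_mod N C ha haN
    obtain ⟨hy₀P, hy₀x⟩ := (hCiff y₀).1 hy₀
    obtain ⟨η, hη, hyy⟩ := hrep y₀ (hPM hy₀P) (hPL y₀ hy₀P)
    set y := y₀ * η⁻¹ with hy
    have hyN : y ∉ N := fun h =>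
      hy₀N ((N.mul_mem_cancel_right (Subgroup.mem_sup_left (Z.inv_mem hη))).1 h)
    have hyx : Commute y x := hy₀x.mul_left (S.cent x hxM _ (Z.inv_mem hη)).symm
    have hyM : y ∈ M := M.mul_mem (hPM hy₀P) (S.zm (Z.inv_mem hη))
    refine hB.false_of_four hzc hz1 hzz hxx hx1 hxt hyy
      ⟨fun h => hyN (h ▸ N.one_mem), fun h => hyN (h ▸ Subgroup.mem_sup_left hz),
        fun h => hyN (h ▸ hxN), fun h => hyN (h ▸ N.mul_mem (Subgroup.mem_sup_left hz) hxN)⟩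
      hyx fun t => ?_
    have hct : t * y * t⁻¹ * y⁻¹ ∈ N := by
      have hd : t * η⁻¹ * t⁻¹ * η ∈ Z := Z.mul_mem (hZn.conj_mem _ (Z.inv_mem hη) t) hη
      rw [show t * y * t⁻¹ * y⁻¹ =
        (t * y₀ * t⁻¹ * y₀⁻¹) * (y₀ * (t * η⁻¹ * t⁻¹ * η) * y₀⁻¹) by rw [hy]; group]
      exact N.mul_mem (hy₀t t) (Subgroup.mem_sup_left (hZn.conj_mem _ hd y₀))
    obtain ⟨θ, hθ, h | h⟩ := hNcases _ hct
    · exact (hinM y hyM hyy t (h ▸ hθ)).imp_right Or.inl
    · have hyθ : Commute (θ * x) y := (S.cent y hyM θ hθ).symm.mul_left hyx.symm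
      have h2 := comm_sq_one (t := t) (x := y) (h ▸ hyθ) (by rw [hyy]; exact Commute.one_right t)
      rw [h, (S.cent x hxM θ hθ).mul_mul_mul_comm, hxx, mul_one] at h2
      rcases huniq θ hθ h2 with rfl | rfl
      · exact Or.inr (Or.inr (Or.inl (by rw [h, one_mul])))
      · exact Or.inr (Or.inr (Or.inr h))
  have hcard : Nat.card (P.map (QuotientGroup.mk' Z)) ≤ 4 := by
    have hcases : ∃ b : T, ∀ p ∈ P, p ∈ N ∨ b⁻¹ * p ∈ N := by
      by_cases hb : ∃ b ∈ P, ¬ Commute b x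
      · obtain ⟨b, hb, hbx⟩ := hb
        refine ⟨b, fun p hp => ?_⟩
        by_cases hpx : Commute p x
        · exact Or.inl (hCN p ((hCiff p).2 ⟨hp, hpx⟩))
        refine Or.inr (hCN _ ((hCiff _).2 ⟨P.mul_mem (P.inv_mem hb) hp, ?_⟩))
        have hval : ∀ q ∈ P, ¬ Commute q x → q * x * q⁻¹ = z * x := by
          intro q hq hqx
          rcases hxt q with h | h
          · exact absurd (mul_inv_eq_iff_eq_mul.1 (mul_inv_eq_one.1 h)) hqx
          · rw [← h]; group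
        have e : b⁻¹ * p * x * (b⁻¹ * p)⁻¹ = x := by
          calc b⁻¹ * p * x * (b⁻¹ * p)⁻¹ = b⁻¹ * (p * x * p⁻¹) * b := by group
            _ = b⁻¹ * (b * x * b⁻¹) * b := by rw [hval p hp hpx, hval b hb hbx]
            _ = x := by group
        exact mul_inv_eq_iff_eq_mul.1 e
      · push Not at hb
        exact ⟨1, fun p hp => Or.inl (hCN p ((hCiff p).2 ⟨hp, hb p hp⟩))⟩
    obtain ⟨b, hb⟩ := hcases
    set xb : T ⧸ Z := (x : T ⧸ Z) with hxb
    set bb : T ⧸ Z := (b : T ⧸ Z) with hbb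
    have hsub : (P.map (QuotientGroup.mk' Z) : Set (T ⧸ Z)) ⊆ {1, xb, bb, bb * xb} := by
      rintro _ ⟨p, hp, rfl⟩
      have key : ∀ n ∈ N, (n : T ⧸ Z) = 1 ∨ (n : T ⧸ Z) = xb := by
        intro n hn
        obtain ⟨θ, hθ, rfl | rfl⟩ := hNcases n hn
        · exact Or.inl ((QuotientGroup.eq_one_iff _).2 hθ)
        · exact Or.inr (by rw [QuotientGroup.mk_mul, (QuotientGroup.eq_one_iff θ).2 hθ, one_mul])
      simp only [Set.mem_insert_iff, Set.mem_singleton_iff, QuotientGroup.mk'_apply]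
      rcases hb p hp with h | h
      · rcases key p h with e | e
        · exact Or.inl e
        · exact Or.inr (Or.inl e)
      · rcases key _ h with e | e <;>
          rw [QuotientGroup.mk_mul, QuotientGroup.mk_inv, inv_mul_eq_iff_eq_mul] at e
        · exact Or.inr (Or.inr (Or.inl (by rw [e, mul_one])))
        · exact Or.inr (Or.inr (Or.inr e))
    have h1 := Set.ncard_le_ncard hsub (Set.toFinite _)
    have h4 := Set.ncard_insert_le (1 : T ⧸ Z) {xb, bb, bb * xb}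
    have h5 := Set.ncard_insert_le xb ({bb, bb * xb} : Set (T ⧸ Z))
    have h6 := Set.ncard_insert_le bb ({bb * xb} : Set (T ⧸ Z))
    rw [Set.ncard_singleton] at h6
    rw [← Nat.card_coe_set_eq] at h1
    exact le_trans h1 (by omega)
  have hZinv : ∀ a ∈ Z, φ a ∈ Z := fun a ha => map_mem_of_characteristic S.zchar φ ha
  have horb₀ := (orbit_of_four hφ Z P hZinv (le_defect φ) (S.apply_mem_defect φ) hcard hp₀ hp₀mv).2
  have hxmv : x⁻¹ * φ x ∉ Z := (horb₀ x hx hxZ).1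
  obtain ⟨-, horb⟩ := orbit_of_four hφ Z P hZinv (le_defect φ) (S.apply_mem_defect φ) hcard hx hxmv
  have htriv := S.trivial_on_four hZfix hPM hx (fun v hv hvZ => (horb v hv hvZ).2) hxtZ
  set y := φ x with hydef
  have hy : y ∈ P := S.apply_mem_defect φ x hx
  have hyM : y ∈ M := hPM hy
  have hyy : y * y = 1 := by rw [hydef, ← map_mul, hxx, map_one]
  have hyt := fun t => hinM y hyM hyy t (htriv y hy t)
  have hcxy : x * y * x⁻¹ * y⁻¹ = z := by
    rcases huniq _ (S.comm x hxM y hyM) (S.comm_sq x hxM y hyM) with h | h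
    · exfalso
      have hyZ : y ∉ Z := fun h' => hxZ (by
        have e : φ y = y := hZfix y h'
        rw [hydef] at h' e
        exact φ.injective e ▸ h')
      refine hB.false_of_four hzc hz1 hzz hxx hx1 hxt hyy
        ⟨fun h' => hyZ (h' ▸ Z.one_mem), fun h' => hyZ (h' ▸ hz), fun h' => hxmv ?_,
          fun h' => hxmv ?_⟩
        (mul_inv_eq_iff_eq_mul.1 (mul_inv_eq_one.1 h)).symm fun t => (hyt t).imp_right Or.inl
      · rw [h', inv_mul_cancel]; exact Z.one_mem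
      · rw [h', (hzc x).symm.eq, inv_mul_cancel_left]; exact hz
    · exact h
  -- the quaternion pair
  set i := x * w₀ with hidef
  set j := y * w₀ with hjdef
  have hφi : φ i = j := by rw [hidef, map_mul, hZfix w₀ hw₀]
  have hii : i * i = z := by
    rw [hidef, (S.cent x hxM w₀ hw₀).symm.mul_mul_mul_comm, hxx, hw₀z, one_mul]
  have hjj : j * j = z := by
    rw [hjdef, (S.cent y hyM w₀ hw₀).symm.mul_mul_mul_comm, hyy, hw₀z, one_mul]
  have hiM : i ∈ M := M.mul_mem hxM (S.zm hw₀)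
  have hjM : j ∈ M := M.mul_mem hyM (S.zm hw₀)
  have hcij : i * j * i⁻¹ * j⁻¹ = z := by
    calc i * j * i⁻¹ * j⁻¹ = x * (w₀ * y) * (w₀ * w₀⁻¹) * x⁻¹ * w₀⁻¹ * y⁻¹ := by
          rw [hidef, hjdef]; group
      _ = x * (y * w₀) * (w₀ * w₀⁻¹) * (w₀⁻¹ * x⁻¹) * y⁻¹ := by
          rw [(S.cent y hyM w₀ hw₀).symm.eq, mul_assoc _ x⁻¹ w₀⁻¹,
            (S.cent _ (M.inv_mem hxM) _ (Z.inv_mem hw₀)).eq]
      _ = x * y * x⁻¹ * y⁻¹ := by group
      _ = z := hcxy
  have hijij : i * j * (i * j) = z := by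
    calc i * j * (i * j) = i * j * i⁻¹ * j⁻¹ * (j * (i * i) * j) := by group
      _ = z * (z * (j * j)) := by rw [hcij, hii, (hzc j).eq]; group
      _ = z := by rw [hjj, hzz, mul_one]
  have hw₀t : ∀ t : T, t * w₀ * t⁻¹ * w₀⁻¹ = 1 ∨ t * w₀ * t⁻¹ * w₀⁻¹ = z := fun t => by
    have hmem : t * w₀ * t⁻¹ * w₀⁻¹ ∈ Z := Z.mul_mem (hZn.conj_mem _ hw₀ t) (Z.inv_mem hw₀)
    exact huniq _ hmem (comm_sq_one (hc _ hmem _ hw₀) (by rw [hw₀z]; exact hzc t))
  have hpair : ∀ u ∈ M, (∀ t : T, t * u * t⁻¹ * u⁻¹ = 1 ∨ t * u * t⁻¹ * u⁻¹ = z) →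
      ∀ t : T, t * (u * w₀) * t⁻¹ = u * w₀ ∨ t * (u * w₀) * t⁻¹ = z * (u * w₀) := by
    intro u _ hu t
    have e : t * (u * w₀) * t⁻¹ =
        (t * u * t⁻¹ * u⁻¹) * u * ((t * w₀ * t⁻¹ * w₀⁻¹) * w₀) := by group
    rw [e]
    rcases hu t with h | h <;> rcases hw₀t t with h' | h' <;> rw [h, h']
    · left; simp
    · right; rw [one_mul, ← mul_assoc, (hzc u).eq, mul_assoc]
    · right; rw [one_mul, mul_assoc]
    · left
      rw [mul_assoc z u, ← mul_assoc u z, (hzc u).eq, mul_assoc z u, ← mul_assoc z z, hzz, one_mul]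
  obtain ⟨hWn, hdec⟩ :=
    pair_dec hzc hzz hii hjj hijij (hpair x hxM hxt) (hpair y hyM hyt)
  set W := Subgroup.centralizer ({i, j} : Set T) with hWdef
  haveI := hWn
  have hWiff : ∀ w, w ∈ W ↔ Commute i w ∧ Commute j w := fun w => by
    rw [hWdef, Subgroup.mem_centralizer_iff]
    refine ⟨fun h => ⟨h i (Set.mem_insert _ _), h j (Set.mem_insert_of_mem _ rfl)⟩,
      fun h g hg => ?_⟩
    rcases hg with rfl | rfl
    · exact h.1
    · exact h.2
  have hiW : i ∉ W := fun h => hz1 (by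
    rw [← hcij, ← ((hWiff i).1 h).2.eq, mul_inv_cancel_right, mul_inv_cancel])
  have hZW : Z ≤ W := fun a ha => (hWiff a).2 ⟨S.cent i hiM a ha, S.cent j hjM a ha⟩
  set Z₁ := W ⊓ M with hZ₁def
  haveI : Z₁.Normal := inferInstanceAs (W ⊓ M).Normal
  have hxW : ∀ u, u ∈ W → x ≠ u := by
    intro u hu h
    exact hiW (hidef ▸ W.mul_mem (h ▸ hu) (hZW hw₀))
  -- squares in `L` only inside `Z`
  have hN' : ∀ m ∈ Z₁, m * m ∈ L → m ∈ Z := by
    let N' : Subgroup T :=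
      { carrier := {m | m ∈ Z₁ ∧ m * m ∈ L}
        one_mem' := ⟨Z₁.one_mem, by rw [one_mul]; exact L.one_mem⟩
        mul_mem' := fun {a b} ha hb => ⟨Z₁.mul_mem ha.1 hb.1, by
          have e : a * b * (a * b) =
              a * (b * a * b⁻¹ * a⁻¹) * a⁻¹ * (a * a * (b * b)) := by group
          rw [e]
          exact L.mul_mem (hLn.conj_mem _ (hcommL b hb.1.2 a ha.1.2) a) (L.mul_mem ha.2 hb.2)⟩
        inv_mem' := fun {a} ha => ⟨Z₁.inv_mem ha.1, by rw [← mul_inv_rev]; exact L.inv_mem ha.2⟩ }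
    have hN'mem : ∀ a, a ∈ N' ↔ a ∈ Z₁ ∧ a * a ∈ L := fun _ => Iff.rfl
    haveI : N'.Normal := ⟨fun a ha t => by
      rw [hN'mem] at ha ⊢
      refine ⟨(inferInstance : Z₁.Normal).conj_mem a ha.1 t, ?_⟩
      rw [show t * a * t⁻¹ * (t * a * t⁻¹) = t * (a * a) * t⁻¹ by group]
      exact hLn.conj_mem _ ha.2 t⟩
    intro m hm hmm
    by_contra hmZ
    obtain ⟨a, ha, haZ, hat⟩ := hB.exists_fixed_mod Z N' ((hN'mem m).2 ⟨hm, hmm⟩) hmZ
    obtain ⟨⟨haW, haM⟩, haa⟩ := (hN'mem a).1 ha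
    obtain ⟨θ, hθ, hbb'⟩ := hrep a haM haa
    set b := a * θ⁻¹ with hb
    have hbM : b ∈ M := M.mul_mem haM (S.zm (Z.inv_mem hθ))
    have hbW : b ∈ W := W.mul_mem haW (hZW (Z.inv_mem hθ))
    have hbZ : b ∉ Z := fun h => haZ ((Z.mul_mem_cancel_right (Z.inv_mem hθ)).1 h)
    have hbt : ∀ t : T, t * b * t⁻¹ * b⁻¹ ∈ Z := fun t => by
      have hd : t * θ⁻¹ * t⁻¹ * θ ∈ Z := Z.mul_mem (hZn.conj_mem _ (Z.inv_mem hθ) t) hθ
      rw [show t * b * t⁻¹ * b⁻¹ = (t * a * t⁻¹ * a⁻¹) * (a * (t * θ⁻¹ * t⁻¹ * θ) * a⁻¹) by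
        rw [hb]; group]
      exact Z.mul_mem (hat t) (hZn.conj_mem _ hd a)
    refine hB.false_of_four hzc hz1 hzz hbb' ⟨fun h => hbZ (h ▸ Z.one_mem), fun h => hbZ (h ▸ hz)⟩
      (fun t => hinM b hbM hbb' t (hbt t)) hxx
      ⟨hx1.1, hx1.2, hxW b hbW, hxW _ (W.mul_mem (hZW hz) hbW)⟩ ?_
      fun t => (hxt t).imp_right Or.inl
    have h1 : Commute i b := ((hWiff b).1 hbW).1
    have h2 : Commute w₀ b := (S.cent b hbM w₀ hw₀).symm
    have h3 := h1.mul_left h2.inv_left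
    rwa [hidef, mul_inv_cancel_right] at h3
  have hZ₁cases : ∀ m ∈ Z₁, ∀ n ∈ Z₁, m ∉ Z → n ∉ Z → m * n ∈ Z := by
    intro m hm n hn hmZ hnZ
    have hsqo : sqo Z = L := by
      refine le_antisymm (sup_le le_rfl fun a ha => ?_) le_sup_left
      obtain ⟨haZ, haa⟩ := (mem_omega hc).1 ha
      rcases huniq a haZ haa with rfl | rfl
      · exact L.one_mem
      · exact hzL
    refine hN' _ (Z₁.mul_mem hm hn) ?_
    have e : m * n * (m * n) = m * (n * m * n⁻¹ * m⁻¹) * m⁻¹ * (m * m * (n * n)) := by group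
    rw [e]
    refine L.mul_mem (hLn.conj_mem _ (hcommL n hn.2 m hm.2) m) ?_
    rw [← hsqo]
    refine two_sqo hc (Or.inl h2) _ (S.sq m hm.2) _ (S.sq n hn.2) ?_ ?_ <;> rw [hsqo]
    · exact fun h => hmZ (hN' m hm h)
    · exact fun h => hnZ (hN' n hn h)
  have hZ₁c : ∀ a ∈ Z₁, ∀ b ∈ Z₁, Commute a b := by
    intro a ha b hb
    by_cases haZ : a ∈ Z
    · exact (S.cent b hb.2 a haZ).symm
    by_cases hbZ : b ∈ Z
    · exact S.cent a ha.2 b hbZ
    have h1 := S.cent a ha.2 _ (hZ₁cases a ha b hb haZ hbZ)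
    have h2 := (Commute.refl a).inv_right.mul_right h1
    rwa [inv_mul_cancel_left] at h2
  have hinv₁ : ∀ a ∈ Z₁, a * a = 1 → a = 1 ∨ a = z := fun a ha haa =>
    huniq a (hN' a ha (by rw [haa]; exact L.one_mem)) haa
  have hΩ₁ : Nat.card (omega Z₁) = 2 := by
    have hset : (omega Z₁ : Set T) = {1, z} := by
      ext a
      simp only [SetLike.mem_coe, Set.mem_insert_iff, Set.mem_singleton_iff, mem_omega hZ₁c]
      refine ⟨fun h => hinv₁ a h.1 h.2, ?_⟩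
      rintro (rfl | rfl)
      · exact ⟨Z₁.one_mem, one_mul 1⟩
      · exact ⟨⟨hZW hz, S.zm hz⟩, hzz⟩
    rw [← SetLike.coe_sort_coe, Nat.card_coe_set_eq, hset, Set.ncard_pair hz1.symm]
  have D : Split z i j W Z₁ :=
    { z_ne := hz1
      z_sq := hzz
      z_cen := hzc
      ii := hii
      jj := hjj
      ijij := hijij
      wi := fun w hw => ((hWiff w).1 hw).1
      wj := fun w hw => ((hWiff w).1 hw).2
      dec := hdec
      z1_le := inf_le_left
      z1_comm := hZ₁c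
      selfc := fun w hw h => ⟨hw, S.mem_m w fun a ha => h a ⟨hZW ha, S.zm ha⟩⟩
      z1_inv := fun a ha haa t => by
        rcases hinv₁ a ha haa with rfl | rfl
        · exact Commute.one_right t
        · exact hzc t
      hk := fun g _ a ha => hk_of_two hZ₁c (Or.inl hΩ₁) g a ha
      z1_conj := fun g _ a ha => (inferInstance : Z₁.Normal).conj_mem a ha g }
  refine ⟨z, i, j, W, Z₁, D, fun w hw hs => ?_, fun α => by rw [hαz, hαz]⟩
  by_cases hsZ : w * w ∈ Z₁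
  · exact D.z1_inv _ hsZ hs
  obtain ⟨hfix4, hst⟩ := D.square_data hB hw hs
  exfalso
  have hsW : w * w ∈ W := W.mul_mem hw hw
  refine hB.false_of_four hzc hz1 hzz hs
    ⟨fun h => hsZ (h ▸ Z₁.one_mem), fun h => hsZ (h ▸ ⟨hZW hz, S.zm hz⟩)⟩ (fun t => ?_) hxx
    ⟨hx1.1, hx1.2, hxW _ hsW, hxW _ (W.mul_mem (hZW hz) hsW)⟩ ?_ fun t => (hxt t).imp_right Or.inl
  · obtain ⟨o, ho, hoo, e⟩ := hst t
    rw [e, mul_inv_cancel_right]
    exact hinv₁ o ho hoo
  · have h1 : Commute i (w * w) := ((hWiff _).1 hsW).1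
    have h2 : Commute w₀ (w * w) := (hfix4 w₀ ⟨hZW hw₀, S.zm hw₀⟩ hw₀4).symm
    have h3 := h1.mul_left h2.inv_left
    rwa [hidef, mul_inv_cancel_right] at h3

end CfsgLib.NormalRankTwoAut
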