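import Cfsg.Agent.NormalRankTwoAut.Squares

/-!
# Tools for the cases where the automorphism fixes `Z(K)` pointwise
-/

set_option autoImplicit false

namespace CfsgLib.NormalRankTwoAut

open Subgroup

variable {T : Type*} [Group T]

/-- The basic contradiction, phrased with a central involution and a second involution. -/
theorem Base.false_of_four [Finite T] (hB : Base T) {z a x : T} (hz : ∀ t, Commute t z) (hz1 : z ≠ 1)
    (hzz : z * z = 1) (haa : a * a = 1) (ha : a ≠ 1 ∧ a ≠ z)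
    (hat : ∀ t : T, t * a * t⁻¹ * a⁻¹ = 1 ∨ t * a * t⁻¹ * a⁻¹ = z)
    (hxx : x * x = 1) (hx : x ≠ 1 ∧ x ≠ z ∧ x ≠ a ∧ x ≠ z * a) (hxa : Commute x a)
    (hxt : ∀ t : T, t * x * t⁻¹ * x⁻¹ = 1 ∨ t * x * t⁻¹ * x⁻¹ = z ∨ t * x * t⁻¹ * x⁻¹ = a ∨
      t * x * t⁻¹ * x⁻¹ = z * a) : False := by
  classical
  have hzinv : z⁻¹ = z := inv_eq_of_mul_eq_one_right hzz
  have hainv : a⁻¹ = a := inv_eq_of_mul_eq_one_right haa
  have hza : a * z = z * a := hz a
  let U : Subgroup T :=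
    { carrier := {u | u = 1 ∨ u = z ∨ u = a ∨ u = z * a}
      one_mem' := Or.inl rfl
      mul_mem' := by
        have e1 : a * (z * a) = z := by rw [← mul_assoc, hza, mul_assoc, haa, mul_one]
        have e2 : z * a * z = a := by rw [mul_assoc, hza, ← mul_assoc, hzz, one_mul]
        have e3 : z * a * (z * a) = 1 := by rw [← mul_assoc, e2, haa]
        have e4 : z * (z * a) = a := by rw [← mul_assoc, hzz, one_mul]
        have e5 : z * a * a = z := by rw [mul_assoc, haa, mul_one]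
        intro u v hu hv
        simp only [Set.mem_setOf_eq] at hu hv ⊢
        rcases hu with h | h | h | h <;> rcases hv with h' | h' | h' | h' <;>
          simp [h, h', hzz, haa, hza, e1, e2, e3, e4, e5]
      inv_mem' := by
        intro u hu
        simp only [Set.mem_setOf_eq] at hu ⊢
        rcases hu with h | h | h | h <;> simp [h, hzinv, hainv, mul_inv_rev, hza] }
  have hUmem : ∀ u, u ∈ U ↔ u = 1 ∨ u = z ∨ u = a ∨ u = z * a := fun _ => Iff.rfl
  have hUset : (U : Set T) = {1, z, a, z * a} := by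
    ext u; simp [SetLike.mem_coe, hUmem]
  have hcard : Nat.card U = 4 := by
    rw [← SetLike.coe_sort_coe, Nat.card_coe_set_eq, hUset]
    exact Set.ncard_eq_four.2 ⟨1, z, a, z * a, hz1.symm, ha.1.symm,
      fun h => ha.2 (by rw [← hzinv]; exact (inv_eq_of_mul_eq_one_right h.symm).symm),
      ha.2.symm, fun h => ha.1 (left_eq_mul.1 h), fun h => hz1 (right_eq_mul.1 h), rfl⟩
  have hcomm : ∀ u ∈ U, ∀ v ∈ U, Commute u v := by
    have hca : Commute z a := (hz a).symm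
    intro u hu v hv
    rcases (hUmem u).1 hu with h | h | h | h <;>
      rcases (hUmem v).1 hv with h' | h' | h' | h' <;> rw [h, h'] <;>
      first
        | exact Commute.one_left _
        | exact Commute.one_right _
        | exact Commute.refl _
        | exact hca
        | exact hca.symm
        | exact (Commute.refl _).mul_right hca
        | exact ((Commute.refl _).mul_right hca).symm
        | exact hca.symm.mul_right (Commute.refl _)
        | exact (hca.symm.mul_right (Commute.refl _)).symm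
  have hU1 : ∀ u ∈ U, u * u = 1 := by
    intro u hu
    rcases (hUmem u).1 hu with rfl | rfl | rfl | rfl
    · exact one_mul 1
    · exact hzz
    · exact haa
    · rw [(hz a).mul_mul_mul_comm, hzz, haa, one_mul]
  haveI : U.Normal := by
    refine ⟨fun u hu t => ?_⟩
    have hta : t * a * t⁻¹ ∈ U := by
      rw [show t * a * t⁻¹ = (t * a * t⁻¹ * a⁻¹) * a by group]
      refine U.mul_mem ((hUmem _).2 ?_) ((hUmem a).2 (by simp))
      rcases hat t with h | h <;> simp [h]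
    have htz : t * z * t⁻¹ = z := by rw [(hz t).eq, mul_inv_cancel_right]
    rcases (hUmem u).1 hu with rfl | rfl | rfl | rfl
    · rw [mul_one, mul_inv_cancel]; exact U.one_mem
    · rw [htz]; exact hu
    · exact hta
    · rw [show t * (z * a) * t⁻¹ = t * z * t⁻¹ * (t * a * t⁻¹) by group, htz]
      exact U.mul_mem ((hUmem z).2 (by simp)) hta
  refine hB.false_of_normal_involution U hcomm hU1 hcard (fun h => ?_) hxx (fun u hu => ?_)
    (fun t => (hUmem _).2 (hxt t))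
  · rcases (hUmem x).1 h with h | h | h | h
    · exact hx.1 h
    · exact hx.2.1 h
    · exact hx.2.2.1 h
    · exact hx.2.2.2 h
  · rcases (hUmem u).1 hu with rfl | rfl | rfl | rfl
    · exact Commute.one_right x
    · exact hz x
    · exact hxa
    · exact (hz x).mul_right hxa

/-- If `c = t x t⁻¹ x⁻¹` centralises `x` and `t` centralises `x * x`, then `c` squares to one. -/
theorem comm_sq_one {t x : T} (hc : Commute (t * x * t⁻¹ * x⁻¹) x) (hx : Commute t (x * x)) :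
    t * x * t⁻¹ * x⁻¹ * (t * x * t⁻¹ * x⁻¹) = 1 := by
  set c := t * x * t⁻¹ * x⁻¹ with hcdef
  have e : c * x * (c * x) = x * x := by
    calc c * x * (c * x) = t * (x * x) * t⁻¹ := by rw [hcdef]; group
      _ = _ := by rw [hx.eq, mul_inv_cancel_right]
  rw [hc.symm.mul_mul_mul_comm] at e
  exact mul_eq_right.1 e

variable {Z M : Subgroup T}

/-- The subgroup generated by `Z` and the displacements `m⁻¹ φ(m)`. -/
def defect (φ : MulAut T) (Z M : Subgroup T) : Subgroup T :=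
  Z ⊔ Subgroup.closure {d | ∃ m ∈ M, m⁻¹ * φ m = d}

theorem le_defect (φ : MulAut T) : Z ≤ defect φ Z M := le_sup_left

theorem disp_mem_defect (φ : MulAut T) {m : T} (hm : m ∈ M) : m⁻¹ * φ m ∈ defect φ Z M :=
  Subgroup.mem_sup_right (Subgroup.subset_closure ⟨m, hm, rfl⟩)

theorem defect_le_iff (φ : MulAut T) {N : Subgroup T} :
    defect φ Z M ≤ N ↔ Z ≤ N ∧ ∀ m ∈ M, m⁻¹ * φ m ∈ N := by
  rw [defect, sup_le_iff, Subgroup.closure_le]
  exact and_congr_right fun _ =>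
    ⟨fun h m hm => h ⟨m, hm, rfl⟩, fun h d ⟨m, hm, hd⟩ => hd ▸ h m hm⟩

variable [Finite T]

theorem Setup.defect_le (S : Setup Z M) (φ : MulAut T) : defect φ Z M ≤ M :=
  (defect_le_iff φ).2 ⟨S.zm, fun m hm =>
    M.mul_mem (M.inv_mem hm) (map_mem_of_characteristic S.mchar φ hm)⟩

theorem Setup.apply_mem_defect (S : Setup Z M) (φ : MulAut T) :
    ∀ x ∈ defect φ Z M, φ x ∈ defect φ Z M := by
  have h : defect φ Z M ≤ (defect φ Z M).comap φ.toMonoidHom := by
    refine (defect_le_iff φ).2 ⟨fun z hz => ?_, fun m hm => ?_⟩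
    · exact le_defect φ (map_mem_of_characteristic S.zchar φ hz)
    · show φ (m⁻¹ * φ m) ∈ defect φ Z M
      rw [map_mul, map_inv]
      exact disp_mem_defect φ (map_mem_of_characteristic S.mchar φ hm)
  exact fun x hx => h hx

/-- When `φ` fixes `Z` it moves every element of `T` inside its coset of `M`. -/
theorem Setup.inv_mul_apply_mem (S : Setup Z M) {φ : MulAut T} (hZ : ∀ z ∈ Z, φ z = z) (t : T) :
    t⁻¹ * φ t ∈ M := by
  haveI := S.zchar
  have hn : Z.Normal := inferInstance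
  refine S.mem_m _ fun z hz => ?_
  have hz' : t * z * t⁻¹ ∈ Z := hn.conj_mem z hz t
  have e : φ t * z * (φ t)⁻¹ = t * z * t⁻¹ := by
    have h := hZ _ hz'
    rwa [map_mul, map_mul, map_inv, hZ z hz] at h
  have e2 : t⁻¹ * φ t * z * (t⁻¹ * φ t)⁻¹ = z := by
    calc t⁻¹ * φ t * z * (t⁻¹ * φ t)⁻¹ = t⁻¹ * (φ t * z * (φ t)⁻¹) * t := by group
      _ = z := by rw [e]; group
  exact mul_inv_eq_iff_eq_mul.1 e2

theorem Setup.defect_normal (S : Setup Z M) {φ : MulAut T} (hZ : ∀ z ∈ Z, φ z = z) :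
    (defect φ Z M).Normal := by
  haveI := S.zchar
  haveI := S.mchar
  have hn : Z.Normal := inferInstance
  have hm : M.Normal := inferInstance
  refine ⟨fun x hx t => ?_⟩
  have h : defect φ Z M ≤ (defect φ Z M).comap (MulAut.conj t).toMonoidHom := by
    refine (defect_le_iff φ).2 ⟨fun z hz => le_defect φ (hn.conj_mem z hz t), fun m hmM => ?_⟩
    show t * (m⁻¹ * φ m) * t⁻¹ ∈ defect φ Z M
    have hd := disp_mem_defect (Z := Z) φ (hm.conj_mem m hmM t)
    set m₀ := t⁻¹ * φ t with hm₀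
    have hm₀M : m₀ ∈ M := S.inv_mul_apply_mem hZ t
    have hφm : φ m ∈ M := map_mem_of_characteristic S.mchar φ hmM
    have hc : m₀ * φ m * m₀⁻¹ * (φ m)⁻¹ ∈ Z := S.comm _ hm₀M _ hφm
    set c := m₀ * φ m * m₀⁻¹ * (φ m)⁻¹ with hcdef
    have e : (t * m * t⁻¹)⁻¹ * φ (t * m * t⁻¹) = t * c * t⁻¹ * (t * (m⁻¹ * φ m) * t⁻¹) := by
      rw [map_mul, map_mul, map_inv, show φ t = t * m₀ by rw [hm₀]; group]
      calc (t * m * t⁻¹)⁻¹ * (t * m₀ * φ m * (t * m₀)⁻¹)
          = t * (m⁻¹ * c) * φ m * t⁻¹ := by rw [hcdef]; group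
        _ = _ := by rw [(S.cent _ (M.inv_mem hmM) _ hc).eq]; group
    rw [e] at hd
    exact ((defect φ Z M).mul_mem_cancel_left (le_defect φ (hn.conj_mem c hc t))).1 hd
  exact h hx

/-- The squares of displacements lie in any subgroup of `Z` containing commutators and squares. -/
theorem Setup.sq_mem_of_defect (S : Setup Z M) {φ : MulAut T} (hZ : ∀ z ∈ Z, φ z = z)
    (L : Subgroup T) (hzsq : ∀ z ∈ Z, z * z ∈ L)
    (hcomm : ∀ m ∈ M, ∀ n ∈ M, m * n * m⁻¹ * n⁻¹ ∈ L) :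
    ∀ p ∈ defect φ Z M, p * p ∈ L := by
  have hmul : ∀ a ∈ M, ∀ b ∈ M, a * b * (a * b) = b * a * b⁻¹ * a⁻¹ * (a * a * (b * b)) := by
    intro a ha b hb
    calc a * b * (a * b) = a * (b * a * b⁻¹ * a⁻¹) * (a * b) * b := by group
      _ = _ := by rw [(S.cent a ha _ (S.comm b hb a ha)).eq]; group
  let N : Subgroup T :=
    { carrier := {p | p ∈ M ∧ p * p ∈ L}
      one_mem' := ⟨M.one_mem, by rw [one_mul]; exact L.one_mem⟩
      mul_mem' := fun {a b} ha hb => ⟨M.mul_mem ha.1 hb.1, by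
        rw [hmul a ha.1 b hb.1]
        exact L.mul_mem (hcomm b hb.1 a ha.1) (L.mul_mem ha.2 hb.2)⟩
      inv_mem' := fun {a} ha => ⟨M.inv_mem ha.1, by rw [← mul_inv_rev]; exact L.inv_mem ha.2⟩ }
  have h : defect φ Z M ≤ N := by
    refine (defect_le_iff φ).2 ⟨fun z hz => ⟨S.zm hz, hzsq z hz⟩, fun m hm => ?_⟩
    have hcM := S.defect_le φ (disp_mem_defect φ hm)
    refine ⟨hcM, ?_⟩
    set c := m⁻¹ * φ m with hcdef
    have e1 : φ (m * m) = m * m := hZ _ (S.sq m hm)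
    rw [map_mul, show φ m = m * c by rw [hcdef]; group, hmul m hm c hcM] at e1
    set d := c * m * c⁻¹ * m⁻¹ with hd
    have hdL : d ∈ L := hcomm c hcM m hm
    have hdZ : d ∈ Z := S.comm c hcM m hm
    have e2 : d * (c * c) = 1 := by
      rw [← mul_assoc d, (S.zcomm d hdZ _ (S.sq m hm)).eq, mul_assoc] at e1
      exact mul_eq_left.1 e1
    rw [show c * c = d⁻¹ from (inv_eq_of_mul_eq_one_right e2).symm]
    exact L.inv_mem hdL
  exact fun p hp => (h hp).2

/-- Some displacement is moved modulo `Z`. -/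
theorem Setup.exists_moved_defect (S : Setup Z M) (hB : Base T) {φ : MulAut T}
    (hφ : Odd (orderOf φ)) (hne : φ ≠ 1) (hZ : ∀ z ∈ Z, φ z = z) :
    ∃ p ∈ defect φ Z M, p⁻¹ * φ p ∉ Z := by
  haveI := S.zchar
  obtain ⟨m, hm, hmZ⟩ := S.exists_moved hB hφ hne hZ
  refine ⟨_, disp_mem_defect φ hm, fun h => hmZ ?_⟩
  exact hB.mem_of_fixed_mod hφ Z (fun z hz => map_mem_of_characteristic S.zchar φ hz)
    (m := m) (by rw [mul_inv_cancel_left, inv_mul_cancel]; exact Z.one_mem) h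

/-- `T` acts trivially on a four group modulo `Z` that `φ` permutes transitively. -/
theorem Setup.trivial_on_four (S : Setup Z M) {φ : MulAut T} (hZ : ∀ z ∈ Z, φ z = z)
    {P : Subgroup T} (hPM : P ≤ M) {x : T} (hx : x ∈ P)
    (horb : ∀ v ∈ P, v ∉ Z → v⁻¹ * x ∈ Z ∨ v⁻¹ * φ x ∈ Z ∨ v⁻¹ * φ (φ x) ∈ Z)
    (hfix : ∀ t : T, t * x * t⁻¹ * x⁻¹ ∈ Z) :
    ∀ v ∈ P, ∀ t : T, t * v * t⁻¹ * v⁻¹ ∈ Z := by
  haveI := S.zchar
  have hn : Z.Normal := inferInstance
  -- the set of elements centralised modulo `Z` is closed under translation and under `φ`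
  have htrans : ∀ v ∈ M, ∀ z ∈ Z, (∀ t : T, t * v * t⁻¹ * v⁻¹ ∈ Z) →
      ∀ t : T, t * (v * z) * t⁻¹ * (v * z)⁻¹ ∈ Z := by
    intro v _ z hz h t
    have hc : t * z * t⁻¹ * z⁻¹ ∈ Z := Z.mul_mem (hn.conj_mem z hz t) (Z.inv_mem hz)
    rw [show t * (v * z) * t⁻¹ * (v * z)⁻¹ =
      t * v * t⁻¹ * v⁻¹ * (v * (t * z * t⁻¹ * z⁻¹) * v⁻¹) by group]
    exact Z.mul_mem (h t) (hn.conj_mem _ hc v)
  have hnext : ∀ v ∈ M, (∀ t : T, t * v * t⁻¹ * v⁻¹ ∈ Z) →
      ∀ t : T, t * φ v * t⁻¹ * (φ v)⁻¹ ∈ Z := by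
    intro v hv h t
    set m₀ := t⁻¹ * φ t with hm₀
    have hm₀M : m₀ ∈ M := S.inv_mul_apply_mem hZ t
    have hφv : φ v ∈ M := map_mem_of_characteristic S.mchar φ hv
    have h1 := map_mem_of_characteristic S.zchar φ (h t)
    rw [map_mul, map_mul, map_mul, map_inv, map_inv, show φ t = t * m₀ by rw [hm₀]; group] at h1
    have hc : m₀ * φ v * m₀⁻¹ * (φ v)⁻¹ ∈ Z := S.comm _ hm₀M _ hφv
    rw [show t * φ v * t⁻¹ * (φ v)⁻¹ = (t * (m₀ * φ v * m₀⁻¹ * (φ v)⁻¹) * t⁻¹)⁻¹ *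
      (t * m₀ * φ v * (t * m₀)⁻¹ * (φ v)⁻¹) by group]
    exact Z.mul_mem (Z.inv_mem (hn.conj_mem _ hc t)) h1
  intro v hv
  by_cases hvZ : v ∈ Z
  · exact fun t => Z.mul_mem (hn.conj_mem v hvZ t) (Z.inv_mem hvZ)
  have hxM := hPM hx
  have hφx : φ x ∈ M := map_mem_of_characteristic S.mchar φ hxM
  rcases horb v hv hvZ with h | h | h
  · simpa using htrans x hxM _ (Z.inv_mem h) hfix
  · simpa using htrans _ hφx _ (Z.inv_mem h) (hnext x hxM hfix)
  · simpa using htrans _ (map_mem_of_characteristic S.mchar φ hφx) _ (Z.inv_mem h)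
      (hnext _ hφx (hnext x hxM hfix))

/-- The decomposition attached to a quaternion pair whose commutators with `T` lie in `⟨z⟩`. -/
theorem pair_dec {z i j : T} (hz : ∀ t, Commute t z) (hzz : z * z = 1) (hii : i * i = z)
    (hjj : j * j = z) (hij : i * j * (i * j) = z)
    (hi : ∀ t : T, t * i * t⁻¹ = i ∨ t * i * t⁻¹ = z * i)
    (hj : ∀ t : T, t * j * t⁻¹ = j ∨ t * j * t⁻¹ = z * j) :
    (Subgroup.centralizer ({i, j} : Set T)).Normal ∧
    ∀ t, ∃ q, (q = 1 ∨ q = i ∨ q = j ∨ q = i * j) ∧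
      q⁻¹ * t ∈ Subgroup.centralizer ({i, j} : Set T) := by
  have hmem : ∀ w, w ∈ Subgroup.centralizer ({i, j} : Set T) ↔
      w * i * w⁻¹ = i ∧ w * j * w⁻¹ = j := by
    intro w
    rw [Subgroup.mem_centralizer_iff, mul_inv_eq_iff_eq_mul, mul_inv_eq_iff_eq_mul]
    refine ⟨fun h => ⟨(h i (Set.mem_insert _ _)).symm,
      (h j (Set.mem_insert_of_mem _ (Set.mem_singleton j))).symm⟩, fun h y hy => ?_⟩
    rcases hy with rfl | rfl
    · exact h.1.symm
    · exact h.2.symm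
  have hji : j * i * j⁻¹ = z * i := by
    have h1 : j * i * j = i⁻¹ * z := by rw [eq_inv_mul_iff_mul_eq, ← hij]; group
    have h2 : i⁻¹ * z = i := by rw [inv_mul_eq_iff_eq_mul, hii]
    calc j * i * j⁻¹ = j * i * j * (j * j)⁻¹ := by group
      _ = z * i := by rw [h1, h2, hjj, inv_eq_of_mul_eq_one_right hzz, (hz i).eq]
  have hij' : i * j * i⁻¹ = z * j := by
    have h1 : i * j * i = z * j⁻¹ := by rw [eq_mul_inv_iff_mul_eq, ← hij]; group
    have h2 : z * j⁻¹ = j := by rw [mul_inv_eq_iff_eq_mul, hjj]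
    calc i * j * i⁻¹ = i * j * i * (i * i)⁻¹ := by group
      _ = z * j := by rw [h1, h2, hii, inv_eq_of_mul_eq_one_right hzz, (hz j).eq]
  refine ⟨⟨fun w hw t => ?_⟩, fun t => ?_⟩
  · rw [hmem] at hw ⊢
    constructor
    · rcases hi t⁻¹ with h | h <;> rw [inv_inv] at h
      · calc t * w * t⁻¹ * i * (t * w * t⁻¹)⁻¹ = t * (w * (t⁻¹ * i * t) * w⁻¹) * t⁻¹ := by group
          _ = t * i * t⁻¹ := by rw [h, hw.1]
          _ = t * (t⁻¹ * i * t) * t⁻¹ := by rw [h]
          _ = i := by group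
      · calc t * w * t⁻¹ * i * (t * w * t⁻¹)⁻¹ = t * (w * (t⁻¹ * i * t) * w⁻¹) * t⁻¹ := by group
          _ = t * (w * z * w⁻¹ * (w * i * w⁻¹)) * t⁻¹ := by rw [h]; group
          _ = t * (t⁻¹ * i * t) * t⁻¹ := by rw [hw.1, (hz w).eq, mul_inv_cancel_right, h]
          _ = i := by group
    · rcases hj t⁻¹ with h | h <;> rw [inv_inv] at h
      · calc t * w * t⁻¹ * j * (t * w * t⁻¹)⁻¹ = t * (w * (t⁻¹ * j * t) * w⁻¹) * t⁻¹ := by group
          _ = t * j * t⁻¹ := by rw [h, hw.2]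
          _ = t * (t⁻¹ * j * t) * t⁻¹ := by rw [h]
          _ = j := by group
      · calc t * w * t⁻¹ * j * (t * w * t⁻¹)⁻¹ = t * (w * (t⁻¹ * j * t) * w⁻¹) * t⁻¹ := by group
          _ = t * (w * z * w⁻¹ * (w * j * w⁻¹)) * t⁻¹ := by rw [h]; group
          _ = t * (t⁻¹ * j * t) * t⁻¹ := by rw [hw.2, (hz w).eq, mul_inv_cancel_right, h]
          _ = j := by group
  · have key : ∀ q : T, t * i * t⁻¹ = q * i * q⁻¹ → t * j * t⁻¹ = q * j * q⁻¹ →
        q⁻¹ * t ∈ Subgroup.centralizer ({i, j} : Set T) := by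
      intro q h1 h2
      rw [hmem]
      constructor
      · calc q⁻¹ * t * i * (q⁻¹ * t)⁻¹ = q⁻¹ * (t * i * t⁻¹) * q := by group
          _ = i := by rw [h1]; group
      · calc q⁻¹ * t * j * (q⁻¹ * t)⁻¹ = q⁻¹ * (t * j * t⁻¹) * q := by group
          _ = j := by rw [h2]; group
    rcases hi t with h1 | h1 <;> rcases hj t with h2 | h2
    · exact ⟨1, Or.inl rfl, key 1 (by rw [h1]; group) (by rw [h2]; group)⟩
    · refine ⟨i, Or.inr (Or.inl rfl), key i (by rw [h1]; group) (by rw [h2, hij'])⟩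
    · refine ⟨j, Or.inr (Or.inr (Or.inl rfl)), key j (by rw [h1, hji]) (by rw [h2]; group)⟩
    · refine ⟨i * j, Or.inr (Or.inr (Or.inr rfl)), key (i * j) ?_ ?_⟩
      · calc t * i * t⁻¹ = (i * z * i⁻¹) * (i * i * i⁻¹) := by
              rw [h1, (hz i).eq]; group
          _ = i * (z * i) * i⁻¹ := by group
          _ = i * (j * i * j⁻¹) * i⁻¹ := by rw [hji]
          _ = _ := by group
      · calc t * j * t⁻¹ = i * j * i⁻¹ := by rw [h2, hij']
          _ = _ := by group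

end CfsgLib.NormalRankTwoAut
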