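import Cfsg.Agent.NormalRankTwoAut.Basic

/-!
# The involutions of an abelian subgroup; four groups
-/

set_option autoImplicit false

namespace CfsgLib.NormalRankTwoAut

open Subgroup

variable {T : Type*} [Group T]

/-- The subgroup generated by the involutions of `Z`. -/
def omega (Z : Subgroup T) : Subgroup T := Subgroup.closure {x | x ∈ Z ∧ x * x = 1}

theorem mem_omega {Z : Subgroup T} (hc : ∀ a ∈ Z, ∀ b ∈ Z, Commute a b) {x : T} :
    x ∈ omega Z ↔ x ∈ Z ∧ x * x = 1 := by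
  refine ⟨fun h => ?_, fun h => Subgroup.subset_closure h⟩
  induction h using Subgroup.closure_induction with
  | mem y hy => exact hy
  | one => exact ⟨Z.one_mem, one_mul 1⟩
  | mul a b _ _ ha hb =>
    exact ⟨Z.mul_mem ha.1 hb.1, by rw [(hc b hb.1 a ha.1).mul_mul_mul_comm, ha.2, hb.2, one_mul]⟩
  | inv a _ ha => exact ⟨Z.inv_mem ha.1, by rw [← mul_inv_rev, ha.2, inv_one]⟩

theorem omega_le (Z : Subgroup T) : omega Z ≤ Z :=
  (Subgroup.closure_le Z).2 fun _ h => h.1

theorem omega_normal {Z : Subgroup T} [hZ : Z.Normal] (hc : ∀ a ∈ Z, ∀ b ∈ Z, Commute a b) :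
    (omega Z).Normal := by
  refine ⟨fun x hx t => ?_⟩
  rw [mem_omega hc] at hx ⊢
  exact ⟨hZ.conj_mem x hx.1 t, by
    rw [show t * x * t⁻¹ * (t * x * t⁻¹) = t * (x * x) * t⁻¹ by group, hx.2, mul_one,
      mul_inv_cancel]⟩

theorem map_mem_of_characteristic {Z : Subgroup T} (hZ : Z.Characteristic) (φ : MulAut T) {x : T}
    (hx : x ∈ Z) : φ x ∈ Z :=
  (Subgroup.characteristic_iff_le_comap.1 hZ φ) hx

/-- A group of order four and exponent two is determined by two of its involutions. -/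
theorem four_elems {U : Subgroup T} (hU1 : ∀ u ∈ U, u * u = 1) (hcard : Nat.card U = 4) {e f : T}
    (he : e ∈ U) (hf : f ∈ U) (he1 : e ≠ 1) (hf1 : f ≠ 1) (hef : e ≠ f) :
    ∀ u ∈ U, u = 1 ∨ u = e ∨ u = f ∨ u = e * f := by
  have hinv : e⁻¹ = e := inv_eq_of_mul_eq_one_right (hU1 e he)
  have h1 : e * f ≠ 1 := fun h => hef (by rw [← hinv]; exact inv_eq_of_mul_eq_one_right h)
  have h4 : ({1, e, f, e * f} : Set T).ncard = 4 :=
    Set.ncard_eq_four.2 ⟨1, e, f, e * f, he1.symm, hf1.symm, h1.symm, hef,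
      fun h => hf1 (left_eq_mul.1 h), fun h => he1 (right_eq_mul.1 h), rfl⟩
  have hsub : ({1, e, f, e * f} : Set T) ⊆ (U : Set T) := by
    intro v hv
    rcases hv with rfl | rfl | rfl | rfl
    · exact U.one_mem
    · exact he
    · exact hf
    · exact U.mul_mem he hf
  haveI : Finite U := Nat.finite_of_card_ne_zero (by omega)
  have heq := Set.eq_of_subset_of_ncard_le hsub (by
    rw [h4, ← Nat.card_coe_set_eq]; exact hcard.le) (Set.toFinite _)
  intro u hu
  have hu' : u ∈ ({1, e, f, e * f} : Set T) := heq ▸ hu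
  simpa using hu'

theorem mem_zpowers_of_sq {e x : T} (he : e * e = 1) (hx : x ∈ Subgroup.zpowers e) :
    x = 1 ∨ x = e := by
  obtain ⟨k, rfl⟩ := Subgroup.mem_zpowers_iff.1 hx
  have h2 : e ^ (2 : ℤ) = 1 := by rw [zpow_two, he]
  rcases Int.even_or_odd' k with ⟨j, rfl | rfl⟩
  · left; rw [zpow_mul, h2, one_zpow]
  · right; rw [zpow_add_one, zpow_mul, h2, one_zpow, one_mul]

variable [Finite T]

theorem Base.exists_central_involution (hB : Base T) (N : Subgroup T) [N.Normal] {v : T}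
    (hv : v ∈ N) (hv1 : v ≠ 1) : ∃ e ∈ N, e ≠ 1 ∧ e * e = 1 ∧ ∀ t : T, Commute t e := by
  haveI : Fact (Nat.Prime 2) := ⟨Nat.prime_two⟩
  obtain ⟨e, he, hec, heo⟩ := CfsgLib.OddOrder.BG4.exists_central_orderOf_prime hB.pg (N := N)
    (fun h => hv1 (by simpa [h] using hv))
  refine ⟨e, he, fun h => ?_, ?_, fun t => Subgroup.mem_center_iff.1 hec t⟩
  · rw [h, orderOf_one] at heo; omega
  · rw [← pow_two, ← heo, pow_orderOf_eq_one]

theorem Base.card_omega (hB : Base T) {Z : Subgroup T} [Z.Normal]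
    (hc : ∀ a ∈ Z, ∀ b ∈ Z, Commute a b) {v : T} (hv : v ∈ Z) (hv1 : v ≠ 1) :
    Nat.card (omega Z) = 2 ∨ Nat.card (omega Z) = 4 := by
  obtain ⟨e, he, he1, hee, -⟩ := hB.exists_central_involution Z hv hv1
  have h1 := hB.small Z inferInstance hc (omega Z) (omega_le Z) fun b hb => ((mem_omega hc).1 hb).2
  have h2 := hB.even_card ((mem_omega hc).2 ⟨he, hee⟩) he1
  have h3 : 0 < Nat.card (omega Z) := Nat.card_pos
  haveI : Fact (Nat.Prime 2) := ⟨Nat.prime_two⟩
  obtain ⟨d, hd⟩ := (hB.pg.to_subgroup (omega Z)).exists_card_eq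
  rw [hd] at h1 h2 ⊢
  rcases Nat.lt_or_ge d 3 with h | h
  · interval_cases d <;> simp_all
  · have := Nat.pow_le_pow_right (n := 2) (by norm_num) h
    omega

/-- The orbit-free criterion: an automorphism of odd order fixing `Z` pointwise and trivial on
`M / Z` is trivial. -/
theorem Setup.exists_moved {Z M : Subgroup T} (S : Setup Z M) (hB : Base T) {φ : MulAut T}
    (hφ : Odd (orderOf φ)) (hne : φ ≠ 1) (hZ : ∀ z ∈ Z, φ z = z) :
    ∃ m ∈ M, m⁻¹ * φ m ∉ Z := by
  by_contra h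
  push Not at h
  exact hne (S.faithful φ hφ fun m hm => hB.fixed_of_fixed hφ (hZ _ (h m hm)))

end CfsgLib.NormalRankTwoAut
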