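import Cfsg.Agent.NormalRankTwoAut.Quadratic
import Cfsg.Agent.NormalRankTwoAut.Omega

/-!
# The case where `Z(K)` is a four group
-/

set_option autoImplicit false

namespace CfsgLib.NormalRankTwoAut

open Subgroup

variable {T : Type*} [Group T] [Finite T]

/-- If `Z(K)` is a four group then the group has order 64 or 128. -/
theorem card_of_elementary (hB : Base T) {Z M : Subgroup T} (S : Setup Z M) {φ : MulAut T}
    (hφ : Odd (orderOf φ)) (hne : φ ≠ 1) {E : Subgroup T}
    (hEc : ∀ a ∈ E, ∀ b ∈ E, Commute a b) (hE1 : ∀ a ∈ E, a * a = 1) (hE8 : 8 ≤ Nat.card E)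
    (hel : ∀ z ∈ Z, z * z = 1) (h4 : Nat.card Z = 4) :
    Nat.card T = 64 ∨ Nat.card T = 128 := by
  classical
  haveI := S.zchar
  haveI := S.mchar
  have hZn : Z.Normal := inferInstance
  have hMn : M.Normal := inferInstance
  have false_of : ∀ x ∈ M, x ∉ Z → x * x = 1 → (∀ t : T, t * x * t⁻¹ * x⁻¹ ∈ Z) → False :=
    fun x hx hxZ hx1 ht => hB.false_of_normal_involution Z S.zcomm hel h4 hxZ hx1 (S.cent x hx) ht
  obtain ⟨v, hv, hv1⟩ : ∃ v ∈ Z, v ≠ 1 := by
    by_contra h
    push Not at h
    have : Z = ⊥ := eq_bot_iff.2 fun z hz => Subgroup.mem_bot.2 (h z hz)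
    rw [this, Subgroup.card_bot] at h4
    omega
  obtain ⟨e, he, he1, hee, hec⟩ := hB.exists_central_involution Z hv hv1
  obtain ⟨f, hf, hfe⟩ : ∃ f ∈ Z, f ∉ Subgroup.zpowers e := by
    by_contra h
    push Not at h
    have h2 := Subgroup.card_le_of_le (K := Subgroup.zpowers e) h
    rw [h4, Nat.card_zpowers] at h2
    have := orderOf_le_of_pow_eq_one (x := e) (n := 2) (by norm_num) (by rw [pow_two]; exact hee)
    omega
  have hf1 : f ≠ 1 := fun h => hfe (h ▸ one_mem _)
  have hef : e ≠ f := fun h => hfe (h ▸ Subgroup.mem_zpowers e)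
  have hZel := four_elems hel h4 he hf he1 hf1 hef
  have hff := hel f hf
  have hconj : ∀ t : T, t * f * t⁻¹ = f ∨ t * f * t⁻¹ = e * f := by
    intro t
    rcases hZel _ (hZn.conj_mem f hf t) with h | h | h | h
    · exact absurd (conj_eq_one_iff.1 h) hf1
    · exact absurd (by
        rw [show f = t⁻¹ * (t * f * t⁻¹) * t by group, h, mul_assoc, ← (hec t).eq,
          inv_mul_cancel_left]) hef.symm
    · exact Or.inl h
    · exact Or.inr h
  have hMiff : ∀ t : T, t ∈ M ↔ t * f * t⁻¹ = f := by
    intro t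
    refine ⟨fun ht => by rw [(S.cent t ht f hf).eq, mul_inv_cancel_right], fun h => ?_⟩
    have hcf : Commute t f := mul_inv_eq_iff_eq_mul.1 h
    refine S.mem_m t fun z hz => ?_
    rcases hZel z hz with rfl | rfl | rfl | rfl
    · exact Commute.one_right t
    · exact hec t
    · exact hcf
    · exact (hec t).mul_right hcf
  have hidx : ∀ s t : T, s ∉ M → t ∉ M → s * t ∈ M := by
    intro s t hs ht
    have hs' := (hconj s).resolve_left (mt (hMiff s).2 hs)
    have ht' := (hconj t).resolve_left (mt (hMiff t).2 ht)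
    rw [hMiff]
    calc s * t * f * (s * t)⁻¹ = s * (t * f * t⁻¹) * s⁻¹ := by group
      _ = s * (e * f) * s⁻¹ := by rw [ht']
      _ = (s * e * s⁻¹) * (s * f * s⁻¹) := by group
      _ = f := by rw [(hec s).eq, mul_inv_cancel_right, hs', ← mul_assoc, hee, one_mul]
  -- the elementary subgroup lies in `M`
  have hEM : E ≤ M := by
    intro g hgE
    by_contra hgM
    by_cases hx : ∃ x ∈ E, x ∈ M ∧ x ∉ Z
    · obtain ⟨x, hxE, hxM, hxZ⟩ := hx
      refine false_of x hxM hxZ (hE1 x hxE) fun t => ?_
      by_cases ht : t ∈ M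
      · exact S.comm t ht x hxM
      · have hm : g * t ∈ M := hidx g t hgM ht
        have hc := S.comm (g * t) hm x hxM
        have e1 : t * x * t⁻¹ * x⁻¹ = g⁻¹ * (g * t * x * (g * t)⁻¹ * x⁻¹) * (x * g * x⁻¹) := by
          group
        rw [e1, (hEc x hxE g hgE).eq, mul_inv_cancel_right]
        simpa using hZn.conj_mem _ hc g⁻¹
    · push Not at hx
      have hsmall : ∀ h ∈ E, h ∈ M → h = 1 ∨ h = e := by
        intro h hhE hhM
        have hc : Commute g h := hEc g hgE h hhE
        have hgf : ¬ Commute g f := fun hcf =>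
          hgM ((hMiff g).2 (by rw [hcf.eq, mul_inv_cancel_right]))
        rcases hZel h (hx h hhE hhM) with h' | h' | h' | h'
        · exact Or.inl h'
        · exact Or.inr h'
        · exact absurd (h' ▸ hc) hgf
        · refine absurd ?_ hgf
          have h3 := (hec g).mul_right (h' ▸ hc)
          rwa [← mul_assoc, hee, one_mul] at h3
      have hsub : (E : Set T) ⊆ {1, e, g, g * e} := by
        intro h hh
        simp only [Set.mem_insert_iff, Set.mem_singleton_iff]
        by_cases hhM : h ∈ M
        · rcases hsmall h hh hhM with r | r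
          · exact Or.inl r
          · exact Or.inr (Or.inl r)
        · have hg : g⁻¹ = g := inv_eq_of_mul_eq_one_right (hE1 g hgE)
          rcases hsmall (g * h) (E.mul_mem hgE hh) (hidx g h hgM hhM) with r | r
          · exact Or.inr (Or.inr (Or.inl ((inv_eq_of_mul_eq_one_right r).symm.trans hg)))
          · exact Or.inr (Or.inr (Or.inr (by
              conv_rhs => rw [← r, ← mul_assoc, hE1 g hgE, one_mul])))
      have h1 := Set.ncard_le_ncard hsub (Set.toFinite _)
      rw [← Nat.card_coe_set_eq, SetLike.coe_sort_coe] at h1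
      have h2 := Set.ncard_insert_le (1 : T) {e, g, g * e}
      have h3 := Set.ncard_insert_le e ({g, g * e} : Set T)
      have h5 := Set.ncard_insert_le g ({g * e} : Set T)
      rw [Set.ncard_singleton] at h5
      omega
  obtain ⟨x, hxE, hxZ⟩ : ∃ x ∈ E, x ∉ Z := by
    by_contra h
    push Not at h
    have := Subgroup.card_le_of_le (K := Z) h
    omega
  -- `M` is proper
  obtain ⟨g₀, hg₀⟩ : ∃ g, g ∉ M := by
    by_contra h
    push Not at h
    exact false_of x (h x) hxZ (hE1 x hxE) fun t => S.comm t (h t) x (h x)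
  have hMidx : M.index = 2 := by
    rw [Subgroup.index_eq_two_iff]
    refine ⟨g₀⁻¹, fun b => ?_⟩
    by_cases hb : b ∈ M
    · exact Or.inr ⟨hb, fun h => hg₀ (M.inv_mem_iff.1 ((M.mul_mem_cancel_left hb).1 h))⟩
    · exact Or.inl ⟨hidx b g₀⁻¹ hb (fun h => hg₀ (M.inv_mem_iff.1 h)), hb⟩
  have hφe : φ e = e := by
    have hcen : ∀ t : T, Commute t (φ e) := by
      intro t
      have := (hec (φ.symm t)).map φ.toMonoidHom
      simpa using this
    have hnc := mt (hMiff g₀).2 hg₀
    rcases hZel _ (map_mem_of_characteristic S.zchar φ he) with h | h | h | h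
    · exact absurd (φ.injective (h.trans (map_one φ).symm)) he1
    · exact h
    · exact absurd (by rw [(h ▸ hcen g₀ : Commute g₀ f).eq, mul_inv_cancel_right]) hnc
    · refine absurd ?_ hnc
      have h3 := (hec g₀).mul_right (h ▸ hcen g₀)
      rw [← mul_assoc, hee, one_mul] at h3
      rw [h3.eq, mul_inv_cancel_right]
  have hφf : φ f = f := by
    rcases hZel _ (map_mem_of_characteristic S.zchar φ hf) with h | h | h | h
    · exact absurd (φ.injective (h.trans (map_one φ).symm)) hf1
    · exact absurd (φ.injective (h.trans hφe.symm)) hef.symm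
    · exact h
    · refine eq_of_apply_apply hφ ?_
      rw [h, map_mul, hφe, h, ← mul_assoc, hee, one_mul]
  have hφZ : ∀ z ∈ Z, φ z = z := by
    intro z hz
    rcases hZel z hz with rfl | rfl | rfl | rfl
    · exact map_one φ
    · exact hφe
    · exact hφf
    · rw [map_mul, hφe, hφf]
  obtain ⟨m, hm, hmZ⟩ := S.exists_moved hB hφ hne hφZ
  set V := M.map (QuotientGroup.mk' Z) with hVdef
  have hcardM : Nat.card V * 4 = Nat.card M := by rw [← h4]; exact card_map_mk Z S.zm
  have hcardT : Nat.card M * 2 = Nat.card T := by rw [← hMidx]; exact M.card_mul_index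
  have hbig : 8 ≤ Nat.card V := by
    by_contra hlt
    haveI : Fact (Nat.Prime 2) := ⟨Nat.prime_two⟩
    obtain ⟨d, hd⟩ := ((hB.pg.to_quotient Z).to_subgroup V).exists_card_eq
    have hd3 : d < 3 := by
      by_contra h
      have := Nat.pow_le_pow_right (n := 2) (by norm_num) (not_lt.1 h)
      omega
    have hle : Nat.card V ≤ 4 := by
      have := Nat.pow_le_pow_right (n := 2) (by norm_num) (Nat.le_of_lt_succ hd3)
      omega
    have horb := (orbit_of_four hφ Z M (fun z hz => (hφZ z hz).symm ▸ hz) S.zm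
      (fun y hy => map_mem_of_characteristic S.mchar φ hy) hle hm hmZ).2
    have hsq : ∀ w ∈ M, w ∉ Z → w * w = m * m := by
      intro w hw hwZ
      have key : ∀ u ∈ M, w⁻¹ * u ∈ Z → w * w = u * u := by
        intro u hu hz
        conv_rhs => rw [show u = w * (w⁻¹ * u) by group]
        rw [(S.cent w hw _ hz).symm.mul_mul_mul_comm, hel _ hz, mul_one]
      have hφm := map_mem_of_characteristic S.mchar φ hm
      have hfix : φ (m * m) = m * m := hφZ _ (S.sq m hm)
      rcases (horb w hw hwZ).2 with h | h | h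
      · exact key m hm h
      · rw [key _ hφm h, ← map_mul, hfix]
      · rw [key _ (map_mem_of_characteristic S.mchar φ hφm) h, ← map_mul, ← map_mul, hfix, hfix]
    obtain ⟨y, hy, hyZ, hyt⟩ := hB.exists_fixed_mod Z M hm (fun h => hmZ (by
      rw [hφZ m h, inv_mul_cancel]; exact Z.one_mem))
    exact false_of y hy hyZ (by rw [hsq y hy hyZ, ← hsq x (hEM hxE) hxZ, hE1 x hxE]) hyt
  have hsmallV : Nat.card V < 32 := by
    by_contra hge
    have mk : ∀ a ∈ Z, a ≠ 1 → SqData Z M Z (Subgroup.zpowers a) := by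
      intro a ha ha1
      refine ⟨S.zm, le_rfl, (Subgroup.zpowers_le).2 ha, ?_, S.cent, S.sq, S.comm,
        fun z hz => by rw [hel z hz]; exact one_mem _⟩
      intro p hp q hq hpa hqa
      have haa := hel a ha
      by_cases hpq : p = q
      · rw [← hpq, hel p hp]; exact one_mem _
      have hp1 : p ≠ 1 := fun h => hpa (h ▸ one_mem _)
      have hap : a ≠ p := fun h => hpa (h ▸ Subgroup.mem_zpowers a)
      rcases four_elems hel h4 ha hp ha1 hp1 hap q hq with h | h | h | h
      · exact absurd (h ▸ one_mem _) hqa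
      · exact absurd (h ▸ Subgroup.mem_zpowers a) hqa
      · exact absurd h.symm hpq
      · rw [h, (S.zcomm a ha p hp).eq, ← mul_assoc, hel p hp, one_mul]
        exact Subgroup.mem_zpowers a
    obtain ⟨s, hs, hsZ, ⟨hs1, hs2⟩, hst⟩ := (mk e he he1).exists_central_two hB (mk f hf hf1)
      (fun t a ha hb => by
        rcases mem_zpowers_of_sq hee ha with rfl | rfl
        · rw [mul_one, mul_inv_cancel]; exact ⟨one_mem _, one_mem _⟩
        · rcases mem_zpowers_of_sq hff hb with h | h
          · exact absurd h he1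
          · exact absurd h hef)
      (not_lt.1 hge)
    refine false_of s hs hsZ ?_ hst
    rcases mem_zpowers_of_sq hee hs1 with h | h
    · exact h
    · rcases mem_zpowers_of_sq hff hs2 with h' | h'
      · exact h'
      · exact absurd (h.symm.trans h') hef
  haveI : Fact (Nat.Prime 2) := ⟨Nat.prime_two⟩
  obtain ⟨d, hd⟩ := ((hB.pg.to_quotient Z).to_subgroup V).exists_card_eq
  rw [hd] at hcardM hbig hsmallV
  have h3 : 3 ≤ d := (Nat.pow_le_pow_iff_right one_lt_two).1 hbig
  have h5 : d < 5 := (Nat.pow_lt_pow_iff_right one_lt_two).1 hsmallV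
  interval_cases d <;> omega

end CfsgLib.NormalRankTwoAut
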