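import Mathlib.GroupTheory.PGroup
import Mathlib.GroupTheory.GroupAction.ConjAct
import Mathlib.Algebra.BigOperators.Group.Finset.Basic
import Mathlib.Data.Int.Order.Units
import Mathlib.NumberTheory.Padics.PadicVal.Basic

/-!
# Parity of the number of zeros of quadratic functions on elementary abelian 2-groups

A sum of a quadratic `±1`-valued function over a group of order `2^d` has square divisible by
`2^d`; hence the zero sets of one (`d ≥ 3`) or two (`d ≥ 5`) such functions have even size.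
-/

set_option autoImplicit false

namespace CfsgLib.NormalRankTwoAut

variable {V : Type*} [Group V]

/-- The polar function of a sign-valued function. -/
def polar (q : V → ℤˣ) (u v : V) : ℤˣ := q (u * v) * q u * q v

/-- Sign-valued functions whose polar function is multiplicative in the first variable. -/
def IsQuad (q : V → ℤˣ) : Prop := ∀ u v w : V, polar q (u * v) w = polar q u w * polar q v w

theorem IsQuad.mul {q r : V → ℤˣ} (hq : IsQuad q) (hr : IsQuad r) :
    IsQuad (fun v => q v * r v) := by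
  intro u v w
  have e1 := hq u v w
  have e2 := hr u v w
  simp only [polar] at e1 e2 ⊢
  calc q (u * v * w) * r (u * v * w) * (q (u * v) * r (u * v)) * (q w * r w)
      = (q (u * v * w) * q (u * v) * q w) * (r (u * v * w) * r (u * v) * r w) := by
        simp [mul_assoc, mul_left_comm, mul_comm]
    _ = _ := by
        rw [e1, e2]
        simp [mul_assoc, mul_left_comm, mul_comm]

variable [Fintype V]

theorem card_dvd_sum_sq {q : V → ℤˣ} (hq : IsQuad q) :
    (Fintype.card V : ℤ) ∣ (∑ v, (q v : ℤ)) ^ 2 := by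
  classical
  have key : (∑ v, (q v : ℤ)) ^ 2 = ∑ h, (q h : ℤ) * ∑ v, ((polar q v h : ℤˣ) : ℤ) := by
    rw [pow_two, Finset.sum_mul_sum]
    have : ∀ v : V, ∑ w, (q v : ℤ) * (q w : ℤ) = ∑ h, (q v : ℤ) * (q (v * h) : ℤ) := fun v =>
      (Fintype.sum_equiv (Equiv.mulLeft v) _ _ fun h => by simp).symm
    rw [Finset.sum_congr rfl fun v _ => this v, Finset.sum_comm]
    refine Finset.sum_congr rfl fun h _ => ?_
    rw [Finset.mul_sum]
    refine Finset.sum_congr rfl fun v _ => ?_
    simp only [← Units.val_mul, polar]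
    congr 1
    have hh : q h * q h = 1 := Int.units_mul_self _
    rw [show q h * (q (v * h) * q v * q h) = q h * q h * (q v * q (v * h)) by ac_rfl, hh, one_mul]
  rw [key]
  refine Finset.dvd_sum fun h _ => Dvd.dvd.mul_left ?_ _
  let χ : V →* ℤ :=
    { toFun := fun v => ((polar q v h : ℤˣ) : ℤ)
      map_one' := by
        have h1 := hq 1 1 h
        rw [one_mul, right_eq_mul] at h1
        simp [h1]
      map_mul' := fun u v => by rw [hq u v h, Units.val_mul] }
  by_cases hχ : ∀ v, χ v = 1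
  · have : ∑ v, ((polar q v h : ℤˣ) : ℤ) = (Fintype.card V : ℤ) := by
      rw [Finset.sum_congr rfl (fun v _ => (show ((polar q v h : ℤˣ) : ℤ) = 1 from hχ v))]
      simp
    rw [this]
  · obtain ⟨g, hg⟩ := not_forall.1 hχ
    have hs : ∑ v, χ v = χ g * ∑ v, χ v := by
      rw [Finset.mul_sum]
      exact (Fintype.sum_equiv (Equiv.mulLeft g) _ _ fun v => (map_mul χ g v).symm).symm
    have h0 : ∑ v, χ v = 0 := by
      by_contra h0
      exact hg ((mul_eq_right₀ h0).1 hs.symm)
    exact ⟨0, by rw [mul_zero]; exact h0⟩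

theorem pow_dvd_sum {q : V → ℤˣ} (hq : IsQuad q) {d e : ℕ} (hd : Fintype.card V = 2 ^ d)
    (hde : 2 * e ≤ d + 1) : (2 : ℤ) ^ e ∣ ∑ v, (q v : ℤ) := by
  rcases Nat.eq_zero_or_pos e with rfl | he
  · simp
  set S := ∑ v, (q v : ℤ)
  rcases eq_or_ne S 0 with h0 | h0
  · rw [h0]; exact dvd_zero _
  have h := card_dvd_sum_sq hq
  rw [hd] at h
  push_cast at h
  have hd' : ((2 : ℕ) : ℤ) ^ d ∣ S ^ 2 := by exact_mod_cast h
  have hd2 : 2 ^ d ∣ S.natAbs ^ 2 := by
    have := Int.natAbs_dvd_natAbs.2 hd'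
    simpa [Int.natAbs_pow] using this
  haveI : Fact (Nat.Prime 2) := ⟨Nat.prime_two⟩
  have hne : S.natAbs ≠ 0 := Int.natAbs_ne_zero.2 h0
  rw [padicValNat_dvd_iff_le (pow_ne_zero _ hne), padicValNat.pow] at hd2
  have : 2 ^ e ∣ S.natAbs := (padicValNat_dvd_iff_le hne).2 (by omega)
  have := Int.natCast_dvd.2 this
  simpa using this

theorem ite_eq_half (a : ℤˣ) : (2 : ℤ) * (if a = 1 then 1 else 0) = 1 + (a : ℤ) := by
  rcases Int.units_eq_one_or a with h | h <;> simp [h]

/-- One quadratic function: an even number of zeros. -/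
theorem even_card_zero {q : V → ℤˣ} (hq : IsQuad q) {d : ℕ} (hd : Fintype.card V = 2 ^ d)
    (hd3 : 3 ≤ d) : Even (Finset.univ.filter fun v => q v = 1).card := by
  classical
  have hN : (2 : ℤ) * (Finset.univ.filter fun v => q v = 1).card =
      (Fintype.card V : ℤ) + ∑ v, (q v : ℤ) := by
    rw [Finset.card_filter, Nat.cast_sum, Finset.mul_sum]
    rw [show (Fintype.card V : ℤ) = ∑ _v : V, (1 : ℤ) by simp, ← Finset.sum_add_distrib]
    exact Finset.sum_congr rfl fun v _ => by rw [← ite_eq_half]; split_ifs <;> simp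
  have h1 := pow_dvd_sum hq hd (e := 2) (by omega)
  have h2 : (2 : ℤ) ^ 2 ∣ (Fintype.card V : ℤ) := by
    rw [hd]; push_cast; exact dvd_trans (show (4 : ℤ) ∣ 2 ^ 3 by norm_num) (pow_dvd_pow 2 hd3)
  have h3 : (2 : ℤ) ^ 2 ∣ (2 : ℤ) * (Finset.univ.filter fun v => q v = 1).card :=
    hN ▸ dvd_add h2 h1
  rw [even_iff_two_dvd]
  refine Int.natCast_dvd_natCast.1 ?_
  rw [pow_two] at h3
  simpa using Int.dvd_of_mul_dvd_mul_left two_ne_zero h3

/-- Two quadratic functions: an even number of common zeros. -/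
theorem even_card_zero_two {q r : V → ℤˣ} (hq : IsQuad q) (hr : IsQuad r) {d : ℕ}
    (hd : Fintype.card V = 2 ^ d) (hd5 : 5 ≤ d) :
    Even (Finset.univ.filter fun v => q v = 1 ∧ r v = 1).card := by
  classical
  have hN : (4 : ℤ) * (Finset.univ.filter fun v => q v = 1 ∧ r v = 1).card =
      (Fintype.card V : ℤ) + ∑ v, (q v : ℤ) + ∑ v, (r v : ℤ) + ∑ v, ((q v * r v : ℤˣ) : ℤ) := by
    rw [Finset.card_filter, Nat.cast_sum, Finset.mul_sum,
      show (Fintype.card V : ℤ) = ∑ _v : V, (1 : ℤ) by simp, ← Finset.sum_add_distrib,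
      ← Finset.sum_add_distrib, ← Finset.sum_add_distrib]
    refine Finset.sum_congr rfl fun v _ => ?_
    rcases Int.units_eq_one_or (q v) with h | h <;> rcases Int.units_eq_one_or (r v) with h' | h' <;>
      simp [h, h']
  have h1 := pow_dvd_sum hq hd (e := 3) (by omega)
  have h1' := pow_dvd_sum hr hd (e := 3) (by omega)
  have h1'' := pow_dvd_sum (hq.mul hr) hd (e := 3) (by omega)
  have h2 : (2 : ℤ) ^ 3 ∣ (Fintype.card V : ℤ) := by
    rw [hd]; push_cast; exact dvd_trans (show (8 : ℤ) ∣ 2 ^ 5 by norm_num) (pow_dvd_pow 2 hd5)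
  have h3 : (2 : ℤ) ^ 3 ∣ (4 : ℤ) * (Finset.univ.filter fun v => q v = 1 ∧ r v = 1).card :=
    hN ▸ dvd_add (dvd_add (dvd_add h2 h1) h1') h1''
  rw [even_iff_two_dvd]
  refine Int.natCast_dvd_natCast.1 ?_
  rw [show (2 : ℤ) ^ 3 = 4 * 2 by norm_num] at h3
  simpa using Int.dvd_of_mul_dvd_mul_left (by norm_num) h3

/-- In a finite 2-group, a conjugation-stable set of odd size contains a central element. -/
theorem exists_central_of_odd {Γ : Type*} [Group Γ] [Finite Γ] (hΓ : IsPGroup 2 Γ) (S : Set Γ)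
    (hS : ∀ g : Γ, ∀ s ∈ S, g * s * g⁻¹ ∈ S) (hodd : Odd (Nat.card S)) :
    ∃ s ∈ S, ∀ g : Γ, g * s = s * g := by
  haveI : Fact (Nat.Prime 2) := ⟨Nat.prime_two⟩
  letI : MulAction Γ S :=
    { smul := fun g s => ⟨g * (s : Γ) * g⁻¹, hS g s s.2⟩
      one_smul := fun s => Subtype.ext (by show 1 * (s : Γ) * 1⁻¹ = s; group)
      mul_smul := fun g h s => Subtype.ext (by
        show g * h * (s : Γ) * (g * h)⁻¹ = g * (h * (s : Γ) * h⁻¹) * g⁻¹
        group) }
  have hmod := hΓ.card_modEq_card_fixedPoints S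
  have hne : (MulAction.fixedPoints Γ S).Nonempty := by
    by_contra hempty
    rw [Set.not_nonempty_iff_eq_empty] at hempty
    rw [hempty] at hmod
    simp only [Nat.card_eq_fintype_card, Nat.ModEq] at hmod
    rw [Nat.odd_iff] at hodd
    simp_all
  obtain ⟨s, hs⟩ := hne
  refine ⟨s, s.2, fun g => ?_⟩
  have h1 : g * (s : Γ) * g⁻¹ = (s : Γ) := congrArg Subtype.val (hs g)
  exact mul_inv_eq_iff_eq_mul.1 h1

end CfsgLib.NormalRankTwoAut
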