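import Cfsg.Agent.NormalRankTwoAut.Basic
import Cfsg.Agent.NormalRankTwoAut.Parity

/-!
# Central singular vectors of the squaring map
-/

set_option autoImplicit false

namespace CfsgLib.NormalRankTwoAut

open Subgroup

variable {T : Type*} [Group T]

open Classical in
/-- The sign attached to a subgroup. -/
noncomputable def sgn (H : Subgroup T) (x : T) : ℤˣ := if x ∈ H then 1 else -1

theorem sgn_eq_one {H : Subgroup T} {x : T} : sgn H x = 1 ↔ x ∈ H := by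
  unfold sgn; split_ifs with h <;> simp [h]

theorem sgn_mul {H A : Subgroup T} (hHA : H ≤ A)
    (htwo : ∀ a ∈ A, ∀ b ∈ A, a ∉ H → b ∉ H → a * b ∈ H) {a b : T} (ha : a ∈ A) (hb : b ∈ A) :
    sgn H (a * b) = sgn H a * sgn H b := by
  unfold sgn
  by_cases h1 : a ∈ H <;> by_cases h2 : b ∈ H
  · simp [h1, h2, H.mul_mem h1 h2]
  · have : a * b ∉ H := fun h => h2 ((H.mul_mem_cancel_left h1).1 h)
    simp [h1, h2, this]
  · have : a * b ∉ H := fun h => h1 ((H.mul_mem_cancel_right h2).1 h)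
    simp [h1, h2, this]
  · simp [h1, h2, htwo a ha b hb h1 h2]

/-- Hypotheses making `p ↦ sgn H (p * p)` a quadratic function on `P / Z`. -/
structure SqData (Z P A H : Subgroup T) : Prop where
  zp : Z ≤ P
  az : A ≤ Z
  ha : H ≤ A
  two : ∀ a ∈ A, ∀ b ∈ A, a ∉ H → b ∉ H → a * b ∈ H
  cent : ∀ p ∈ P, ∀ z ∈ Z, Commute p z
  sq : ∀ p ∈ P, p * p ∈ A
  comm : ∀ p ∈ P, ∀ q ∈ P, p * q * p⁻¹ * q⁻¹ ∈ A
  zsq : ∀ z ∈ Z, z * z ∈ H

variable {Z P A H : Subgroup T}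

theorem SqData.sgn_translate (D : SqData Z P A H) {r z : T} (hr : r ∈ P) (hz : z ∈ Z) :
    sgn H (r * z * (r * z)) = sgn H (r * r) := by
  rw [(D.cent r hr z hz).symm.mul_mul_mul_comm,
    sgn_mul D.ha D.two (D.sq r hr) (D.ha (D.zsq z hz)), sgn_eq_one.2 (D.zsq z hz), mul_one]

variable [Z.Normal]

theorem exists_rep {v : T ⧸ Z} (hv : v ∈ P.map (QuotientGroup.mk' Z)) :
    ∃ p ∈ P, (p : T ⧸ Z) = v := by
  obtain ⟨p, hp, h⟩ := hv
  exact ⟨p, hp, h⟩

/-- The quadratic function. -/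
noncomputable def sqFun (H : Subgroup T) (v : P.map (QuotientGroup.mk' Z)) : ℤˣ :=
  sgn H ((exists_rep v.2).choose * (exists_rep v.2).choose)

theorem SqData.sqFun_eq (D : SqData Z P A H) (v : P.map (QuotientGroup.mk' Z)) {p : T}
    (hp : p ∈ P) (hpv : (p : T ⧸ Z) = v) : sqFun H v = sgn H (p * p) := by
  obtain ⟨hr, hrv⟩ := (exists_rep v.2).choose_spec
  unfold sqFun
  generalize (exists_rep v.2).choose = r at hr hrv ⊢
  have hz : r⁻¹ * p ∈ Z := QuotientGroup.eq.1 (hrv.trans hpv.symm)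
  conv_rhs => rw [show p = r * (r⁻¹ * p) by group]
  exact (D.sgn_translate hr hz).symm

theorem SqData.isQuad (D : SqData Z P A H) : IsQuad (sqFun (Z := Z) (P := P) H) := by
  have hmul : ∀ {a b : T}, a ∈ A → b ∈ A → sgn H (a * b) = sgn H a * sgn H b :=
    fun ha hb => sgn_mul D.ha D.two ha hb
  have hpol : ∀ u v : P.map (QuotientGroup.mk' Z), ∀ p ∈ P, ∀ q ∈ P,
      (p : T ⧸ Z) = u → (q : T ⧸ Z) = v →
      polar (sqFun H) u v = sgn H (q * p * q⁻¹ * p⁻¹) := by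
    intro u v p hp q hq hpu hqv
    unfold polar
    rw [D.sqFun_eq u hp hpu, D.sqFun_eq v hq hqv, D.sqFun_eq (u * v) (P.mul_mem hp hq)
      (by rw [QuotientGroup.mk_mul, hpu, hqv]; rfl)]
    have hcz := D.az (D.comm q hq p hp)
    have e : p * q * (p * q) = q * p * q⁻¹ * p⁻¹ * (p * p * (q * q)) := by
      calc p * q * (p * q) = p * (q * p * q⁻¹ * p⁻¹) * (p * q) * q := by group
        _ = _ := by rw [(D.cent p hp _ hcz).eq]; group
    rw [e, hmul (D.comm q hq p hp) (A.mul_mem (D.sq p hp) (D.sq q hq)),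
      hmul (D.sq p hp) (D.sq q hq),
      show ∀ a b c : ℤˣ, a * (b * c) * b * c = a * ((b * b) * (c * c)) from fun a b c => by ac_rfl]
    simp [Int.units_mul_self]
  intro u v w
  obtain ⟨p, hp, hpu⟩ := exists_rep u.2
  obtain ⟨p', hp', hpv⟩ := exists_rep v.2
  obtain ⟨q, hq, hqw⟩ := exists_rep w.2
  rw [hpol (u * v) w (p * p') (P.mul_mem hp hp') q hq
      (by rw [QuotientGroup.mk_mul, hpu, hpv]; rfl) hqw,
    hpol u w p hp q hq hpu hqw, hpol v w p' hp' q hq hpv hqw]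
  have hcz := D.az (D.comm q hq p' hp')
  have e : q * (p * p') * q⁻¹ * (p * p')⁻¹ = q * p * q⁻¹ * p⁻¹ * (q * p' * q⁻¹ * p'⁻¹) := by
    calc q * (p * p') * q⁻¹ * (p * p')⁻¹
        = q * p * q⁻¹ * (q * p' * q⁻¹ * p'⁻¹) * p⁻¹ := by group
      _ = _ := by
        rw [mul_assoc (q * p * q⁻¹), ← (D.cent _ (P.inv_mem hp) _ hcz).eq]; group
  rw [e, hmul (D.comm q hq p hp) (D.comm q hq p' hp')]

variable [Finite T]

/-- An odd number of good cosets yields a good coset central modulo `Z`. -/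
theorem central_of_even (hB : Base T) [hP : P.Normal] (good : T → Prop)
    (hgood : ∀ t : T, ∀ p ∈ P, good p → good (t * p * t⁻¹))
    [Fintype (P.map (QuotientGroup.mk' Z))]
    (c : P.map (QuotientGroup.mk' Z) → Prop) [DecidablePred c] (h1 : c 1)
    (hc : ∀ v : P.map (QuotientGroup.mk' Z), ∀ p ∈ P, (p : T ⧸ Z) = (v : T ⧸ Z) → (c v ↔ good p))
    (heven : Even (Finset.univ.filter c).card) :
    ∃ s ∈ P, s ∉ Z ∧ good s ∧ ∀ t : T, t * s * t⁻¹ * s⁻¹ ∈ Z := by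
  classical
  set S : Set (T ⧸ Z) := (Subtype.val : P.map (QuotientGroup.mk' Z) → T ⧸ Z) ''
    (((Finset.univ.filter c).erase 1 : Finset (P.map (QuotientGroup.mk' Z))) : Set _)
    with hS
  have hmem : ∀ w : T ⧸ Z, w ∈ S ↔ w ≠ 1 ∧ ∃ p ∈ P, good p ∧ (p : T ⧸ Z) = w := by
    intro w
    constructor
    · rintro ⟨v, hv, rfl⟩
      simp only [Finset.coe_erase, Finset.coe_filter, Finset.mem_univ, true_and, Set.mem_diff,
        Set.mem_setOf_eq, Set.mem_singleton_iff] at hv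
      obtain ⟨p, hp, hpv⟩ := exists_rep v.2
      exact ⟨fun h => hv.2 (Subtype.ext h), p, hp, (hc v p hp hpv).1 hv.1, hpv⟩
    · rintro ⟨hw, p, hp, hg, rfl⟩
      refine ⟨⟨(p : T ⧸ Z), p, hp, rfl⟩, ?_, rfl⟩
      simp only [Finset.coe_erase, Finset.coe_filter, Finset.mem_univ, true_and, Set.mem_diff,
        Set.mem_setOf_eq, Set.mem_singleton_iff]
      exact ⟨(hc _ p hp rfl).2 hg, fun h => hw (congrArg Subtype.val h)⟩
  have hodd : Odd (Nat.card S) := by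
    rw [hS, Nat.card_image_of_injective Subtype.val_injective, Nat.card_coe_set_eq,
      Set.ncard_coe_finset, Finset.card_erase_of_mem (by simp [h1])]
    have : 0 < (Finset.univ.filter c).card := Finset.card_pos.2 ⟨1, by simp [h1]⟩
    obtain ⟨k, hk⟩ := heven
    exact ⟨k - 1, by omega⟩
  obtain ⟨w, hwS, hwc⟩ := exists_central_of_odd (hB.pg.to_quotient Z) S (by
    intro g w hw
    induction g using QuotientGroup.induction_on with
    | H t =>
      obtain ⟨hne, p, hp, hg, rfl⟩ := (hmem w).1 hw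
      refine (hmem _).2 ⟨fun h => hne ?_, t * p * t⁻¹, hP.conj_mem p hp t, hgood t p hp hg, rfl⟩
      have h2 := congrArg (fun y => (t : T ⧸ Z)⁻¹ * y * (t : T ⧸ Z)) h
      simpa [mul_assoc] using h2) hodd
  obtain ⟨hne, p, hp, hg, rfl⟩ := (hmem w).1 hwS
  refine ⟨p, hp, fun h => hne ((QuotientGroup.eq_one_iff p).2 h), hg, fun t => ?_⟩
  rw [← QuotientGroup.eq_one_iff, QuotientGroup.mk_mul, QuotientGroup.mk_mul, QuotientGroup.mk_mul,
    QuotientGroup.mk_inv, QuotientGroup.mk_inv, hwc (t : T ⧸ Z)]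
  group

/-- One quadratic function on at least eight cosets. -/
theorem SqData.exists_central (hB : Base T) (D : SqData Z P A H) [P.Normal] [hH : H.Normal]
    (hcard : 8 ≤ Nat.card (P.map (QuotientGroup.mk' Z))) :
    ∃ s ∈ P, s ∉ Z ∧ s * s ∈ H ∧ ∀ t : T, t * s * t⁻¹ * s⁻¹ ∈ Z := by
  classical
  haveI : Fintype (P.map (QuotientGroup.mk' Z)) := Fintype.ofFinite _
  haveI : Fact (Nat.Prime 2) := ⟨Nat.prime_two⟩
  obtain ⟨d, hd⟩ := ((hB.pg.to_quotient Z).to_subgroup (P.map (QuotientGroup.mk' Z))).exists_card_eq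
  have h3 : 3 ≤ d := (Nat.pow_le_pow_iff_right one_lt_two).1 (hcard.trans_eq hd)
  rw [Nat.card_eq_fintype_card] at hd
  refine central_of_even hB (fun p => p * p ∈ H)
    (fun t p _ h => by simpa [mul_assoc] using hH.conj_mem _ h t)
    (fun v => sqFun H v = 1) ?_ (fun v p hp hpv => ?_) (even_card_zero D.isQuad hd h3)
  · show sqFun H 1 = 1
    rw [D.sqFun_eq 1 P.one_mem rfl, sgn_eq_one, one_mul]
    exact H.one_mem
  · rw [D.sqFun_eq v hp hpv, sgn_eq_one]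

/-- Two quadratic functions on at least 32 cosets. -/
theorem SqData.exists_central_two (hB : Base T) {A' H' : Subgroup T} (D : SqData Z P A H)
    (D' : SqData Z P A' H') [P.Normal]
    (hinv : ∀ t : T, ∀ a ∈ H, a ∈ H' → t * a * t⁻¹ ∈ H ∧ t * a * t⁻¹ ∈ H')
    (hcard : 32 ≤ Nat.card (P.map (QuotientGroup.mk' Z))) :
    ∃ s ∈ P, s ∉ Z ∧ (s * s ∈ H ∧ s * s ∈ H') ∧ ∀ t : T, t * s * t⁻¹ * s⁻¹ ∈ Z := by
  classical
  haveI : Fintype (P.map (QuotientGroup.mk' Z)) := Fintype.ofFinite _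
  haveI : Fact (Nat.Prime 2) := ⟨Nat.prime_two⟩
  obtain ⟨d, hd⟩ := ((hB.pg.to_quotient Z).to_subgroup (P.map (QuotientGroup.mk' Z))).exists_card_eq
  have h5 : 5 ≤ d := (Nat.pow_le_pow_iff_right one_lt_two).1 (hcard.trans_eq hd)
  rw [Nat.card_eq_fintype_card] at hd
  refine central_of_even hB (fun p => p * p ∈ H ∧ p * p ∈ H')
    (fun t p _ h => by simpa [mul_assoc] using hinv t _ h.1 h.2)
    (fun v => sqFun H v = 1 ∧ sqFun H' v = 1) ?_ (fun v p hp hpv => ?_)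
    (even_card_zero_two D.isQuad D'.isQuad hd h5)
  · show sqFun H 1 = 1 ∧ sqFun H' 1 = 1
    rw [D.sqFun_eq 1 P.one_mem rfl, D'.sqFun_eq 1 P.one_mem rfl, sgn_eq_one, sgn_eq_one, one_mul]
    exact ⟨H.one_mem, H'.one_mem⟩
  · rw [D.sqFun_eq v hp hpv, D'.sqFun_eq v hp hpv, sgn_eq_one, sgn_eq_one]

end CfsgLib.NormalRankTwoAut
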