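import Cfsg.Agent.NormalRankTwoAut.Defect
import Cfsg.Agent.NormalRankTwoAut.Quadratic
import Cfsg.Agent.NormalRankTwoAut.Split

/-!
# The case of a four group of involutions in `Z(K)` fixed by the automorphism
-/

set_option autoImplicit false

namespace CfsgLib.NormalRankTwoAut

open Subgroup

variable {T : Type*} [Group T] [Finite T]

/-- If `Z(K)` is not elementary, has four solutions of `a * a = 1` and these are fixed by the
automorphism, the group splits over a quaternion pair. -/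
theorem hasSplit_of_fixed (hB : Base T) {Z M : Subgroup T} (S : Setup Z M) {φ : MulAut T}
    (hφ : Odd (orderOf φ)) (hne : φ ≠ 1) (h4 : Nat.card (omega Z) = 4)
    (hnel : ¬ ∀ a ∈ Z, a * a = 1) (hΩfix : ∀ a ∈ Z, a * a = 1 → φ a = a) : HasSplit T := by
  classical
  haveI := S.zchar
  haveI := S.mchar
  have hZn : Z.Normal := inferInstance
  have hMn : M.Normal := inferInstance
  have hc := S.zcomm
  haveI hΩn : (omega Z).Normal := omega_normal hc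
  have hΩ1 : ∀ u ∈ omega Z, u * u = 1 := fun u hu => ((mem_omega hc).1 hu).2
  have hΩc : ∀ u ∈ omega Z, ∀ v ∈ omega Z, Commute u v :=
    fun u hu v hv => hc u (omega_le Z hu) v (omega_le Z hv)
  have hZfix : ∀ a ∈ Z, φ a = a := hB.fixed_of_fixed_involutions hφ hc
    (fun a ha => map_mem_of_characteristic S.zchar φ ha) hΩfix
  have hφΩ : ∀ o ∈ omega Z, φ o = o := fun o ho => hZfix o (omega_le Z ho)
  have hfalse : ∀ x ∈ M, x ∉ Z → x * x = 1 → (∀ t : T, t * x * t⁻¹ * x⁻¹ ∈ omega Z) → False :=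
    fun x hxM hxZ hxx hxt => hB.false_of_normal_involution (omega Z) hΩc hΩ1 h4
      (fun h => hxZ (omega_le Z h)) hxx (fun u hu => S.cent x hxM u (omega_le Z hu)) hxt
  have hinΩ : ∀ x ∈ M, ∀ t : T, Commute t (x * x) → t * x * t⁻¹ * x⁻¹ ∈ Z →
      t * x * t⁻¹ * x⁻¹ ∈ omega Z := fun x hx t ht h =>
    (mem_omega hc).2 ⟨h, comm_sq_one (S.cent x hx _ h).symm ht⟩
  have htrans : ∀ a : T, ∀ θ ∈ Z, (∀ t : T, t * a * t⁻¹ * a⁻¹ ∈ Z) →
      ∀ t : T, t * (a * θ) * t⁻¹ * (a * θ)⁻¹ ∈ Z := by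
    intro a θ hθ h t
    have hd : t * θ * t⁻¹ * θ⁻¹ ∈ Z := Z.mul_mem (hZn.conj_mem θ hθ t) (Z.inv_mem hθ)
    rw [show t * (a * θ) * t⁻¹ * (a * θ)⁻¹ =
      t * a * t⁻¹ * a⁻¹ * (a * (t * θ * t⁻¹ * θ⁻¹) * a⁻¹) by group]
    exact Z.mul_mem (h t) (hZn.conj_mem _ hd a)
  have hsqn : (sqs Z).Normal := sqs_normal hc
  have hsqon : (sqo Z).Normal := sqo_normal hc
  have hsq_inv : ∀ p ∈ M, ∀ θ ∈ Z, p * θ⁻¹ * (p * θ⁻¹) = p * p * (θ * θ)⁻¹ := by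
    intro p hp θ hθ
    rw [(S.cent p hp _ (Z.inv_mem hθ)).symm.mul_mul_mul_comm]
    group
  -- the distinguished involution
  obtain ⟨a₀, ha₀, ha₀a⟩ : ∃ a ∈ Z, a * a ≠ 1 := by
    by_contra h
    push Not at h
    exact hnel h
  obtain ⟨k₀, hk1, hk2⟩ := hB.exists_pow_sq ha₀a
  set c := (a₀ * a₀) ^ k₀ with hcdef
  have hcsq : c ∈ sqs Z := (sqs Z).pow_mem (mul_self_mem_sqs ha₀) k₀
  have hc1 : c ≠ 1 := hk1
  have hcc : c * c = 1 := hk2
  have hcΩ : c ∈ omega Z := (mem_omega hc).2 ⟨sqs_le Z hcsq, hcc⟩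
  obtain ⟨w₂, hw₂, hw₂c⟩ := (mem_sqs hc).1 hcsq
  -- not every involution of `Z` is a square
  have hnot : ¬ omega Z ≤ sqs Z := by
    intro hle
    obtain ⟨m, hm, hmZ⟩ := S.exists_moved hB hφ hne hZfix
    have hcomm : ∀ p ∈ M, ∀ q ∈ M, p * q * p⁻¹ * q⁻¹ ∈ sqs Z := fun p hp q hq =>
      hle ((mem_omega hc).2 ⟨S.comm p hp q hq, S.comm_sq p hp q hq⟩)
    let N : Subgroup T :=
      { carrier := {p | p ∈ M ∧ p * p ∈ sqs Z}
        one_mem' := ⟨M.one_mem, by rw [one_mul]; exact (sqs Z).one_mem⟩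
        mul_mem' := fun {a b} ha hb => ⟨M.mul_mem ha.1 hb.1, by
          rw [show a * b * (a * b) = a * (b * a * b⁻¹ * a⁻¹) * a⁻¹ * (a * a * (b * b)) by group]
          exact (sqs Z).mul_mem (hsqn.conj_mem _ (hcomm b hb.1 a ha.1) a)
            ((sqs Z).mul_mem ha.2 hb.2)⟩
        inv_mem' := fun {a} ha => ⟨M.inv_mem ha.1, by
          rw [← mul_inv_rev]; exact (sqs Z).inv_mem ha.2⟩ }
    have hNmem : ∀ a, a ∈ N ↔ a ∈ M ∧ a * a ∈ sqs Z := fun _ => Iff.rfl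
    haveI : N.Normal := ⟨fun a ha t => by
      rw [hNmem] at ha ⊢
      refine ⟨hMn.conj_mem a ha.1 t, ?_⟩
      rw [show t * a * t⁻¹ * (t * a * t⁻¹) = t * (a * a) * t⁻¹ by group]
      exact hsqn.conj_mem _ ha.2 t⟩
    have hd : m⁻¹ * φ m ∈ N := (hNmem _).2 ⟨S.defect_le φ (disp_mem_defect φ hm),
      S.sq_mem_of_defect hZfix (sqs Z) (fun a ha => mul_self_mem_sqs ha) hcomm _
        (disp_mem_defect φ hm)⟩
    obtain ⟨a, ha, haZ, hat⟩ := hB.exists_fixed_mod Z N hd hmZ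
    obtain ⟨haM, haa⟩ := (hNmem a).1 ha
    obtain ⟨θ, hθ, e⟩ := (mem_sqs hc).1 haa
    have hxx : a * θ⁻¹ * (a * θ⁻¹) = 1 := by rw [hsq_inv a haM θ hθ, ← e, mul_inv_cancel]
    have hxM : a * θ⁻¹ ∈ M := M.mul_mem haM (S.zm (Z.inv_mem hθ))
    exact hfalse _ hxM (fun h => haZ ((Z.mul_mem_cancel_right (Z.inv_mem hθ)).1 h)) hxx fun t =>
      hinΩ _ hxM t (by rw [hxx]; exact Commute.one_right t)
        (htrans a θ⁻¹ (Z.inv_mem hθ) hat t)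
  obtain ⟨b₀, hb₀Ω, hb₀⟩ := SetLike.not_le_iff_exists.1 hnot
  have hb₀1 : b₀ ≠ 1 := fun h => hb₀ (h ▸ (sqs Z).one_mem)
  have hcb₀ : c ≠ b₀ := fun h => hb₀ (h ▸ hcsq)
  have hsqsΩ : ∀ u ∈ omega Z, u ∈ sqs Z → u = 1 ∨ u = c := by
    intro u hu hus
    rcases four_elems hΩ1 h4 hcΩ hb₀Ω hc1 hb₀1 hcb₀ u hu with h | h | h | h
    · exact Or.inl h
    · exact Or.inr h
    · exact absurd (h ▸ hus) hb₀
    · exact absurd (((sqs Z).mul_mem_cancel_left hcsq).1 (h ▸ hus)) hb₀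
  have hαc : ∀ α : MulAut T, α c = c := by
    intro α
    refine (hsqsΩ _ (apply_mem_omega hc S.zchar α hcΩ)
      (apply_mem_sqs hc S.zchar α hcsq)).resolve_left fun h => hc1 (α.injective (h.trans ?_))
    exact (map_one α).symm
  have hcc' : ∀ t, Commute t c := fun t => by
    have h := hαc (MulAut.conj t)
    rw [MulAut.conj_apply] at h
    exact mul_inv_eq_iff_eq_mul.1 h
  set L := sqo Z with hL
  have hsqL : sqs Z ≤ L := le_sup_left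
  have hΩL : omega Z ≤ L := le_sup_right
  have htwoZ : ∀ a ∈ Z, ∀ b ∈ Z, a ∉ L → b ∉ L → a * b ∈ L :=
    two_sqo hc (Or.inr ⟨h4, b₀, hb₀Ω, hb₀⟩)
  have hcommL : ∀ m ∈ M, ∀ n ∈ M, m * n * m⁻¹ * n⁻¹ ∈ L := fun m hm n hn =>
    hΩL ((mem_omega hc).2 ⟨S.comm m hm n hn, S.comm_sq m hm n hn⟩)
  set P := defect φ Z M with hP
  haveI hPn : P.Normal := S.defect_normal hZfix
  have hPM : P ≤ M := S.defect_le φ
  have hPL : ∀ p ∈ P, p * p ∈ L :=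
    S.sq_mem_of_defect hZfix L (fun a ha => hsqL (mul_self_mem_sqs ha)) hcommL
  have D' : SqData Z P L (sqs Z) :=
    { zp := le_defect φ
      az := sqo_le Z
      ha := hsqL
      two := by
        intro a ha b hb haS hbS
        have key : ∀ u ∈ L, u ∉ sqs Z → b₀ * u ∈ sqs Z := by
          intro u hu huS
          obtain ⟨η, hη, o, ho, hoo, rfl⟩ := (mem_sqo hc).1 hu
          have hoS : o ∉ sqs Z := fun h => huS ((sqs Z).mul_mem (mul_self_mem_sqs hη) h)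
          rw [← mul_assoc, (hc b₀ (omega_le Z hb₀Ω) _ (Z.mul_mem hη hη)).eq, mul_assoc]
          refine (sqs Z).mul_mem (mul_self_mem_sqs hη) ?_
          rcases four_elems hΩ1 h4 hcΩ hb₀Ω hc1 hb₀1 hcb₀ o ((mem_omega hc).2 ⟨ho, hoo⟩)
            with h | h | h | h
          · exact absurd (h ▸ (sqs Z).one_mem) hoS
          · exact absurd (h ▸ hcsq) hoS
          · rw [h, hΩ1 b₀ hb₀Ω]; exact (sqs Z).one_mem
          · rw [h, (hΩc c hcΩ b₀ hb₀Ω).eq, ← mul_assoc, hΩ1 b₀ hb₀Ω, one_mul]; exact hcsq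
        have e : a * b = b₀ * a * (b₀ * b) := by
          rw [(hc a (sqo_le Z ha) b₀ (omega_le Z hb₀Ω)).mul_mul_mul_comm, hΩ1 b₀ hb₀Ω, one_mul]
        rw [e]
        exact (sqs Z).mul_mem (key a ha haS) (key b hb hbS)
      cent := fun p hp => S.cent p (hPM hp)
      sq := hPL
      comm := fun p hp q hq => hcommL p (hPM hp) q (hPM hq)
      zsq := fun a ha => mul_self_mem_sqs ha }
  have hsing : ∀ s ∈ P, s ∉ Z → s * s ∈ sqs Z → (∀ t : T, t * s * t⁻¹ * s⁻¹ ∈ Z) → False := by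
    intro s hs hsZ hss hst
    obtain ⟨θ, hθ, e⟩ := (mem_sqs hc).1 hss
    have hxx : s * θ⁻¹ * (s * θ⁻¹) = 1 := by rw [hsq_inv s (hPM hs) θ hθ, ← e, mul_inv_cancel]
    have hxM : s * θ⁻¹ ∈ M := M.mul_mem (hPM hs) (S.zm (Z.inv_mem hθ))
    exact hfalse _ hxM (fun h => hsZ ((Z.mul_mem_cancel_right (Z.inv_mem hθ)).1 h)) hxx fun t =>
      hinΩ _ hxM t (by rw [hxx]; exact Commute.one_right t)
        (htrans s θ⁻¹ (Z.inv_mem hθ) hst t)
  have hcard : Nat.card (P.map (QuotientGroup.mk' Z)) ≤ 4 := by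
    by_contra h
    haveI : Fact (Nat.Prime 2) := ⟨Nat.prime_two⟩
    obtain ⟨d, hd⟩ :=
      ((hB.pg.to_quotient Z).to_subgroup (P.map (QuotientGroup.mk' Z))).exists_card_eq
    have hd3 : 3 ≤ d := by
      by_contra h'
      have := Nat.pow_le_pow_right (n := 2) (by norm_num) (Nat.le_of_lt_succ (not_le.1 h'))
      omega
    haveI := hsqn
    obtain ⟨s, hs, hsZ, hss, hst⟩ := D'.exists_central hB (by
      have := Nat.pow_le_pow_right (n := 2) (by norm_num) hd3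
      omega)
    exact hsing s hs hsZ hss hst
  obtain ⟨p₀, hp₀, hp₀mv⟩ := S.exists_moved_defect hB hφ hne hZfix
  have hp₀Z : p₀ ∉ Z := fun h => hp₀mv (by rw [hZfix p₀ h, inv_mul_cancel]; exact Z.one_mem)
  obtain ⟨x₁, hx₁, hx₁Z, hx₁t⟩ := hB.exists_fixed_mod Z P hp₀ hp₀Z
  have hZinv : ∀ a ∈ Z, φ a ∈ Z := fun a ha => map_mem_of_characteristic S.zchar φ ha
  have hx₁mv : x₁⁻¹ * φ x₁ ∉ Z :=
    ((orbit_of_four hφ Z P hZinv (le_defect φ) (S.apply_mem_defect φ) hcard hp₀ hp₀mv).2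
      x₁ hx₁ hx₁Z).1
  obtain ⟨-, horb⟩ :=
    orbit_of_four hφ Z P hZinv (le_defect φ) (S.apply_mem_defect φ) hcard hx₁ hx₁mv
  have htriv := S.trivial_on_four hZfix hPM hx₁ (fun v hv hvZ => (horb v hv hvZ).2) hx₁t
  have hx₁S : x₁ * x₁ ∉ sqs Z := fun h => hsing x₁ hx₁ hx₁Z h hx₁t
  have hns : ∀ v ∈ P, v ∉ Z → v * v ∉ sqs Z := by
    intro v hv hvZ hvv
    have key : ∀ u : T, v⁻¹ * u ∈ Z → u * u = v * v * (v⁻¹ * u * (v⁻¹ * u)) := by
      intro u hu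
      rw [← (S.cent v (hPM hv) _ hu).symm.mul_mul_mul_comm]
      group
    have hfix : φ (x₁ * x₁) = x₁ * x₁ := hZfix _ (S.sq _ (hPM hx₁))
    apply hx₁S
    rcases (horb v hv hvZ).2 with h | h | h
    · rw [key _ h]; exact (sqs Z).mul_mem hvv (mul_self_mem_sqs h)
    · rw [← hfix, map_mul, key _ h]; exact (sqs Z).mul_mem hvv (mul_self_mem_sqs h)
    · rw [← hfix, ← hfix, map_mul, map_mul, key _ h]
      exact (sqs Z).mul_mem hvv (mul_self_mem_sqs h)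
  -- a representative whose square is an involution
  obtain ⟨η, hη, o, ho, hoo, he₁⟩ := (mem_sqo hc).1 (hPL x₁ hx₁)
  set x := x₁ * η⁻¹ with hxdef
  have hx : x ∈ P := P.mul_mem hx₁ (le_defect φ (Z.inv_mem hη))
  have hxM : x ∈ M := hPM hx
  have hxo : x * x = o := by
    rw [hxdef, hsq_inv x₁ (hPM hx₁) η hη, he₁, (hc _ (Z.mul_mem hη hη) o ho).eq,
      mul_inv_cancel_right]
  have hxZ : x ∉ Z := fun h => hx₁Z ((Z.mul_mem_cancel_right (Z.inv_mem hη)).1 h)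
  have hoS : o ∉ sqs Z := hxo ▸ hns x hx hxZ
  have hxmv : x⁻¹ * φ x ∉ Z := fun h => hx₁mv (by
    have e : x₁⁻¹ * φ x₁ = η⁻¹ * (x⁻¹ * φ x) * η := by
      rw [hxdef, map_mul, map_inv, hZfix η hη]; group
    rw [e]; exact Z.mul_mem (Z.mul_mem (Z.inv_mem hη) h) hη)
  set y := φ x with hydef
  have hy : y ∈ P := S.apply_mem_defect φ x hx
  have hyM : y ∈ M := hPM hy
  have hyo : y * y = o := by rw [hydef, ← map_mul, hxo, hZfix o ho]
  set z := y * x * y⁻¹ * x⁻¹ with hzdef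
  have hzΩ : z ∈ omega Z := (mem_omega hc).2 ⟨S.comm y hyM x hxM, S.comm_sq y hyM x hxM⟩
  have hxyS : x * y * (x * y) = z := by
    calc x * y * (x * y) = x * z * x * (y * y) := by rw [hzdef]; group
      _ = z * (x * x) * o := by rw [(S.cent x hxM _ (omega_le Z hzΩ)).eq, hyo]; group
      _ = z := by rw [hxo, mul_assoc, hoo, mul_one]
  have hxyZ : x * y ∉ Z := fun h => hxmv (by
    have e : x⁻¹ * y = (x * x)⁻¹ * (x * y) := by group
    rw [e, hxo]; exact Z.mul_mem (Z.inv_mem ho) h)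
  have hzS : z ∉ sqs Z := hxyS ▸ hns (x * y) (P.mul_mem hx hy) hxyZ
  have hz1 : z ≠ 1 := fun h => hzS (h ▸ (sqs Z).one_mem)
  have hzz : z * z = 1 := hΩ1 z hzΩ
  have hzc1 : z ≠ c := fun h => hzS (h ▸ hcsq)
  have hΩel : ∀ u ∈ omega Z, u = 1 ∨ u = z ∨ u = c ∨ u = z * c :=
    four_elems hΩ1 h4 hzΩ hcΩ hz1 hc1 hzc1
  have hzcom : Commute z c := hΩc z hzΩ c hcΩ
  obtain ⟨i, hiP, hix, hii, hiy⟩ : ∃ i, i ∈ P ∧ x⁻¹ * i ∈ Z ∧ i * i = z ∧
      φ i * i * (φ i)⁻¹ * i⁻¹ = z := by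
    rcases hΩel o ((mem_omega hc).2 ⟨ho, hoo⟩) with h | h | h | h
    · exact absurd (h ▸ (sqs Z).one_mem) hoS
    · exact ⟨x, hx, by rw [inv_mul_cancel]; exact Z.one_mem, hxo.trans h, rfl⟩
    · exact absurd (h ▸ hcsq) hoS
    · refine ⟨x * w₂, P.mul_mem hx (le_defect φ hw₂), by rw [inv_mul_cancel_left]; exact hw₂,
        ?_, ?_⟩
      · rw [(S.cent x hxM w₂ hw₂).symm.mul_mul_mul_comm, hxo, hw₂c, h, mul_assoc, hcc, mul_one]
      · rw [map_mul, hZfix w₂ hw₂, hzdef]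
        calc y * w₂ * (x * w₂) * (y * w₂)⁻¹ * (x * w₂)⁻¹
            = y * (w₂ * x) * (y⁻¹ * w₂⁻¹) * x⁻¹ := by group
          _ = y * (x * w₂) * (w₂⁻¹ * y⁻¹) * x⁻¹ := by
              rw [(S.cent x hxM w₂ hw₂).symm.eq,
                (S.cent _ (M.inv_mem hyM) _ (Z.inv_mem hw₂)).eq]
          _ = _ := by group
  have hiM : i ∈ M := hPM hiP
  set j := φ i with hjdef
  have hjP : j ∈ P := S.apply_mem_defect φ i hiP
  have hjM : j ∈ M := hPM hjP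
  have hjj : j * j = z := by rw [hjdef, ← map_mul, hii, hφΩ z hzΩ]
  have hzM : ∀ m ∈ M, Commute m z := fun m hm => S.cent m hm z (omega_le Z hzΩ)
  have hijij : i * j * (i * j) = z := by
    calc i * j * (i * j) = i * (j * i * j⁻¹ * i⁻¹) * i * (j * j) := by group
      _ = z * (i * i) * z := by rw [hiy, (hzM i hiM).eq, hjj]; group
      _ = z := by rw [hii, hzz, one_mul]
  have hcij : i * j * i⁻¹ * j⁻¹ = z := by
    rw [show i * j * i⁻¹ * j⁻¹ = (j * i * j⁻¹ * i⁻¹)⁻¹ by group, hiy,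
      inv_eq_of_mul_eq_one_right hzz]
  have hizt := fun t => htriv i hiP t
  have hjzt := fun t => htriv j hjP t
  -- `Ω` is central
  have hzc : ∀ t, Commute t z := by
    intro t
    obtain ⟨u, hu, hui⟩ : ∃ u ∈ Z, t * i * t⁻¹ = u * i := ⟨_, hizt t, by group⟩
    obtain ⟨u', hu', huj⟩ : ∃ u' ∈ Z, t * j * t⁻¹ = u' * j := ⟨_, hjzt t, by group⟩
    have e : t * z * t⁻¹ = z := by
      calc t * z * t⁻¹ = (t * j * t⁻¹) * (t * i * t⁻¹) * (t * j * t⁻¹)⁻¹ * (t * i * t⁻¹)⁻¹ := by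
            rw [← hiy]; group
        _ = u' * (j * u) * i * j⁻¹ * (u'⁻¹ * i⁻¹) * u⁻¹ := by rw [hui, huj]; group
        _ = u' * u * (j * i * j⁻¹ * i⁻¹) * u'⁻¹ * u⁻¹ := by
            rw [(S.cent j hjM u hu).eq, ← (S.cent _ (M.inv_mem hiM) _ (Z.inv_mem hu')).eq]
            group
        _ = z * (u' * u * u'⁻¹ * u⁻¹) := by
            rw [hiy, (hc (u' * u) (Z.mul_mem hu' hu) z (omega_le Z hzΩ)).eq]; group
        _ = z := by rw [(hc u' hu' u hu).eq]; group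
    exact mul_inv_eq_iff_eq_mul.1 e
  have hΩcen : ∀ u ∈ omega Z, ∀ t, Commute t u := by
    intro u hu t
    rcases hΩel u hu with rfl | rfl | rfl | rfl
    · exact Commute.one_right t
    · exact hzc t
    · exact hcc' t
    · exact (hzc t).mul_right (hcc' t)
  set Ez := Subgroup.zpowers z with hEz
  have hEzmem : ∀ {u : T}, u ∈ Ez → u = 1 ∨ u = z := fun h => mem_zpowers_of_sq hzz h
  have hzEz : z ∈ Ez := Subgroup.mem_zpowers z
  have hgu : ∀ t : T, ∀ u ∈ P, Commute t (u * u) → t * u * t⁻¹ * u⁻¹ ∈ omega Z :=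
    fun t u hu h => hinΩ u (hPM hu) t h (htriv u hu t)
  have hgi : ∀ t : T, t * i * t⁻¹ * i⁻¹ ∈ omega Z := fun t =>
    hgu t i hiP (by rw [hii]; exact hzc t)
  have hgj : ∀ t : T, t * j * t⁻¹ * j⁻¹ ∈ omega Z := fun t =>
    hgu t j hjP (by rw [hjj]; exact hzc t)
  have hgM : ∀ m ∈ M, ∀ u ∈ M, m * u * m⁻¹ * u⁻¹ ∈ omega Z := fun m hm u hu =>
    (mem_omega hc).2 ⟨S.comm m hm u hu, S.comm_sq m hm u hu⟩
  have hbim : ∀ a b u : T, b * u * b⁻¹ * u⁻¹ ∈ omega Z →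
      a * b * u * (a * b)⁻¹ * u⁻¹ = (b * u * b⁻¹ * u⁻¹) * (a * u * a⁻¹ * u⁻¹) := by
    intro a b u h
    calc a * b * u * (a * b)⁻¹ * u⁻¹ = a * (b * u * b⁻¹ * u⁻¹) * (u * a⁻¹ * u⁻¹) := by group
      _ = _ := by rw [(hΩcen _ h a).eq]; group
  have hbim' : ∀ t u v : T, t * v * t⁻¹ * v⁻¹ ∈ omega Z →
      t * (u * v) * t⁻¹ * (u * v)⁻¹ = (t * u * t⁻¹ * u⁻¹) * (t * v * t⁻¹ * v⁻¹) := by
    intro t u v h
    calc t * (u * v) * t⁻¹ * (u * v)⁻¹ =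
        t * u * t⁻¹ * ((t * v * t⁻¹ * v⁻¹) * u⁻¹) := by group
      _ = _ := by rw [← (hΩcen _ h u⁻¹).eq]; group
  -- the third class
  have himv : i⁻¹ * φ i ∉ Z := fun h => hxmv (by
    have e : x⁻¹ * φ x = x⁻¹ * i * (i⁻¹ * φ i) * (x⁻¹ * i)⁻¹ := by
      rw [show φ x = φ i * (φ (x⁻¹ * i))⁻¹ by rw [← map_inv, ← map_mul]; congr 1; group,
        hZfix _ hix]
      group
    rw [hydef, e]; exact Z.mul_mem (Z.mul_mem hix h) (Z.inv_mem hix))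
  have hjZ : j ∉ Z := fun h => himv (by
    have hiZ : i ∈ Z := by
      have := φ.injective ((hZfix _ h).trans hjdef)
      exact this ▸ h
    exact Z.mul_mem (Z.inv_mem hiZ) h)
  have hiZ : i ∉ Z := fun h => hxZ (by
    rw [show x = i * (x⁻¹ * i)⁻¹ by group]; exact Z.mul_mem h (Z.inv_mem hix))
  obtain ⟨-, horbi⟩ :=
    orbit_of_four hφ Z P hZinv (le_defect φ) (S.apply_mem_defect φ) hcard hiP himv
  have hijZ : i * j ∉ Z := fun h => himv (by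
    rw [show i⁻¹ * φ i = (i * i)⁻¹ * (i * j) by rw [hjdef]; group, hii]
    exact Z.mul_mem (Z.inv_mem (omega_le Z hzΩ)) h)
  obtain ⟨θ, hθΩ, hθ⟩ : ∃ θ ∈ omega Z, φ j = i * j * θ := by
    rcases (horbi (i * j) (P.mul_mem hiP hjP) hijZ).2 with h | h | h
    · exfalso
      apply hjZ
      have : j⁻¹ = (i * j)⁻¹ * i := by group
      exact Z.inv_mem_iff.1 (this ▸ h)
    · exfalso
      apply hiZ
      rw [← hjdef] at h
      rw [show i = j * ((i * j)⁻¹ * j)⁻¹ * j⁻¹ by group]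
      exact hZn.conj_mem _ (Z.inv_mem h) j
    · refine ⟨(i * j)⁻¹ * φ j, (mem_omega hc).2 ⟨h, ?_⟩, by group⟩
      set θ := (i * j)⁻¹ * φ j with hθ
      have e : φ j * φ j = z := by rw [← map_mul, hjj, hφΩ z hzΩ]
      rw [show φ j = i * j * θ by rw [hθ]; group,
        (S.cent _ (M.mul_mem hiM hjM) θ h).symm.mul_mul_mul_comm, hijij] at e
      exact mul_eq_left.1 e
  have hθt : ∀ t : T, t * θ * t⁻¹ * θ⁻¹ = 1 := fun t => by
    rw [(hΩcen θ hθΩ t).eq]; group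
  -- commutators of `P` lie in `⟨z⟩`
  have hPpart : ∀ p ∈ P, p * i * p⁻¹ * i⁻¹ ∈ Ez ∧ p * j * p⁻¹ * j⁻¹ ∈ Ez := by
    let Q : Subgroup T :=
      { carrier := {q | q ∈ M ∧ q * i * q⁻¹ * i⁻¹ ∈ Ez ∧ q * j * q⁻¹ * j⁻¹ ∈ Ez}
        one_mem' := ⟨M.one_mem, by simp, by simp⟩
        mul_mem' := fun {a b} ha hb => ⟨M.mul_mem ha.1 hb.1,
          by rw [hbim a b i (hgM b hb.1 i hiM)]; exact Ez.mul_mem hb.2.1 ha.2.1,
          by rw [hbim a b j (hgM b hb.1 j hjM)]; exact Ez.mul_mem hb.2.2 ha.2.2⟩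
        inv_mem' := fun {a} ha => ⟨M.inv_mem ha.1, by
          have h := hbim a⁻¹ a i (hgM a ha.1 i hiM)
          rw [inv_mul_cancel] at h
          simp only [one_mul, inv_one, mul_one, mul_inv_cancel] at h
          exact (Ez.mul_mem_cancel_left ha.2.1).1 (h ▸ Ez.one_mem), by
          have h := hbim a⁻¹ a j (hgM a ha.1 j hjM)
          rw [inv_mul_cancel] at h
          simp only [one_mul, inv_one, mul_one, mul_inv_cancel] at h
          exact (Ez.mul_mem_cancel_left ha.2.2).1 (h ▸ Ez.one_mem)⟩ }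
    have hQmem : ∀ q, q ∈ Q ↔ q ∈ M ∧ q * i * q⁻¹ * i⁻¹ ∈ Ez ∧ q * j * q⁻¹ * j⁻¹ ∈ Ez :=
      fun _ => Iff.rfl
    have hiQ : i ∈ Q := (hQmem i).2 ⟨hiM, by simp, hcij ▸ hzEz⟩
    have hjQ : j ∈ Q := (hQmem j).2 ⟨hjM, hiy ▸ hzEz, by simp⟩
    have hZQ : ∀ a ∈ Z, a ∈ Q := fun a ha => (hQmem a).2 ⟨S.zm ha,
      by rw [(S.cent i hiM a ha).symm.eq]; simp,
      by rw [(S.cent j hjM a ha).symm.eq]; simp⟩
    intro p hp
    have hpQ : p ∈ Q := by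
      by_cases hpZ : p ∈ Z
      · exact hZQ p hpZ
      rcases (horbi p hp hpZ).2 with h | h | h
      · rw [show p = i * (p⁻¹ * i)⁻¹ by group]
        exact Q.mul_mem hiQ (Q.inv_mem (hZQ _ h))
      · rw [show p = φ i * (p⁻¹ * φ i)⁻¹ by group]
        exact Q.mul_mem hjQ (Q.inv_mem (hZQ _ h))
      · rw [show p = φ (φ i) * (p⁻¹ * φ (φ i))⁻¹ by group]
        refine Q.mul_mem ?_ (Q.inv_mem (hZQ _ h))
        rw [← hjdef, hθ]
        exact Q.mul_mem (Q.mul_mem hiQ hjQ) (hZQ _ (omega_le Z hθΩ))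
    exact ((hQmem p).1 hpQ).2
  -- `T` moves `i` and `j` inside their `⟨z⟩`-cosets
  have hgθ : ∀ t : T, t * (i * j * θ) * t⁻¹ * (i * j * θ)⁻¹ =
      t * i * t⁻¹ * i⁻¹ * (t * j * t⁻¹ * j⁻¹) := fun t => by
    rw [hbim' t (i * j) θ (by rw [hθt t]; exact one_mem _), hθt, mul_one, hbim' t i j (hgj t)]
  have hgen : ∀ t : T, (∀ u, u = i ∨ u = j → (t⁻¹ * φ t) * u * (t⁻¹ * φ t)⁻¹ * u⁻¹ ∈ Ez) →
      t * i * t⁻¹ * i⁻¹ ∈ Ez ∧ t * j * t⁻¹ * j⁻¹ ∈ Ez := by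
    intro t hm
    set m₀ := t⁻¹ * φ t with hm₀
    have hm₀M : m₀ ∈ M := S.inv_mul_apply_mem hZfix t
    have e1 : ∀ u ∈ M, t * u * t⁻¹ * u⁻¹ ∈ omega Z →
        φ t * φ u * (φ t)⁻¹ * (φ u)⁻¹ = t * u * t⁻¹ * u⁻¹ := by
      intro u _ h
      rw [← map_inv, ← map_inv, ← map_mul, ← map_mul, ← map_mul, hφΩ _ h]
    have e3 : ∀ u ∈ M, φ t * u * (φ t)⁻¹ * u⁻¹ =
        m₀ * u * m₀⁻¹ * u⁻¹ * (t * u * t⁻¹ * u⁻¹) := by
      intro u hu
      rw [show φ t = t * m₀ by rw [hm₀]; group, hbim t m₀ u (hgM _ hm₀M u hu)]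
    have hμj : m₀ * j * m₀⁻¹ * j⁻¹ ∈ Ez := hm j (Or.inr rfl)
    have hμi : m₀ * i * m₀⁻¹ * i⁻¹ ∈ Ez := hm i (Or.inl rfl)
    have E1 : t * i * t⁻¹ * i⁻¹ = m₀ * j * m₀⁻¹ * j⁻¹ * (t * j * t⁻¹ * j⁻¹) := by
      rw [← e3 j hjM, ← e1 i hiM (hgi t)]
    have E2 : t * j * t⁻¹ * j⁻¹ = (m₀ * i * m₀⁻¹ * i⁻¹) * (m₀ * j * m₀⁻¹ * j⁻¹) *
        (t * i * t⁻¹ * i⁻¹ * (t * j * t⁻¹ * j⁻¹)) := by
      conv_lhs => rw [← e1 j hjM (hgj t), hθ, e3 _ (M.mul_mem (M.mul_mem hiM hjM)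
        (S.zm (omega_le Z hθΩ))), hgθ, hgθ]
    have hi' : t * i * t⁻¹ * i⁻¹ ∈ Ez := by
      set A := (m₀ * i * m₀⁻¹ * i⁻¹) * (m₀ * j * m₀⁻¹ * j⁻¹)
      rw [← mul_assoc A] at E2
      have h1 : A * (t * i * t⁻¹ * i⁻¹) = 1 := right_eq_mul.1 E2
      exact (Ez.mul_mem_cancel_left (Ez.mul_mem hμi hμj)).1 (h1 ▸ Ez.one_mem)
    exact ⟨hi', (Ez.mul_mem_cancel_left hμj).1 (E1 ▸ hi')⟩
  have hMpart : ∀ m ∈ M, m * i * m⁻¹ * i⁻¹ ∈ Ez ∧ m * j * m⁻¹ * j⁻¹ ∈ Ez := fun m hm =>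
    hgen m fun u hu => by
      rcases hu with rfl | rfl
      · exact (hPpart _ (disp_mem_defect φ hm)).1
      · exact (hPpart _ (disp_mem_defect φ hm)).2
  have hTpart : ∀ t : T, t * i * t⁻¹ * i⁻¹ ∈ Ez ∧ t * j * t⁻¹ * j⁻¹ ∈ Ez := fun t =>
    hgen t fun u hu => by
      rcases hu with rfl | rfl
      · exact (hMpart _ (S.inv_mul_apply_mem hZfix t)).1
      · exact (hMpart _ (S.inv_mul_apply_mem hZfix t)).2
  have hpair : ∀ t u : T, t * u * t⁻¹ * u⁻¹ ∈ Ez → t * u * t⁻¹ = u ∨ t * u * t⁻¹ = z * u := by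
    intro t u h
    rcases hEzmem h with h | h
    · exact Or.inl (mul_inv_eq_one.1 h)
    · exact Or.inr (by rw [← h]; group)
  obtain ⟨hWn, hdec⟩ := pair_dec hzc hzz hii hjj hijij (fun t => hpair t i (hTpart t).1)
    (fun t => hpair t j (hTpart t).2)
  set W := Subgroup.centralizer ({i, j} : Set T) with hWdef
  haveI := hWn
  have hWiff : ∀ w, w ∈ W ↔ Commute i w ∧ Commute j w := fun w => by
    rw [hWdef, Subgroup.mem_centralizer_iff]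
    refine ⟨fun h => ⟨h i (Set.mem_insert _ _), h j (Set.mem_insert_of_mem _ rfl)⟩,
      fun h g hg => ?_⟩
    rcases hg with rfl | rfl
    · exact h.1
    · exact h.2
  have hiW : i ∉ W := fun h => hz1 (by
    rw [← hcij, ← ((hWiff i).1 h).2.eq, mul_inv_cancel_right, mul_inv_cancel])
  have hZW : Z ≤ W := fun a ha => (hWiff a).2 ⟨S.cent i hiM a ha, S.cent j hjM a ha⟩
  set Z₁ := W ⊓ M with hZ₁def
  haveI : Z₁.Normal := inferInstanceAs (W ⊓ M).Normal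
  have hN' : ∀ m ∈ Z₁, m * m ∈ L → m ∈ Z := by
    let N' : Subgroup T :=
      { carrier := {m | m ∈ Z₁ ∧ m * m ∈ L}
        one_mem' := ⟨Z₁.one_mem, by rw [one_mul]; exact L.one_mem⟩
        mul_mem' := fun {a b} ha hb => ⟨Z₁.mul_mem ha.1 hb.1, by
          rw [show a * b * (a * b) = a * (b * a * b⁻¹ * a⁻¹) * a⁻¹ * (a * a * (b * b)) by group]
          exact L.mul_mem (hsqon.conj_mem _ (hcommL b hb.1.2 a ha.1.2) a) (L.mul_mem ha.2 hb.2)⟩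
        inv_mem' := fun {a} ha => ⟨Z₁.inv_mem ha.1, by rw [← mul_inv_rev]; exact L.inv_mem ha.2⟩ }
    have hN'mem : ∀ a, a ∈ N' ↔ a ∈ Z₁ ∧ a * a ∈ L := fun _ => Iff.rfl
    haveI : N'.Normal := ⟨fun a ha t => by
      rw [hN'mem] at ha ⊢
      refine ⟨(inferInstance : Z₁.Normal).conj_mem a ha.1 t, ?_⟩
      rw [show t * a * t⁻¹ * (t * a * t⁻¹) = t * (a * a) * t⁻¹ by group]
      exact hsqon.conj_mem _ ha.2 t⟩
    intro m hm hmm
    by_contra hmZ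
    obtain ⟨a, ha, haZ, hat⟩ := hB.exists_fixed_mod Z N' ((hN'mem m).2 ⟨hm, hmm⟩) hmZ
    obtain ⟨⟨haW, haM⟩, haa⟩ := (hN'mem a).1 ha
    obtain ⟨η', hη', o', ho', ho'o, e⟩ := (mem_sqo hc).1 haa
    set b := a * η'⁻¹ with hb
    have hbb : b * b = o' := by
      rw [hb, hsq_inv a haM η' hη', e, (hc _ (Z.mul_mem hη' hη') o' ho').eq, mul_inv_cancel_right]
    have hbM : b ∈ M := M.mul_mem haM (S.zm (Z.inv_mem hη'))
    have hbW : b ∈ W := W.mul_mem haW (hZW (Z.inv_mem hη'))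
    have hbZ : b ∉ Z := fun h => haZ ((Z.mul_mem_cancel_right (Z.inv_mem hη')).1 h)
    have hbt : ∀ t : T, t * b * t⁻¹ * b⁻¹ ∈ omega Z := fun t => hinΩ b hbM t
      (by rw [hbb]; exact hΩcen o' ((mem_omega hc).2 ⟨ho', ho'o⟩) t)
      (htrans a η'⁻¹ (Z.inv_mem hη') hat t)
    have hw₂t : ∀ t : T, t * w₂ * t⁻¹ * w₂⁻¹ ∈ omega Z := fun t =>
      hinΩ w₂ (S.zm hw₂) t (by rw [hw₂c]; exact hcc' t)
        (Z.mul_mem (hZn.conj_mem w₂ hw₂ t) (Z.inv_mem hw₂))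
    have hprod : ∀ u v : T, (∀ t : T, t * u * t⁻¹ * u⁻¹ ∈ omega Z) →
        (∀ t : T, t * v * t⁻¹ * v⁻¹ ∈ omega Z) →
        ∀ t : T, t * (u * v) * t⁻¹ * (u * v)⁻¹ ∈ omega Z := fun u v hu hv t => by
      rw [hbim' t u v (hv t)]; exact (omega Z).mul_mem (hu t) (hv t)
    have hbi : Commute i b := ((hWiff b).1 hbW).1
    have hnotZ : ∀ u, u ∈ W → i * u ∉ Z := fun u hu h => hiW (by
      rw [show i = i * u * u⁻¹ by group]; exact W.mul_mem (hZW h) (W.inv_mem hu))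
    rcases hΩel o' ((mem_omega hc).2 ⟨ho', ho'o⟩) with h | h | h | h
    · exact hfalse b hbM hbZ (hbb.trans h) hbt
    · refine hfalse (i * b) (M.mul_mem hiM hbM) (hnotZ b hbW) ?_ (hprod i b hgi hbt)
      rw [hbi.symm.mul_mul_mul_comm, hii, hbb, h, hzz]
    · refine hfalse (b * w₂) (M.mul_mem hbM (S.zm hw₂))
        (fun h' => hbZ ((Z.mul_mem_cancel_right hw₂).1 h')) ?_ (hprod b w₂ hbt hw₂t)
      rw [(S.cent b hbM w₂ hw₂).symm.mul_mul_mul_comm, hbb, hw₂c, h, hcc]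
    · refine hfalse (i * (b * w₂)) (M.mul_mem hiM (M.mul_mem hbM (S.zm hw₂)))
        (hnotZ _ (W.mul_mem hbW (hZW hw₂))) ?_ (hprod i _ hgi (hprod b w₂ hbt hw₂t))
      rw [(hbi.mul_right (S.cent i hiM w₂ hw₂)).symm.mul_mul_mul_comm,
        (S.cent b hbM w₂ hw₂).symm.mul_mul_mul_comm, hbb, hw₂c, h, hii, mul_assoc z c c, hcc,
        mul_one, hzz]
  have hZ₁cases : ∀ m ∈ Z₁, ∀ n ∈ Z₁, m ∉ Z → n ∉ Z → m * n ∈ Z := by
    intro m hm n hn hmZ hnZ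
    refine hN' _ (Z₁.mul_mem hm hn) ?_
    rw [show m * n * (m * n) = m * (n * m * n⁻¹ * m⁻¹) * m⁻¹ * (m * m * (n * n)) by group]
    exact L.mul_mem (hsqon.conj_mem _ (hcommL n hn.2 m hm.2) m)
      (htwoZ _ (S.sq m hm.2) _ (S.sq n hn.2) (fun h => hmZ (hN' m hm h))
        (fun h => hnZ (hN' n hn h)))
  have hZ₁c : ∀ a ∈ Z₁, ∀ b ∈ Z₁, Commute a b := by
    intro a ha b hb
    by_cases haZ : a ∈ Z
    · exact (S.cent b hb.2 a haZ).symm
    by_cases hbZ : b ∈ Z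
    · exact S.cent a ha.2 b hbZ
    have h1 := S.cent a ha.2 _ (hZ₁cases a ha b hb haZ hbZ)
    have h2 := (Commute.refl a).inv_right.mul_right h1
    rwa [inv_mul_cancel_left] at h2
  have hinv₁ : ∀ a ∈ Z₁, a * a = 1 → a ∈ omega Z := fun a ha haa =>
    (mem_omega hc).2 ⟨hN' a ha (by rw [haa]; exact L.one_mem), haa⟩
  have hΩ₁ : omega Z₁ = omega Z := by
    refine le_antisymm (fun a ha => ?_) fun a ha => ?_
    · obtain ⟨h1, h2⟩ := (mem_omega hZ₁c).1 ha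
      exact hinv₁ a h1 h2
    · exact (mem_omega hZ₁c).2 ⟨⟨hZW (omega_le Z ha), S.zm (omega_le Z ha)⟩, hΩ1 a ha⟩
  have hex₁ : ∃ b ∈ omega Z₁, b ∉ sqs Z₁ := by
    refine ⟨b₀, hΩ₁ ▸ hb₀Ω, fun h => ?_⟩
    obtain ⟨a, ha, e⟩ := (mem_sqs hZ₁c).1 h
    have haZ : a ∈ Z := hN' a ha (by rw [e]; exact hΩL hb₀Ω)
    exact hb₀ (e ▸ mul_self_mem_sqs haZ)
  have D : Split z i j W Z₁ :=
    { z_ne := hz1
      z_sq := hzz
      z_cen := hzc
      ii := hii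
      jj := hjj
      ijij := hijij
      wi := fun w hw => ((hWiff w).1 hw).1
      wj := fun w hw => ((hWiff w).1 hw).2
      dec := hdec
      z1_le := inf_le_left
      z1_comm := hZ₁c
      selfc := fun w hw h => ⟨hw, S.mem_m w fun a ha => h a ⟨hZW ha, S.zm ha⟩⟩
      z1_inv := fun a ha haa => hΩcen a (hinv₁ a ha haa)
      hk := fun g _ a ha => hk_of_two hZ₁c (Or.inr ⟨hΩ₁ ▸ h4, hex₁⟩) g a ha
      z1_conj := fun g _ a ha => (inferInstance : Z₁.Normal).conj_mem a ha g }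
  refine ⟨z, i, j, W, Z₁, D, fun w hw hs => ?_, fun α => ?_⟩
  · by_cases hsZ : w * w ∈ Z₁
    · exact D.z1_inv _ hsZ hs
    obtain ⟨-, hst⟩ := D.square_data hB hw hs
    exfalso
    refine hB.false_of_normal_involution (omega Z) hΩc hΩ1 h4
      (fun h => hsZ ⟨hZW (omega_le Z h), S.zm (omega_le Z h)⟩) hs
      (fun u hu => hΩcen u hu _) fun t => ?_
    obtain ⟨o', ho', ho'o, e⟩ := hst t
    rw [e, mul_inv_cancel_right]
    exact hinv₁ o' ho' ho'o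
  · rcases hΩel _ (apply_mem_omega hc S.zchar α hzΩ) with h | h | h | h
    · exact absurd (α.injective (h.trans (map_one α).symm)) hz1
    · rw [h, h]
    · exact absurd (α.injective (h.trans (hαc α).symm)) hzc1
    · rw [h, map_mul, h, hαc, mul_assoc, hcc, mul_one]

end CfsgLib.NormalRankTwoAut
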