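import Cfsg.Agent.NormalRankTwoAut.Homo

/-!
# The homocyclic case of exponent four
-/

set_option autoImplicit false

namespace CfsgLib.NormalRankTwoAut

open Subgroup

variable {T : Type*} [Group T] [Finite T] {A U : Subgroup T} {φ : MulAut T}

theorem Homo.sq_mem (H : Homo A U φ 2) {a : T} (ha : a ∈ A) : a * a ∈ U := by
  have := H.pow_mem_u ha
  rwa [show (2 : ℕ) ^ (2 - 1) = 2 from rfl, pow_two] at this

theorem Homo.disp_mem_u (H : Homo A U φ 2) (g : T) {a : T} (ha : a ∈ A) : disp g a ∈ U := by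
  rw [H.mem_u]
  refine ⟨H.disp_mem g ha, ?_⟩
  have := H.disp_pow g ha
  rwa [show (2 : ℕ) ^ (2 - 1) = 2 from rfl, pow_two] at this

theorem Homo.disp_add (H : Homo A U φ 2) (g h : T) {a : T} (ha : a ∈ A) :
    disp (g * h) a = disp g a * disp h a := by
  rw [H.disp_comp g h ha, H.disp_u g (H.disp_mem_u h ha), mul_one]

theorem Homo.commutator_mem (H : Homo A U φ 2) (g t : T) : t * g * t⁻¹ * g⁻¹ ∈ A := by
  refine H.mem_of_disp fun a ha => ?_
  have hu := fun x => H.disp_mem_u x ha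
  have hinv : ∀ x, disp x⁻¹ a = (disp x a)⁻¹ := fun x => by
    refine eq_inv_of_mul_eq_one_left ?_
    rw [← H.disp_add x⁻¹ x ha, inv_mul_cancel]
    exact H.disp_of_mem A.one_mem ha
  rw [H.disp_add _ _ ha, H.disp_add _ _ ha, H.disp_add _ _ ha, hinv, hinv,
    (H.cen _ (hu t) (disp g a)).symm.eq, mul_inv_cancel_right, mul_inv_cancel]

/-- No outside element acts on `A / U` as a map commuting with `φ`, except inversion. -/
theorem Homo.false_of_equivariant (H : Homo A U φ 2) (hB : Base T) {g : T} (hgA : g ∉ A)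
    (heq : ∀ a ∈ A, disp g (φ a) = φ (disp g a)) {b : T} (hb : b ∈ A)
    (hbne : disp g b ≠ b * b) : False := by
  have hsq : (2 : ℕ) ^ (2 - 1) = 2 := rfl
  have hgg : g * g ∈ A := H.mem_of_disp fun a ha => by
    rw [H.disp_add g g ha, H.u_sq _ (H.disp_mem_u g ha)]
  have hker : ∀ a ∈ A, a * a = 1 → disp g a = 1 := fun a ha h =>
    H.disp_u g ((H.mem_u a).2 ⟨ha, h⟩)
  have hggU : g * g * (g * g) = 1 := by
    by_contra hne
    let N : Subgroup T :=
      { carrier := {a | a ∈ A ∧ disp g a = 1}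
        one_mem' := ⟨A.one_mem, Homo.disp_one g⟩
        mul_mem' := fun {a b} ha hb => ⟨A.mul_mem ha.1 hb.1, by
          rw [H.disp_mul g ha.1 hb.1, ha.2, hb.2, one_mul]⟩
        inv_mem' := fun {a} ha => ⟨A.inv_mem ha.1, by
          have := H.disp_mul g (A.inv_mem ha.1) ha.1
          rw [inv_mul_cancel, Homo.disp_one, ha.2, mul_one] at this
          exact this.symm⟩ }
    have hg1 : disp g (g * g) = 1 := by unfold disp; group
    refine hgA (H.mem_of_disp fun a ha => ((H.gen_two N (fun c hc h => ⟨hc, hker c hc ?_⟩) hgg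
      (by rw [hsq, pow_two]; exact hne) ⟨hgg, hg1⟩
      ⟨H.stable _ hgg, by rw [heq _ hgg, hg1, map_one]⟩) ha).2)
    rwa [hsq, pow_two] at h
  have hh : ∀ a ∈ A, a * a * disp g a ∈ U := fun a ha => U.mul_mem (H.sq_mem ha) (H.disp_mem_u g ha)
  have hmul : ∀ a ∈ A, ∀ c ∈ A,
      a * c * (a * c) * disp g (a * c) = a * a * disp g a * (c * c * disp g c) := by
    intro a ha c hc
    rw [H.disp_mul g ha hc, (H.comm c hc a ha).mul_mul_mul_comm a c,
      (H.cen _ (H.disp_mem_u g ha) (c * c)).mul_mul_mul_comm]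
  have hkerh : ∀ a ∈ A, a * a * disp g a = 1 → a ∈ U := by
    intro a ha h
    rw [H.mem_u]
    refine ⟨ha, ?_⟩
    by_contra hne
    let N : Subgroup T :=
      { carrier := {c | c ∈ A ∧ c * c * disp g c = 1}
        one_mem' := ⟨A.one_mem, by rw [Homo.disp_one]; simp⟩
        mul_mem' := fun {c d} hc hd => ⟨A.mul_mem hc.1 hd.1, by
          rw [hmul c hc.1 d hd.1, hc.2, hd.2, one_mul]⟩
        inv_mem' := fun {c} hc => ⟨A.inv_mem hc.1, by
          have := hmul c⁻¹ (A.inv_mem hc.1) c hc.1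
          rw [inv_mul_cancel, Homo.disp_one, hc.2, mul_one] at this
          simpa using this.symm⟩ }
    refine hbne ?_
    have h1 := ((H.gen_two N (fun c hc h => ⟨hc, ?_⟩) ha (by rw [hsq, pow_two]; exact hne) ⟨ha, h⟩
      ⟨H.stable a ha, by rw [heq a ha, ← map_mul, ← map_mul, h, map_one]⟩) hb).2
    · rw [← inv_eq_of_mul_eq_one_right h1]
      exact inv_eq_of_mul_eq_one_right (H.u_sq _ (H.sq_mem hb))
    · rw [hsq, pow_two] at h
      rw [h, hker c hc h, one_mul]
  -- choose the element making an involution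
  obtain ⟨a₀, ha₀, ha₀U⟩ : ∃ a ∈ A, a ∉ U := by
    by_contra h
    push Not at h
    exact hgA (H.mem_of_disp fun a ha => H.disp_u g (h a ha))
  have hv1 : a₀ * a₀ * disp g a₀ ≠ 1 := fun h => ha₀U (hkerh a₀ ha₀ h)
  have hφv : φ (a₀ * a₀ * disp g a₀) = φ a₀ * φ a₀ * disp g (φ a₀) := by
    rw [map_mul, map_mul, heq a₀ ha₀]
  have htarget : (g * g)⁻¹ ∈ U := U.inv_mem ((H.mem_u _).2 ⟨hgg, hggU⟩)
  have hfin : ∀ x ∈ A, x * x * disp g x = (g * g)⁻¹ → False := fun x hx he =>
    H.false_of_involution hB hgA (fun a ha => H.disp_mem_u g ha)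
      (fun t => H.commutator_mem g t) hkerh hx he
  rcases H.u_all (hh a₀ ha₀) hv1 (H.u_stable _ (hh a₀ ha₀)) _ htarget with h | h | h | h
  · exact hfin 1 A.one_mem (by rw [h, Homo.disp_one]; simp)
  · exact hfin a₀ ha₀ h.symm
  · exact hfin (φ a₀) (H.stable a₀ ha₀) (by rw [h, hφv])
  · exact hfin (a₀ * φ a₀) (A.mul_mem ha₀ (H.stable a₀ ha₀))
      (by rw [h, hmul a₀ ha₀ _ (H.stable a₀ ha₀), hφv])

/-- Exponent four: the order is 64 or 128. -/
theorem Homo.card_of_two (H : Homo A U φ 2) (hB : Base T) {E : Subgroup T}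
    (hE1 : ∀ a ∈ E, a * a = 1) (hE8 : 8 ≤ Nat.card E) :
    Nat.card T = 64 ∨ Nat.card T = 128 := by
  classical
  haveI := H.normal
  have hsq : (2 : ℕ) ^ (2 - 1) = 2 := rfl
  have hωU : omega A = U := by
    ext a; rw [mem_omega H.comm, H.mem_u]
  have hsU : sqs A = U := by
    ext a
    rw [mem_sqs H.comm]
    refine ⟨fun ⟨b, hb, e⟩ => e ▸ H.sq_mem hb, fun hu => ?_⟩
    obtain ⟨b, hb, e⟩ := H.surj a hu
    exact ⟨b, hb, by rwa [hsq, pow_two] at e⟩
  have hcardA : Nat.card A = 16 := by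
    rw [← card_sqs H.comm, hωU, hsU, H.card_u]
  obtain ⟨v, hv, hv1⟩ : ∃ v ∈ U, v ≠ 1 := by
    by_contra h
    push Not at h
    have h4 := H.card_u
    rw [show U = ⊥ from eq_bot_iff.2 fun x hx => Subgroup.mem_bot.2 (h x hx),
      Subgroup.card_bot] at h4
    omega
  obtain ⟨a₁, ha₁, ha₁v⟩ := H.surj v hv
  rw [hsq, pow_two] at ha₁v
  have hφa₁ := H.stable a₁ ha₁
  let Φ : T →* T × T :=
    { toFun := fun g => (disp g a₁, disp g (φ a₁))
      map_one' := Prod.ext (H.disp_of_mem A.one_mem ha₁) (H.disp_of_mem A.one_mem hφa₁)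
      map_mul' := fun g h => Prod.ext (H.disp_add g h ha₁) (H.disp_add g h hφa₁) }
  have hΦ : ∀ g, Φ g = (disp g a₁, disp g (φ a₁)) := fun g => rfl
  have hkerΦ : Φ.ker = A := by
    ext g
    rw [MonoidHom.mem_ker, hΦ]
    refine ⟨fun h => H.mem_of_disp fun a ha => ?_,
      fun h => Prod.ext (H.disp_of_mem h ha₁) (H.disp_of_mem h hφa₁)⟩
    let N : Subgroup T :=
      { carrier := {a | a ∈ A ∧ disp g a = 1}
        one_mem' := ⟨A.one_mem, Homo.disp_one g⟩
        mul_mem' := fun {a b} ha hb => ⟨A.mul_mem ha.1 hb.1, by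
          rw [H.disp_mul g ha.1 hb.1, ha.2, hb.2, one_mul]⟩
        inv_mem' := fun {a} ha => ⟨A.inv_mem ha.1, by
          have := H.disp_mul g (A.inv_mem ha.1) ha.1
          rw [inv_mul_cancel, Homo.disp_one, ha.2, mul_one] at this
          exact this.symm⟩ }
    refine ((H.gen_two N (fun c hc h' => ⟨hc, H.disp_u g ((H.mem_u c).2 ⟨hc, ?_⟩)⟩) ha₁
      (by rw [hsq, pow_two, ha₁v]; exact hv1) ⟨ha₁, congrArg Prod.fst h⟩
      ⟨hφa₁, congrArg Prod.snd h⟩) ha).2
    rwa [hsq, pow_two] at h'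
  have hrange : Φ.range ≤ U.prod U := by
    rintro _ ⟨g, rfl⟩
    exact ⟨H.disp_mem_u g ha₁, H.disp_mem_u g hφa₁⟩
  have hprod : Nat.card (U.prod U) = 16 := by
    rw [Nat.card_congr (Subgroup.prodEquiv U U).toEquiv, Nat.card_prod, H.card_u]
  have hidx : A.index = Nat.card Φ.range := by
    rw [← Subgroup.index_ker, hkerΦ]
  have hdvd : A.index ∣ 16 := hprod ▸ hidx ▸ Subgroup.card_dvd_of_le hrange
  have hcardT : Nat.card T = 16 * A.index := by rw [← hcardA, A.card_mul_index]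
  have h16 : A.index ≠ 16 := by
    intro h16
    have heq : Φ.range = U.prod U :=
      Subgroup.eq_of_le_of_card_ge hrange (by rw [← hidx, h16, hprod])
    obtain ⟨g, hg⟩ : (φ v, φ (φ v)) ∈ Φ.range :=
      heq ▸ ⟨H.u_stable v hv, H.u_stable _ (H.u_stable v hv)⟩
    rw [hΦ, Prod.mk.injEq] at hg
    have hf : ∀ a ∈ A, disp g a = φ (a * a) := by
      intro a ha
      let N : Subgroup T :=
        { carrier := {a | a ∈ A ∧ disp g a = φ (a * a)}
          one_mem' := ⟨A.one_mem, by rw [Homo.disp_one, one_mul, map_one]⟩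
          mul_mem' := fun {a b} ha hb => ⟨A.mul_mem ha.1 hb.1, by
            rw [H.disp_mul g ha.1 hb.1, ha.2, hb.2, ← map_mul,
              (H.comm b hb.1 a ha.1).mul_mul_mul_comm a b]⟩
          inv_mem' := fun {a} ha => ⟨A.inv_mem ha.1, by
            have := H.disp_mul g (A.inv_mem ha.1) ha.1
            rw [inv_mul_cancel, Homo.disp_one, ha.2] at this
            rw [eq_inv_of_mul_eq_one_left this.symm, ← map_inv, mul_inv_rev]⟩ }
      refine ((H.gen_two N (fun c hc h => ⟨hc, ?_⟩) ha₁ (by rw [hsq, pow_two, ha₁v]; exact hv1)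
        ⟨ha₁, by rw [hg.1, ha₁v]⟩ ⟨hφa₁, by rw [hg.2, ← map_mul, ha₁v]⟩) ha).2
      rw [hsq, pow_two] at h
      rw [H.disp_u g ((H.mem_u c).2 ⟨hc, h⟩), h, map_one]
    have hgA : g ∉ A := fun h => hv1 (by
      have := H.disp_of_mem h ha₁
      rw [hg.1] at this
      exact φ.injective (this.trans (map_one φ).symm))
    refine H.false_of_equivariant hB hgA
      (fun a ha => by rw [hf a ha, hf _ (H.stable a ha), ← map_mul]) ha₁ ?_
    rw [hg.1, ha₁v]
    exact fun h => hv1 (H.moved v hv h)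
  have h1 : A.index ≠ 1 := by
    intro h1
    have hT : A = ⊤ := Subgroup.index_eq_one.1 h1
    have hEU : E ≤ U := fun a ha => (H.mem_u a).2 ⟨hT ▸ Subgroup.mem_top a, hE1 a ha⟩
    have := Subgroup.card_le_of_le hEU
    rw [H.card_u] at this
    omega
  have h2 : A.index ≠ 2 := by
    intro h2
    obtain ⟨g, hgE, hgA⟩ : ∃ g ∈ E, g ∉ A := by
      by_contra h
      push Not at h
      have := Subgroup.card_le_of_le
        (show E ≤ U from fun a ha => (H.mem_u a).2 ⟨h a ha, hE1 a ha⟩)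
      rw [H.card_u] at this
      omega
    have hAφ : ∀ a, φ a ∈ A → a ∈ A := by
      intro a ha
      have hpow : ∀ (n : ℕ), ∀ y ∈ A, (φ ^ n) y ∈ A := by
        intro n
        induction n with
        | zero => intro y hy; simpa using hy
        | succ n ih => intro y hy; rw [pow_succ', MulAut.mul_apply]; exact H.stable _ (ih y hy)
      have hpos : 0 < orderOf φ := orderOf_pos φ
      have := hpow (orderOf φ - 1) _ ha
      rwa [← MulAut.mul_apply, ← pow_succ, Nat.sub_add_cancel hpos, pow_orderOf_eq_one,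
        MulAut.one_apply] at this
    have heqv : ∀ a ∈ A, disp g (φ a) = φ (disp g a) := by
      intro a ha
      have hm : g⁻¹ * φ g ∈ A := by
        rw [Subgroup.mul_mem_iff_of_index_two h2, inv_mem_iff]
        exact iff_of_false hgA fun h => hgA (hAφ g h)
      rw [Homo.disp_map, show φ g = g * (g⁻¹ * φ g) by group, H.disp_add _ _ (H.stable a ha),
        H.disp_of_mem hm (H.stable a ha), mul_one]
    by_cases hπ : ∀ a ∈ A, disp g a = a * a
    · haveI : U.Normal := ⟨fun u hu t => by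
        rw [(H.cen u hu t).eq, mul_inv_cancel_right]; exact hu⟩
      refine hB.false_of_normal_involution U (fun u hu w _ => (H.cen u hu w).symm) H.u_sq H.card_u
        (fun h => hgA (H.u_le h)) (hE1 g hgE) (fun u hu => H.cen u hu g) fun t => ?_
      have key : ∀ a ∈ A, a * g * a⁻¹ * g⁻¹ ∈ U := fun a ha => by
        rw [show a * g * a⁻¹ * g⁻¹ = (disp g a)⁻¹ by unfold disp; group, hπ a ha]
        exact U.inv_mem (H.sq_mem ha)
      by_cases ht : t ∈ A
      · exact key t ht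
      · have hm : t * g⁻¹ ∈ A := by
          rw [Subgroup.mul_mem_iff_of_index_two h2, inv_mem_iff]
          exact iff_of_false ht hgA
        rw [show t * g * t⁻¹ * g⁻¹ = t * g⁻¹ * g * (t * g⁻¹)⁻¹ * g⁻¹ by group]
        exact key _ hm
    · push Not at hπ
      obtain ⟨b, hb, hbne⟩ := hπ
      exact H.false_of_equivariant hB hgA heqv hb hbne
  obtain ⟨d, hd, hde⟩ := (Nat.dvd_prime_pow Nat.prime_two).1 (show A.index ∣ 2 ^ 4 from hdvd)
  interval_cases d <;> omega

end CfsgLib.NormalRankTwoAut
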