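import Cfsg.Agent.NormalRankTwoAut.Large
import Cfsg.Agent.NormalRankTwoAut.Conj
import Cfsg.Agent.NormalRankTwoAut.Omega
import Cfsg.Agent.Small.ThompsonTransfer

/-!
# An inverted abelian subgroup of index two contradicts simplicity
-/

set_option autoImplicit false

namespace CfsgLib.NormalRankTwoAut

open Subgroup

variable {T : Type*} [Group T] {A U : Subgroup T} {g : T}

theorem InvData.sq_mem_u (D : InvData A U g) {w : T} (hw : w ∈ A) (h : w * w = 1) : w ∈ U :=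
  (D.mem_u w).2 ⟨hw, h⟩

theorem InvData.outside (D : InvData A U g) {w : T} (hw : w * w = 1) (hwU : w ∉ U) : w ∉ A :=
  fun h => hwU (D.sq_mem_u h hw)

/-- An elementary abelian subgroup of order at least eight is `U` extended by one involution. -/
theorem InvData.elementary [Finite T] (D : InvData A U g) {F : Subgroup T}
    (h1 : ∀ a ∈ F, a * a = 1) (h8 : 8 ≤ Nat.card F) : U ≤ F ∧ Nat.card F = 8 := by
  haveI : Fact (Nat.Prime 2) := ⟨Nat.prime_two⟩
  have hK : F ⊓ A ≤ U := fun a ha => D.sq_mem_u ha.2 (h1 a ha.1)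
  have hrel : A.relIndex F ≤ 2 := by
    haveI : A.Normal := Subgroup.normal_of_index_eq_two D.idx
    have := (Subgroup.relIndex_dvd_index_of_normal A F).trans (dvd_of_eq D.idx)
    exact Nat.le_of_dvd (by norm_num) this
  have hmul : Nat.card (F ⊓ A : Subgroup T) * A.relIndex F = Nat.card F := by
    have h := Subgroup.card_mul_index (A.subgroupOf F)
    have e : Nat.card (A.subgroupOf F) = Nat.card (F ⊓ A : Subgroup T) := by
      rw [← Subgroup.card_map_of_injective F.subtype_injective, Subgroup.subgroupOf_map_subtype,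
        inf_comm]
    rw [e] at h
    exact h
  have hle := Subgroup.card_le_of_le hK
  rw [D.card_u] at hle
  have h2 := Nat.mul_le_mul hle hrel
  have heq : F ⊓ A = U := Subgroup.eq_of_le_of_card_ge hK (by
    rw [D.card_u]
    by_contra h
    have h3 := Nat.mul_le_mul (show Nat.card (F ⊓ A : Subgroup T) ≤ 3 by omega) hrel
    omega)
  exact ⟨heq ▸ inf_le_left, by omega⟩

/-- Squares centralise every elementary abelian subgroup of order eight they normalise. -/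
theorem InvData.sq_commute [Finite T] (D : InvData A U g) {F : Subgroup T}
    (h1 : ∀ a ∈ F, a * a = 1) {t : T} (ht : ∀ a ∈ F, t * a * t⁻¹ ∈ F) :
    ∀ u ∈ F, Commute (t * t) u := by
  intro u hu
  by_cases huA : u ∈ A
  · exact D.cen u (D.sq_mem_u huA (h1 u hu)) _
  suffices h : t * t ∈ U from (D.cen _ h u).symm
  have hfour : ∀ s ∈ A, s * s * (s * s) = 1 → s * s ∈ U := fun s hs h =>
    D.sq_mem_u (A.mul_mem hs hs) h
  by_cases htA : t ∈ A
  · have hn : A.Normal := Subgroup.normal_of_index_eq_two D.idx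
    set c := t * u * t⁻¹ * u⁻¹ with hc
    have hcA : c ∈ A := by
      rw [hc, show t * u * t⁻¹ * u⁻¹ = t * (u * t⁻¹ * u⁻¹) by group]
      exact A.mul_mem htA (hn.conj_mem _ (A.inv_mem htA) u)
    have hcF : c ∈ F := F.mul_mem (ht u hu) (F.inv_mem hu)
    have hcU : c ∈ U := D.sq_mem_u hcA (h1 c hcF)
    refine hfour t htA ?_
    have h := D.act u huA t⁻¹ (A.inv_mem htA)
    set f := u * t⁻¹ * u⁻¹ * t⁻¹ with hf
    have e : t * t = c * f⁻¹ := by
      have hcf : c = t * (f * t) := by rw [hc, hf]; group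
      rw [hcf, ← mul_assoc, (D.cen f h t).eq, mul_assoc f t t, (D.cen f h (t * t)).symm.eq]
      group
    exact ((D.mem_u _).1 (e ▸ U.mul_mem hcU (U.inv_mem h))).2
  · have hs : t * t ∈ A := Subgroup.mul_self_mem_of_index_two D.idx t
    have h := D.act t htA _ hs
    rw [show t * (t * t) * t⁻¹ * (t * t) = t * t * (t * t) by group] at h
    have h4 := ((D.mem_u _).1 h).2
    have e := D.act_four t htA _ hs h4
    rw [show t * (t * t) * t⁻¹ = t * t by group] at e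
    exact D.sq_mem_u hs (eq_inv_iff_mul_eq_one.1 e)

/-- For `e₀ ∈ U`, some element fixes `U` and multiplies outside involutions by `e₀`. -/
theorem InvData.transvection (D : InvData A U g) {e₀ : T} (he₀ : e₀ ∈ U) :
    ∃ x : T, (∀ u ∈ U, Commute x u) ∧
      ∀ w ∉ A, x * w * x⁻¹ = w * e₀ := by
  obtain ⟨x, hx, hxe⟩ := D.root e₀ he₀
  refine ⟨x, fun u hu => D.cen u hu x, fun w hw => ?_⟩
  have hx4 : x⁻¹ * x⁻¹ * (x⁻¹ * x⁻¹) = 1 := by
    rw [← mul_inv_rev x x, hxe, ← mul_inv_rev, ((D.mem_u e₀).1 he₀).2, inv_one]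
  calc x * w * x⁻¹ = x * (w * x⁻¹ * w⁻¹) * w := by group
    _ = x * x * w := by rw [D.act_four w hw _ (A.inv_mem hx) hx4, inv_inv]
    _ = _ := by rw [hxe, ← (D.cen e₀ he₀ w).eq]

/-- In a simple group no Sylow 2-subgroup carries this configuration. -/
theorem InvData.false_of_simple {G : Type*} [Group G] [Finite G]
    (hno : ∀ H : Subgroup G, H.index ≠ 2) (P : Sylow 2 G) {A U : Subgroup P} {g : P}
    (D : InvData A U g) : False := by
  classical
  haveI : Fact (Nat.Prime 2) := ⟨Nat.prime_two⟩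
  have hg1 : g ≠ 1 := fun h => D.g_not (h ▸ A.one_mem)
  have hgord : orderOf (g : G) = 2 := orderOf_eq_prime
    (by rw [pow_two]; exact_mod_cast congrArg Subtype.val D.g_sq) (fun h => hg1 (Subtype.ext h))
  obtain ⟨h₀, hh₀⟩ := CfsgLib.Small.thompson_transfer_sylow hno P
    (A.map (P : Subgroup G).subtype) (Subgroup.map_subtype_le A) (by
      rw [Subgroup.relIndex, Subgroup.subgroupOf,
        Subgroup.comap_map_eq_self_of_injective (P : Subgroup G).subtype_injective]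
      exact D.idx) hgord
  obtain ⟨e, heA, hee⟩ := hh₀
  simp only [Subgroup.coe_subtype] at hee
  have heU : e ∈ U := D.sq_mem_u heA (Subtype.ext (by
    show (e : G) * e = 1
    rw [hee, show h₀⁻¹ * (g : G) * h₀ * (h₀⁻¹ * g * h₀) = h₀⁻¹ * ((g : G) * g) * h₀ by group,
      show (g : G) * g = 1 from congrArg Subtype.val D.g_sq, mul_one, inv_mul_cancel]))
  obtain ⟨k, hke, hkP⟩ := exists_conj_centralizer P (a := (g : G)) (z := (e : G)) (g := h₀⁻¹)
    (by rw [inv_inv]; exact hee.symm)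
    (fun t ht => congrArg Subtype.val (D.cen e heU ⟨t, ht⟩).eq)
  -- the subgroup `U⟨g⟩`
  let F : Subgroup P := U ⊔ Subgroup.zpowers g
  have hFcases : ∀ w ∈ F, ∃ u ∈ U, w = u ∨ w = u * g := by
    intro w hw
    haveI : U.Normal := ⟨fun u hu t => by
      rw [(D.cen u hu t).eq, mul_inv_cancel_right]; exact hu⟩
    obtain ⟨u, hu, b, hb, rfl⟩ := Subgroup.mem_sup_of_normal_left.1 hw
    rcases mem_zpowers_of_sq D.g_sq hb with rfl | rfl
    · exact ⟨u, hu, Or.inl (mul_one u)⟩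
    · exact ⟨u, hu, Or.inr rfl⟩
  have hU1 : ∀ u ∈ U, u * u = 1 := fun u hu => ((D.mem_u u).1 hu).2
  have hFg : ∀ w ∈ F, Commute w g := by
    intro w hw
    obtain ⟨u, hu, rfl | rfl⟩ := hFcases w hw
    · exact (D.cen _ hu g).symm
    · exact (D.cen _ hu g).symm.mul_left (Commute.refl g)
  have hFc : ∀ v ∈ F, ∀ w ∈ F, Commute v w := by
    intro v hv w hw
    obtain ⟨u, hu, rfl | rfl⟩ := hFcases v hv
    · exact (D.cen _ hu w).symm
    · exact (D.cen u hu w).symm.mul_left (hFg w hw).symm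
  have hF1 : ∀ w ∈ F, w * w = 1 := by
    intro w hw
    obtain ⟨u, hu, rfl | rfl⟩ := hFcases w hw
    · exact hU1 _ hu
    · rw [(D.cen u hu g).mul_mul_mul_comm, hU1 u hu, D.g_sq, one_mul]
  have hUF : U ≤ F := le_sup_left
  have hgF : g ∈ F := Subgroup.mem_sup_right (Subgroup.mem_zpowers g)
  have hF8 : Nat.card F = 8 := by
    obtain ⟨j, hj⟩ := Subgroup.card_dvd_of_le hUF
    rw [D.card_u] at hj
    have hne : Nat.card F ≠ 4 := fun h => D.g_not (by
      have hUF' := Subgroup.eq_of_le_of_card_ge hUF (by rw [D.card_u, h])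
      exact ((D.mem_u g).1 (hUF' ▸ hgF)).1)
    have hpos : 0 < Nat.card F := Nat.card_pos
    exact (D.elementary hF1 (by omega)).2
  -- its conjugate
  set R : Subgroup G := F.map (P : Subgroup G).subtype with hR
  set U₀ : Subgroup G := U.map (P : Subgroup G).subtype with hU₀
  set R' : Subgroup G := R.map (MulAut.conj k).toMonoidHom with hR'
  set U' : Subgroup G := U₀.map (MulAut.conj k).toMonoidHom with hU'
  have hR'P : R' ≤ P := by
    rintro _ ⟨_, ⟨w, hw, rfl⟩, rfl⟩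
    exact hkP w w.2 (congrArg Subtype.val (hFg w hw).eq)
  have hR'1 : ∀ w ∈ R', w * w = 1 := by
    rintro _ ⟨_, ⟨w, hw, rfl⟩, rfl⟩
    rw [← map_mul, ← map_mul, hF1 w hw, map_one, map_one]
  have hR'c : ∀ v ∈ R', ∀ w ∈ R', Commute v w := by
    rintro _ ⟨_, ⟨v, hv, rfl⟩, rfl⟩ _ ⟨_, ⟨w, hw, rfl⟩, rfl⟩
    exact ((hFc v hv w hw).map _).map _
  have hR'8 : Nat.card R' = 8 := by
    rw [hR', Subgroup.card_map_of_injective (MulAut.conj k).injective, hR,
      Subgroup.card_map_of_injective (P : Subgroup G).subtype_injective, hF8]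
  have hU'4 : Nat.card U' = 4 := by
    rw [hU', Subgroup.card_map_of_injective (MulAut.conj k).injective, hU₀,
      Subgroup.card_map_of_injective (P : Subgroup G).subtype_injective, D.card_u]
  have hU₀4 : Nat.card U₀ = 4 := by
    rw [hU₀, Subgroup.card_map_of_injective (P : Subgroup G).subtype_injective, D.card_u]
  have hU'R : U' ≤ R' := Subgroup.map_mono (Subgroup.map_mono hUF)
  obtain ⟨hUF₁, -⟩ := D.elementary (F := R'.subgroupOf P)
    (fun w hw => Subtype.ext (hR'1 _ hw))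
    (by rw [Nat.card_congr (Subgroup.subgroupOfEquivOfLe hR'P).toEquiv, hR'8])
  have hU₀R : U₀ ≤ R' := by
    rintro _ ⟨u, hu, rfl⟩
    exact hUF₁ hu
  have heU' : (e : G) ∉ U' := by
    rintro ⟨_, ⟨u, hu, rfl⟩, hue⟩
    have : g = u := Subtype.ext (mul_left_cancel (mul_right_cancel (hke.trans hue.symm)))
    exact D.g_not (this ▸ ((D.mem_u u).1 hu).1)
  have heU₀ : (e : G) ∈ U₀ := ⟨e, heU, rfl⟩
  obtain ⟨e₀, he₀, he₀', he₀1⟩ : ∃ e₀, e₀ ∈ U₀ ∧ e₀ ∈ U' ∧ e₀ ≠ 1 := by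
    by_contra h
    push Not at h
    let φ : U₀ × U' → R' := fun p => ⟨(p.1 : G) * p.2, R'.mul_mem (hU₀R p.1.2) (hU'R p.2.2)⟩
    have hinj : Function.Injective φ := by
      rintro ⟨a, b⟩ ⟨a', b'⟩ hab
      have h1 : (a : G) * b = a' * b' := congrArg Subtype.val hab
      have h2 : (a' : G)⁻¹ * a = b' * (b : G)⁻¹ := by
        rw [eq_mul_inv_iff_mul_eq, mul_assoc, h1, inv_mul_cancel_left]
      have h3 := h _ (U₀.mul_mem (U₀.inv_mem a'.2) a.2) (h2 ▸ U'.mul_mem b'.2 (U'.inv_mem b.2))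
      have ha : (a : G) = a' := (inv_mul_eq_one.1 h3).symm
      rw [h3] at h2
      have hb : (b : G) = b' := (mul_inv_eq_one.1 h2.symm).symm
      exact Prod.ext (Subtype.ext ha) (Subtype.ext hb)
    have h16 := Nat.card_le_card_of_injective φ hinj
    rw [Nat.card_prod, hU₀4, hU'4, hR'8] at h16
    omega
  obtain ⟨f, hf, hfU₀⟩ : ∃ f ∈ U', f ∉ U₀ := by
    by_contra h
    push Not at h
    exact heU' (Subgroup.eq_of_le_of_card_ge (show U' ≤ U₀ from h) (by rw [hU₀4, hU'4]) ▸ heU₀)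
  -- the two transvections of `R'`
  obtain ⟨e₀P, he₀U, he₀v⟩ := he₀
  obtain ⟨x₁, hx₁U, hx₁⟩ := D.transvection he₀U
  have hout : ∀ w ∈ R', w ∉ U₀ → ∀ hw : w ∈ (P : Subgroup G), (⟨w, hw⟩ : P) ∉ A :=
    fun w hwR hwU hw => D.outside (Subtype.ext (hR'1 w hwR)) fun h => hwU ⟨_, h, rfl⟩
  have hx₁fix : ∀ u ∈ U₀, (x₁ : G) * u * (x₁ : G)⁻¹ = u := by
    rintro _ ⟨u, hu, rfl⟩
    show (x₁ : G) * u * (x₁ : G)⁻¹ = u
    rw [show (x₁ : G) * u = u * x₁ from congrArg Subtype.val (hx₁U u hu).eq, mul_inv_cancel_right]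
  have hx₁mv : ∀ w ∈ R', w ∉ U₀ → (x₁ : G) * w * (x₁ : G)⁻¹ = w * e₀ := by
    intro w hwR hwU
    rw [← he₀v]
    exact congrArg Subtype.val (hx₁ ⟨w, hR'P hwR⟩ (hout w hwR hwU _))
  obtain ⟨_, ⟨fP, hfP, rfl⟩, hfk⟩ := hf
  obtain ⟨x₃, hx₃U, hx₃⟩ := D.transvection hfP
  have hconj : ∀ a b : G, k * a * k⁻¹ * (k * b * k⁻¹) * (k * a * k⁻¹)⁻¹ = k * (a * b * a⁻¹) * k⁻¹ :=
    fun a b => by group
  set x₂ : G := k * x₃ * k⁻¹ with hx₂
  have hx₂fix : ∀ u ∈ U', x₂ * u * x₂⁻¹ = u := by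
    rintro _ ⟨_, ⟨u, hu, rfl⟩, rfl⟩
    show k * (x₃ : G) * k⁻¹ * (k * u * k⁻¹) * (k * (x₃ : G) * k⁻¹)⁻¹ = k * u * k⁻¹
    rw [hconj, show (x₃ : G) * u = u * x₃ from congrArg Subtype.val (hx₃U u hu).eq,
      mul_inv_cancel_right]
  have hfk' : f = k * (fP : G) * k⁻¹ := hfk.symm
  have hx₂mv : ∀ w ∈ R', w ∉ U' → x₂ * w * x₂⁻¹ = w * f := by
    rintro _ ⟨_, ⟨w, hw, rfl⟩, rfl⟩ hwU
    show k * (x₃ : G) * k⁻¹ * (k * w * k⁻¹) * (k * (x₃ : G) * k⁻¹)⁻¹ = k * w * k⁻¹ * f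
    have h := congrArg Subtype.val (hx₃ w (D.outside (hF1 w hw)
      fun h => hwU ⟨_, ⟨w, h, rfl⟩, rfl⟩))
    simp only [Subgroup.coe_mul, InvMemClass.coe_inv] at h
    rw [hconj, h, hfk']
    group
  set y := (x₁ : G) * x₂ with hy
  have hfU' : f ∈ U' := ⟨_, ⟨fP, hfP, rfl⟩, hfk⟩
  have hcy : ∀ w, y * w * y⁻¹ = (x₁ : G) * (x₂ * w * x₂⁻¹) * (x₁ : G)⁻¹ := fun w => by
    rw [hy]; group
  have he₀U₀ : e₀ ∈ U₀ := ⟨e₀P, he₀U, he₀v⟩
  have he₀R : e₀ ∈ R' := hU₀R he₀U₀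
  have hfR : f ∈ R' := hU'R hfU'
  have hyR : ∀ w ∈ R', y * w * y⁻¹ ∈ R' := by
    intro w hw
    have h2 : x₂ * w * x₂⁻¹ ∈ R' := by
      by_cases hwU : w ∈ U'
      · rw [hx₂fix w hwU]; exact hw
      · rw [hx₂mv w hw hwU]; exact R'.mul_mem hw hfR
    rw [hcy]
    by_cases hU₀w : x₂ * w * x₂⁻¹ ∈ U₀
    · rw [hx₁fix _ hU₀w]; exact h2
    · rw [hx₁mv _ h2 hU₀w]; exact R'.mul_mem h2 he₀R
  have heR : (e : G) ∈ R' := hU₀R heU₀
  have hye : y * (e : G) * y⁻¹ = (e : G) * f * e₀ := by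
    rw [hcy, hx₂mv _ heR heU', hx₁mv _ (R'.mul_mem heR hfR)
      (fun h => hfU₀ ((U₀.mul_mem_cancel_left heU₀).1 h))]
  have hye₀ : y * e₀ * y⁻¹ = e₀ := by rw [hcy, hx₂fix _ he₀', hx₁fix _ he₀U₀]
  have hyf : y * f * y⁻¹ = f * e₀ := by rw [hcy, hx₂fix _ hfU', hx₁mv _ hfR hfU₀]
  have hy2e : y * y * (e : G) * (y * y)⁻¹ = (e : G) * e₀ := by
    calc y * y * (e : G) * (y * y)⁻¹ = y * (y * (e : G) * y⁻¹) * y⁻¹ := by group
      _ = y * ((e : G) * f * e₀) * y⁻¹ := by rw [hye]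
      _ = (y * e * y⁻¹) * (y * f * y⁻¹) * (y * e₀ * y⁻¹) := by group
      _ = (e : G) * f * e₀ * (f * e₀) * e₀ := by rw [hye, hyf, hye₀]
      _ = (e : G) * (f * e₀ * (f * e₀)) * e₀ := by group
      _ = _ := by rw [hR'1 _ (R'.mul_mem hfR he₀R), mul_one]
  have hy2e₀ : y * y * e₀ * (y * y)⁻¹ = e₀ := by
    calc y * y * e₀ * (y * y)⁻¹ = y * (y * e₀ * y⁻¹) * y⁻¹ := by group
      _ = e₀ := by rw [hye₀, hye₀]
  have hpow : ∀ j : ℕ, (y * y) ^ j * (e : G) * ((y * y) ^ j)⁻¹ = (e : G) * e₀ ^ j := by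
    intro j
    induction j with
    | zero => simp
    | succ j ih =>
      have hce : Commute (y * y) (e₀ ^ j) :=
        Commute.pow_right (mul_inv_eq_iff_eq_mul.1 hy2e₀) j
      calc (y * y) ^ (j + 1) * (e : G) * ((y * y) ^ (j + 1))⁻¹
          = y * y * ((y * y) ^ j * e * ((y * y) ^ j)⁻¹) * (y * y)⁻¹ := by
            rw [pow_succ', mul_inv_rev (y * y)]; simp only [mul_assoc]
        _ = y * y * e * (y * y)⁻¹ * (y * y * e₀ ^ j * (y * y)⁻¹) := by rw [ih]; group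
        _ = _ := by rw [hy2e, hce.eq, mul_inv_cancel_right, mul_assoc, ← pow_succ']
  -- the 2-part of `y`
  obtain ⟨a, m, hm, hnm⟩ := Nat.exists_eq_pow_mul_and_not_dvd (orderOf_pos y).ne' 2 (by norm_num)
  set y₂ := y ^ m with hy₂
  have hmpos : 0 < m := by
    rcases Nat.eq_zero_or_pos m with h | h
    · exact absurd (h ▸ dvd_zero 2) hm
    · exact h
  have hQ : IsPGroup 2 (Subgroup.zpowers y₂) := by
    refine IsPGroup.of_card (n := a) ?_
    rw [Nat.card_zpowers, hy₂, orderOf_pow' y hmpos.ne', hnm, Nat.gcd_mul_left_left,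
      Nat.mul_div_cancel _ hmpos]
  have hR'p : IsPGroup 2 R' := P.2.to_le hR'P
  have hnorm : Subgroup.zpowers y₂ ≤ Subgroup.normalizer (R' : Set G) := by
    rw [Subgroup.zpowers_le]
    refine pow_mem ?_ m
    rw [Subgroup.mem_normalizer_iff]
    intro w
    refine ⟨hyR w, fun hw => ?_⟩
    have hinj : Function.Injective (fun v : R' => (⟨y * v * y⁻¹, hyR v v.2⟩ : R')) :=
      fun p q hpq => Subtype.ext (mul_left_cancel (mul_right_cancel (congrArg Subtype.val hpq)))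
    obtain ⟨v, hv⟩ := Finite.injective_iff_surjective.1 hinj ⟨_, hw⟩
    exact mul_left_cancel (mul_right_cancel (congrArg Subtype.val hv)) ▸ v.2
  obtain ⟨h, hh⟩ := exists_conj_le P (hR'p.to_sup_of_normal_left' hQ hnorm)
  set R'' : Subgroup G := R'.map (MulAut.conj h).toMonoidHom with hR''
  have hR''P : R'' ≤ P := by
    rintro _ ⟨w, hw, rfl⟩
    exact hh w (Subgroup.mem_sup_left hw)
  let t : P := ⟨h * y₂ * h⁻¹, hh y₂ (Subgroup.mem_sup_right (Subgroup.mem_zpowers y₂))⟩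
  have hcomm := D.sq_commute (F := R''.subgroupOf P) (t := t)
    (fun w hw => Subtype.ext (by
      obtain ⟨v, hv, hvw⟩ := hw
      show (w : G) * w = 1
      rw [show (w : G) = (MulAut.conj h).toMonoidHom v from hvw.symm, ← map_mul, hR'1 v hv, map_one]))
    (fun w hw => by
      obtain ⟨v, hv, hvw⟩ := hw
      refine ⟨y₂ * v * y₂⁻¹,
        (Subgroup.mem_normalizer_iff.1 (hnorm (Subgroup.mem_zpowers y₂)) v).1 hv, ?_⟩
      show h * (y₂ * v * y₂⁻¹) * h⁻¹ = h * y₂ * h⁻¹ * (w : G) * (h * y₂ * h⁻¹)⁻¹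
      rw [show (w : G) = h * v * h⁻¹ from hvw.symm]
      group)
    ⟨h * e * h⁻¹, hR''P ⟨_, heR, rfl⟩⟩ ⟨_, heR, rfl⟩
  have h1 : (h * y₂ * h⁻¹) * (h * y₂ * h⁻¹) * (h * e * h⁻¹) =
      (h * e * h⁻¹) * ((h * y₂ * h⁻¹) * (h * y₂ * h⁻¹)) := congrArg Subtype.val hcomm.eq
  have h2 : y₂ * y₂ * (e : G) * (y₂ * y₂)⁻¹ = e := by
    calc y₂ * y₂ * (e : G) * (y₂ * y₂)⁻¹
        = h⁻¹ * ((h * y₂ * h⁻¹) * (h * y₂ * h⁻¹) * (h * e * h⁻¹)) * h * (y₂ * y₂)⁻¹ := by group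
      _ = e := by rw [h1]; group
  rw [hy₂, ← (Commute.refl y).mul_pow, hpow m] at h2
  obtain ⟨b, hb⟩ := Nat.odd_iff.2 (Nat.two_dvd_ne_zero.1 hm)
  rw [mul_eq_left, hb, pow_succ, pow_mul, pow_two, hR'1 _ he₀R, one_pow, one_mul] at h2
  exact he₀1 h2

end CfsgLib.NormalRankTwoAut
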