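import Cfsg.Agent.NormalRankTwoAut.Squares

/-!
# Homocyclic self-centralising subgroups of rank two with transitively permuted involutions
-/

set_option autoImplicit false

namespace CfsgLib.NormalRankTwoAut

open Subgroup

variable {T : Type*} [Group T]

/-- An automorphism of odd order fixing a nonidentity element of a four group fixes it pointwise. -/
theorem fixed_all_of_four {φ : MulAut T} (hφ : Odd (orderOf φ)) {U : Subgroup T}
    (hU1 : ∀ u ∈ U, u * u = 1) (hcard : Nat.card U = 4) (hUφ : ∀ u ∈ U, φ u ∈ U) {e : T}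
    (he : e ∈ U) (he1 : e ≠ 1) (hfix : φ e = e) : ∀ u ∈ U, φ u = u := by
  intro f hf
  by_cases hf1 : f = 1
  · rw [hf1, map_one]
  by_cases hef : e = f
  · exact hef ▸ hfix
  rcases four_elems hU1 hcard he hf he1 hf1 hef _ (hUφ f hf) with h | h | h | h
  · exact absurd (φ.injective (h.trans (map_one φ).symm)) hf1
  · exact absurd (φ.injective (hfix.trans h.symm)) hef
  · exact h
  · refine eq_of_apply_apply hφ ?_
    rw [h, map_mul, hfix, h, ← mul_assoc, hU1 e he, one_mul]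

/-- The commutator of `g` and `a`. -/
def disp (g a : T) : T := g * a * g⁻¹ * a⁻¹

/-- `A` is normal abelian self-centralising, its involutions `Ω` form a central four group moved
transitively by `φ`, and `a ↦ a ^ 2 ^ (k - 1)` is onto `Ω` with the squares as kernel. -/
structure Homo (A U : Subgroup T) (φ : MulAut T) (k : ℕ) : Prop where
  normal : A.Normal
  comm : ∀ a ∈ A, ∀ b ∈ A, Commute a b
  stable : ∀ a ∈ A, φ a ∈ A
  selfc : ∀ t : T, (∀ a ∈ A, Commute t a) → t ∈ A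
  mem_u : ∀ a : T, a ∈ U ↔ a ∈ A ∧ a * a = 1
  card_u : Nat.card U = 4
  cen : ∀ u ∈ U, ∀ t : T, Commute t u
  moved : ∀ u ∈ U, φ u = u → u = 1
  two_le : 2 ≤ k
  pow_k : ∀ a ∈ A, a ^ 2 ^ k = 1
  surj : ∀ u ∈ U, ∃ a ∈ A, a ^ 2 ^ (k - 1) = u
  root : ∀ a ∈ A, a ^ 2 ^ (k - 1) = 1 → ∃ b ∈ A, b * b = a

variable {A U : Subgroup T} {φ : MulAut T} {k : ℕ}

theorem Homo.u_le (H : Homo A U φ k) : U ≤ A := fun u hu => ((H.mem_u u).1 hu).1

theorem Homo.u_sq (H : Homo A U φ k) : ∀ u ∈ U, u * u = 1 := fun u hu => ((H.mem_u u).1 hu).2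

theorem Homo.pow_sq (H : Homo A U φ k) {a : T} (ha : a ∈ A) : (a * a) ^ 2 ^ (k - 1) = 1 := by
  rw [← pow_two, ← pow_mul, ← pow_succ', Nat.sub_add_cancel (le_trans one_le_two H.two_le)]
  exact H.pow_k a ha

theorem Homo.pow_mem_u (H : Homo A U φ k) {a : T} (ha : a ∈ A) : a ^ 2 ^ (k - 1) ∈ U := by
  rw [H.mem_u]
  refine ⟨A.pow_mem ha _, ?_⟩
  rw [← (Commute.refl a).mul_pow]
  exact H.pow_sq ha

theorem Homo.pow_mul_pow (H : Homo A U φ k) {a b : T} (ha : a ∈ A) (hb : b ∈ A) (n : ℕ) :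
    (a * b) ^ n = a ^ n * b ^ n := (H.comm a ha b hb).mul_pow n

theorem Homo.root_iter (H : Homo A U φ k) : ∀ i j : ℕ, i + j ≤ k → ∀ a ∈ A, a ^ 2 ^ j = 1 →
    ∃ b ∈ A, b ^ 2 ^ i = a := by
  intro i
  induction i with
  | zero => exact fun j _ a ha _ => ⟨a, ha, by simp⟩
  | succ i ih =>
    intro j hij a ha h
    obtain ⟨b, hb, hba⟩ := ih j (by omega) a ha h
    have hb1 : b ^ 2 ^ (k - 1) = 1 := by
      rw [show k - 1 = i + j + (k - 1 - (i + j)) by omega, pow_add, pow_mul, pow_add 2 i j, pow_mul,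
        hba, h, one_pow]
    obtain ⟨c, hc, hcb⟩ := H.root b hb hb1
    exact ⟨c, hc, by rw [pow_succ', pow_mul, pow_two, hcb, hba]⟩

theorem Homo.u_all (H : Homo A U φ k) {u : T} (hu : u ∈ U) (h1 : u ≠ 1)
    (hstab : φ u ∈ U) : ∀ v ∈ U, v = 1 ∨ v = u ∨ v = φ u ∨ v = u * φ u :=
  four_elems H.u_sq H.card_u hu hstab h1 (fun h => h1 (φ.injective (h.trans (map_one φ).symm)))
    fun h => h1 (H.moved u hu h.symm)

theorem Homo.u_stable (H : Homo A U φ k) : ∀ u ∈ U, φ u ∈ U := fun u hu => by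
  rw [H.mem_u] at hu ⊢
  exact ⟨H.stable u hu.1, by rw [← map_mul, hu.2, map_one]⟩

theorem Homo.pow_apply (a : T) (φ : MulAut T) (n : ℕ) : (φ a) ^ n = φ (a ^ n) := (map_pow φ a n).symm

/-- A subgroup containing the squares, some `a` outside them and `φ a` contains `A`. -/
theorem Homo.gen_two (H : Homo A U φ k) (N : Subgroup T)
    (hN : ∀ b ∈ A, b ^ 2 ^ (k - 1) = 1 → b ∈ N) {a : T} (ha : a ∈ A)
    (ha1 : a ^ 2 ^ (k - 1) ≠ 1) (haN : a ∈ N) (hφaN : φ a ∈ N) : A ≤ N := by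
  intro x hx
  have hu := H.pow_mem_u ha
  have key : ∀ y ∈ A, y ∈ N → x ^ 2 ^ (k - 1) = y ^ 2 ^ (k - 1) → x ∈ N := by
    intro y hy hyN h
    have hq : y⁻¹ * x ∈ N := hN _ (A.mul_mem (A.inv_mem hy) hx) (by
      rw [H.pow_mul_pow (A.inv_mem hy) hx, h, inv_pow, inv_mul_cancel])
    simpa using N.mul_mem hyN hq
  rcases H.u_all hu ha1 (H.u_stable _ hu) _ (H.pow_mem_u hx) with h | h | h | h
  · exact hN x hx h
  · exact key a ha haN h
  · exact key (φ a) (H.stable a ha) hφaN (h.trans (map_pow φ a _))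
  · refine key (a * φ a) (A.mul_mem ha (H.stable a ha)) (N.mul_mem haN hφaN) ?_
    rw [h, H.pow_mul_pow ha (H.stable a ha), map_pow]

theorem Homo.conj_mem (H : Homo A U φ k) (g : T) {a : T} (ha : a ∈ A) : g * a * g⁻¹ ∈ A :=
  H.normal.conj_mem a ha g

theorem Homo.disp_mem (H : Homo A U φ k) (g : T) {a : T} (ha : a ∈ A) : disp g a ∈ A :=
  A.mul_mem (H.conj_mem g ha) (A.inv_mem ha)

theorem Homo.disp_pow (H : Homo A U φ k) (g : T) {a : T} (ha : a ∈ A) :
    disp g a ^ 2 ^ (k - 1) = 1 := by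
  unfold disp
  rw [H.pow_mul_pow (H.conj_mem g ha) (A.inv_mem ha), inv_pow, conj_pow,
    (H.cen _ (H.pow_mem_u ha) g).eq, mul_inv_cancel_right, mul_inv_cancel]

theorem Homo.disp_mul (H : Homo A U φ k) (g : T) {a b : T} (ha : a ∈ A) (hb : b ∈ A) :
    disp g (a * b) = disp g a * disp g b := by
  have e : disp g (a * b) = disp g a * (a * disp g b * a⁻¹) := by unfold disp; group
  rw [e, (H.comm a ha _ (H.disp_mem g hb)).eq, mul_inv_cancel_right]

theorem Homo.disp_comp (H : Homo A U φ k) (g h : T) {a : T} (ha : a ∈ A) :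
    disp (g * h) a = disp g a * disp h a * disp g (disp h a) := by
  have e : disp (g * h) a = disp g (disp h a) * disp h a * disp g a := by unfold disp; group
  rw [e, (H.comm _ (H.disp_mem g (H.disp_mem h ha)) _ (H.disp_mem h ha)).eq,
    mul_assoc, (H.comm _ (H.disp_mem g (H.disp_mem h ha)) _ (H.disp_mem g ha)).eq, ← mul_assoc,
    (H.comm _ (H.disp_mem h ha) _ (H.disp_mem g ha)).eq]

theorem Homo.disp_one (g : T) : disp g (1 : T) = 1 := by unfold disp; group

theorem Homo.disp_pow_arg (H : Homo A U φ k) (g : T) {a : T} (ha : a ∈ A) (n : ℕ) :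
    disp g (a ^ n) = disp g a ^ n := by
  induction n with
  | zero => rw [pow_zero, pow_zero, Homo.disp_one]
  | succ n ih => rw [pow_succ, pow_succ, H.disp_mul g (A.pow_mem ha n) ha, ih]

theorem Homo.disp_of_mem (H : Homo A U φ k) {g a : T} (hg : g ∈ A) (ha : a ∈ A) :
    disp g a = 1 := by
  unfold disp
  rw [(H.comm g hg a ha).eq, mul_inv_cancel_right, mul_inv_cancel]

theorem Homo.mem_of_disp (H : Homo A U φ k) {g : T} (h : ∀ a ∈ A, disp g a = 1) : g ∈ A :=
  H.selfc g fun a ha => mul_inv_eq_iff_eq_mul.1 (mul_inv_eq_one.1 (h a ha))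

theorem Homo.disp_map (g a : T) (φ : MulAut T) : φ (disp g a) = disp (φ g) (φ a) := by
  simp [disp]

theorem Homo.disp_u (H : Homo A U φ k) (g : T) {u : T} (hu : u ∈ U) : disp g u = 1 := by
  unfold disp
  rw [(H.cen u hu g).eq, mul_inv_cancel_right, mul_inv_cancel]

variable [Finite T]

/-- Final step: an element outside `A` acting into `Ω` yields a forbidden involution. -/
theorem Homo.false_of_involution (H : Homo A U φ k) (hB : Base T) {g : T} (hgA : g ∉ A)
    (hval : ∀ a ∈ A, disp g a ∈ U) (hgt : ∀ t : T, t * g * t⁻¹ * g⁻¹ ∈ A)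
    (hker : ∀ a ∈ A, a * a * disp g a = 1 → a ∈ U) {x : T} (hx : x ∈ A)
    (hxg : x * x * disp g x = (g * g)⁻¹) : False := by
  have hUn : U.Normal := ⟨fun u hu t => by
    rw [(H.cen u hu t).eq, mul_inv_cancel_right]; exact hu⟩
  have hgx : ∀ a ∈ A, g * a * g⁻¹ = disp g a * a := fun a _ => by unfold disp; group
  have hxc : g⁻¹ * x * g = disp g x * x := by
    have h1 : g * (disp g x * x) * g⁻¹ = x := by
      calc g * (disp g x * x) * g⁻¹ = g * disp g x * g⁻¹ * (g * x * g⁻¹) := by group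
        _ = disp g x * (disp g x * x) := by
          rw [(H.cen _ (hval x hx) g).eq, mul_inv_cancel_right, hgx x hx]
        _ = x := by rw [← mul_assoc, H.u_sq _ (hval x hx), one_mul]
    conv_lhs => rw [← h1]
    group
  have hyy : g * x * (g * x) = 1 := by
    have e : g * x * (g * x) = g * g * (g⁻¹ * x * g * x) := by group
    rw [e, hxc, mul_assoc (disp g x), (H.cen _ (hval x hx) (x * x)).symm.eq, hxg, mul_inv_cancel]
  have hgg : g * g ∈ A := by
    rw [show g * g = (x * x * disp g x)⁻¹ by rw [hxg, inv_inv]]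
    exact A.inv_mem (A.mul_mem (A.mul_mem hx hx) (H.disp_mem g hx))
  have hyA : g * x ∉ A := fun h => hgA (by
    have := A.mul_mem h (A.inv_mem hx)
    rwa [mul_inv_cancel_right] at this)
  have hdisp : ∀ a ∈ A, disp (g * x) a = disp g a := by
    intro a ha
    rw [H.disp_comp g x ha, H.disp_of_mem hx ha, mul_one, Homo.disp_one, mul_one]
  refine hB.false_of_normal_involution U (fun u hu v _ => (H.cen u hu v).symm) H.u_sq H.card_u
    (fun h => hyA (H.u_le h)) hyy (fun u hu => H.cen u hu _) fun t => ?_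
  set y := g * x with hy
  set a₁ := t * y * t⁻¹ * y⁻¹ with ha₁def
  have ha₁ : a₁ ∈ A := by
    rw [ha₁def, hy, show t * (g * x) * t⁻¹ * (g * x)⁻¹ =
      t * g * t⁻¹ * g⁻¹ * (g * (t * x * t⁻¹ * x⁻¹) * g⁻¹) by group]
    exact A.mul_mem (hgt t) (H.conj_mem g (A.mul_mem (H.conj_mem t hx) (A.inv_mem hx)))
  refine hker a₁ ha₁ ?_
  have e1 : a₁ * y * (a₁ * y) = 1 := by
    calc a₁ * y * (a₁ * y) = t * (y * y) * t⁻¹ := by rw [ha₁def]; group
      _ = 1 := by rw [hyy, mul_one, mul_inv_cancel]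
  have e2 : a₁ * y * (a₁ * y) = a₁ * (y * a₁ * y⁻¹ * a₁⁻¹ * a₁) * (y * y) := by group
  rw [e2, hyy, mul_one, show y * a₁ * y⁻¹ * a₁⁻¹ = disp y a₁ from rfl, hdisp a₁ ha₁] at e1
  rw [mul_assoc, ← (H.comm _ (H.disp_mem g ha₁) a₁ ha₁).eq]
  exact e1

end CfsgLib.NormalRankTwoAut
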