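import Cfsg.Agent.NormalRankTwoAut.Homo

/-!
# The homocyclic case of exponent at least eight
-/

set_option autoImplicit false

namespace CfsgLib.NormalRankTwoAut

open Subgroup

variable {T : Type*} [Group T]

/-- `A` has index two and the outside elements, among them an involution, invert it modulo `U`. -/
structure InvData (A U : Subgroup T) (g : T) : Prop where
  idx : A.index = 2
  comm : ∀ a ∈ A, ∀ b ∈ A, Commute a b
  mem_u : ∀ a : T, a ∈ U ↔ a ∈ A ∧ a * a = 1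
  card_u : Nat.card U = 4
  cen : ∀ u ∈ U, ∀ t : T, Commute t u
  root : ∀ u ∈ U, ∃ x ∈ A, x * x = u
  g_not : g ∉ A
  g_sq : g * g = 1
  act : ∀ h ∉ A, ∀ a ∈ A, h * a * h⁻¹ * a ∈ U
  act_four : ∀ h ∉ A, ∀ a ∈ A, a * a * (a * a) = 1 → h * a * h⁻¹ = a⁻¹

variable [Finite T] {A U : Subgroup T} {φ : MulAut T} {k : ℕ}

theorem Homo.symm_stable (H : Homo A U φ k) {a : T} (ha : a ∈ A) : φ.symm a ∈ A := by
  have hpow : ∀ (n : ℕ), ∀ y ∈ A, (φ ^ n) y ∈ A := by
    intro n
    induction n with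
    | zero => intro y hy; simpa using hy
    | succ n ih => intro y hy; rw [pow_succ', MulAut.mul_apply]; exact H.stable _ (ih y hy)
  have h1 := hpow (orderOf φ - 1) a ha
  have e : φ ((φ ^ (orderOf φ - 1)) a) = a := by
    rw [← MulAut.mul_apply, ← pow_succ', Nat.sub_add_cancel (orderOf_pos φ), pow_orderOf_eq_one,
      MulAut.one_apply]
  rwa [show φ.symm a = (φ ^ (orderOf φ - 1)) a by
    conv_lhs => rw [← e]
    rw [MulEquiv.symm_apply_apply]]

/-- An endomorphism into fourth powers with `e a ^ 2 * e (e a) = 1` takes values in `U`. -/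
theorem Homo.mem_u_of_relation (H : Homo A U φ k) (hB : Base T) (e : T → T)
    (hmul : ∀ a ∈ A, ∀ b ∈ A, e (a * b) = e a * e b)
    (hfour : ∀ a ∈ A, ∃ w ∈ A, e a = w ^ 4)
    (hrel : ∀ a ∈ A, e a * e a * e (e a) = 1) : ∀ a ∈ A, e a ∈ U := by
  have hmem : ∀ a ∈ A, e a ∈ A := fun a ha => by
    obtain ⟨w, hw, h⟩ := hfour a ha
    exact h ▸ A.pow_mem hw 4
  have hone : e 1 = 1 := by
    have := hmul 1 A.one_mem 1 A.one_mem
    rwa [one_mul, left_eq_mul] at this
  have hpow : ∀ a ∈ A, ∀ n : ℕ, e (a ^ n) = e a ^ n := fun a ha n => by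
    induction n with
    | zero => simpa using hone
    | succ n ih => rw [pow_succ, pow_succ, hmul _ (A.pow_mem ha n) a ha, ih]
  have hkill : ∀ x ∈ A, x * x * (x * x) = 1 → e x = 1 := by
    intro x hx h
    obtain ⟨y, hy, hyx⟩ := H.root_iter (k - 2) 2 (by have := H.two_le; omega) x hx (by
      rw [show (2 : ℕ) ^ 2 = 2 * 2 from rfl, pow_mul, pow_two, pow_two]; exact h)
    obtain ⟨w, hw, hey⟩ := hfour y hy
    rw [← hyx, hpow y hy, hey, ← pow_mul, show 4 * 2 ^ (k - 2) = 2 ^ k by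
      rw [show (4 : ℕ) = 2 ^ 2 from rfl, ← pow_add]; congr 1; have := H.two_le; omega]
    exact H.pow_k w hw
  have key : ∀ n : ℕ, ∀ b ∈ A, b ^ 2 ^ n = 1 → b * b * e b = 1 → b * b = 1 := by
    intro n
    induction n with
    | zero => intro b _ h _; rw [pow_zero, pow_one] at h; rw [h, one_mul]
    | succ n ih =>
      intro b hb h hr
      have h4 : b * b * (b * b) = 1 := ih _ (A.mul_mem hb hb)
        (by rw [← pow_two, ← pow_mul, ← pow_succ']; exact h)
        (by rw [hmul b hb b hb,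
          (H.comm _ (A.mul_mem hb hb) _ (hmem b hb)).mul_mul_mul_comm (b * b) (e b), hr, one_mul])
      rwa [hkill b hb h4, mul_one] at hr
  intro a ha
  rw [H.mem_u]
  refine ⟨hmem a ha, ?_⟩
  obtain ⟨n, hn⟩ := hB.pg (e a)
  exact key n _ (hmem a ha) hn (hrel a ha)

theorem Homo.disp_kill (H : Homo A U φ k) {g : T} (hval : ∀ a ∈ A, disp g a ∈ U) {c : T}
    (hc : c ∈ A) (hc1 : c ^ 2 ^ (k - 1) = 1) : disp g c = 1 := by
  obtain ⟨b, hb, rfl⟩ := H.root c hc hc1
  rw [H.disp_mul g hb hb, H.u_sq _ (hval b hb)]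

/-- Elements whose commutators with `A` lie in `U` lie in `A`, when the exponent is at least 8. -/
theorem Homo.mem_of_disp_u (H : Homo A U φ k) (hB : Base T) (hφ : Odd (orderOf φ)) (hk : 3 ≤ k)
    {g₀ : T} (hval₀ : ∀ a ∈ A, disp g₀ a ∈ U) : g₀ ∈ A := by
  classical
  haveI := H.normal
  by_contra hg₀
  have hcongr : ∀ g, (∀ a ∈ A, disp g a ∈ U) → ∀ x ∈ A, ∀ y ∈ A,
      x ^ 2 ^ (k - 1) = y ^ 2 ^ (k - 1) → disp g x = disp g y := by
    intro g hg x hx y hy h
    have h1 := H.disp_kill hg (A.mul_mem (A.inv_mem hy) hx)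
      (by rw [H.pow_mul_pow (A.inv_mem hy) hx, h, inv_pow, inv_mul_cancel])
    have h2 := H.disp_mul g hy (A.mul_mem (A.inv_mem hy) hx)
    rw [h1, mul_one, mul_inv_cancel_left] at h2
    exact h2
  obtain ⟨g, hgA, hval, hinj⟩ : ∃ g, g ∉ A ∧ (∀ a ∈ A, disp g a ∈ U) ∧
      ∀ a ∈ A, disp g a = 1 → a ^ 2 ^ (k - 1) = 1 := by
    by_cases hinj₀ : ∀ a ∈ A, disp g₀ a = 1 → a ^ 2 ^ (k - 1) = 1
    · exact ⟨g₀, hg₀, hval₀, hinj₀⟩
    push Not at hinj₀
    obtain ⟨a, ha, hfa, hva⟩ := hinj₀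
    set v := a ^ 2 ^ (k - 1) with hv
    have hvU : v ∈ U := H.pow_mem_u ha
    have hφvU := H.u_stable v hvU
    have hφa := H.stable a ha
    set r := disp g₀ (φ a) with hr
    have hrU : r ∈ U := hval₀ _ hφa
    have hr1 : r ≠ 1 := by
      intro h
      let N : Subgroup T :=
        { carrier := {x | x ∈ A ∧ disp g₀ x = 1}
          one_mem' := ⟨A.one_mem, Homo.disp_one g₀⟩
          mul_mem' := fun {a b} ha hb => ⟨A.mul_mem ha.1 hb.1, by
            rw [H.disp_mul g₀ ha.1 hb.1, ha.2, hb.2, one_mul]⟩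
          inv_mem' := fun {a} ha => ⟨A.inv_mem ha.1, by
            have := H.disp_mul g₀ (A.inv_mem ha.1) ha.1
            rw [inv_mul_cancel, Homo.disp_one, ha.2, mul_one] at this
            exact this.symm⟩ }
      exact hg₀ (H.mem_of_disp fun x hx => ((H.gen_two N
        (fun c hc h' => ⟨hc, H.disp_kill hval₀ hc h'⟩) ha hva ⟨ha, hfa⟩ ⟨hφa, h⟩) hx).2)
    have hf' : ∀ x ∈ A, disp (φ g₀) x = φ (disp g₀ (φ.symm x)) := fun x _ => by
      rw [Homo.disp_map, MulEquiv.apply_symm_apply]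
    have hval' : ∀ x ∈ A, disp (φ g₀) x ∈ U := fun x hx => by
      rw [hf' x hx]; exact H.u_stable _ (hval₀ _ (H.symm_stable hx))
    have hsum : ∀ x ∈ A, disp (g₀ * φ g₀) x = disp g₀ x * disp (φ g₀) x := fun x hx => by
      rw [H.disp_comp _ _ hx, H.disp_u g₀ (hval' x hx), mul_one]
    have hval1 : ∀ x ∈ A, disp (g₀ * φ g₀) x ∈ U := fun x hx => by
      rw [hsum x hx]; exact U.mul_mem (hval₀ x hx) (hval' x hx)
    have hu := H.symm_stable ha
    have hπu : (φ.symm a) ^ 2 ^ (k - 1) = v * φ v := by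
      set w := (φ.symm a) ^ 2 ^ (k - 1) with hw
      have hφw : φ w = v := by rw [hw, map_pow, MulEquiv.apply_symm_apply]
      have hmv : φ v ≠ v := fun h => hva (H.moved v hvU h)
      rcases H.u_all hvU hva hφvU w (H.pow_mem_u hu) with h | h | h | h
      · rw [h, map_one] at hφw; exact absurd hφw.symm hva
      · rw [h] at hφw; exact absurd hφw hmv
      · rw [h] at hφw; exact absurd (eq_of_apply_apply hφ hφw) hmv
      · exact h
    have hfu : disp g₀ (φ.symm a) = r := by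
      rw [hcongr g₀ hval₀ _ hu (a * φ a) (A.mul_mem ha hφa)
        (by rw [hπu, H.pow_mul_pow ha hφa, ← map_pow]), H.disp_mul g₀ ha hφa, hfa, one_mul]
    have hFa : disp (g₀ * φ g₀) a = φ r := by rw [hsum a ha, hfa, one_mul, hf' a ha, hfu]
    have hFφa : disp (g₀ * φ g₀) (φ a) = r := by
      rw [hsum _ hφa, hf' _ hφa, MulEquiv.symm_apply_apply, hfa, map_one, mul_one]
    refine ⟨g₀ * φ g₀, fun h => hr1 ?_, hval1, fun x hx hFx => ?_⟩
    · rw [← hFφa]; exact H.disp_of_mem h hφa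
    rcases H.u_all hvU hva hφvU _ (H.pow_mem_u hx) with h | h | h | h
    · exact h
    · rw [hcongr _ hval1 x hx a ha h, hFa] at hFx
      exact absurd (φ.injective (hFx.trans (map_one φ).symm)) hr1
    · rw [hcongr _ hval1 x hx (φ a) hφa (by rw [h, ← map_pow]), hFφa] at hFx
      exact absurd hFx hr1
    · rw [hcongr _ hval1 x hx (a * φ a) (A.mul_mem ha hφa)
        (by rw [h, H.pow_mul_pow ha hφa, ← map_pow]), H.disp_mul _ ha hφa, hFa, hFφa] at hFx
      refine absurd (H.moved r hrU ?_) hr1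
      rw [← inv_eq_of_mul_eq_one_left hFx]
      exact (inv_eq_of_mul_eq_one_right (H.u_sq r hrU))
  -- squares of `g` and the final involution
  have hgg : g * g ∈ A := H.mem_of_disp fun a ha => by
    rw [H.disp_comp g g ha, H.disp_u g (hval a ha), mul_one, H.u_sq _ (hval a ha)]
  have hggπ : (g * g) ^ 2 ^ (k - 1) = 1 := hinj _ hgg (by unfold disp; group)
  have hk2 : ∀ u ∈ U, u ^ 2 ^ (k - 1) = 1 := fun u hu => by
    rw [show k - 1 = (k - 2) + 1 by omega, pow_succ', pow_mul, pow_two, H.u_sq u hu, one_pow]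
  have hker : ∀ a ∈ A, a * a * disp g a = 1 → a ∈ U := by
    intro a ha h
    have h2 : a * a = (disp g a)⁻¹ := eq_inv_of_mul_eq_one_left h
    have ha4 : a ^ 2 ^ (k - 1) = 1 := by
      rw [show k - 1 = (k - 3) + 1 + 1 by omega, pow_succ', pow_mul, pow_two, h2, inv_pow,
        pow_succ', pow_mul, pow_two, H.u_sq _ (hval a ha), one_pow, inv_one]
    rw [H.disp_kill hval ha ha4, mul_one] at h
    exact (H.mem_u a).2 ⟨ha, h⟩
  let f : A →* T :=
    { toFun := fun a => (a : T) * a * disp g a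
      map_one' := by simp [Homo.disp_one]
      map_mul' := fun a b => by
        show (a : T) * b * (a * b) * disp g (a * b) = a * a * disp g a * (b * b * disp g b)
        rw [H.disp_mul g a.2 b.2, (H.comm b b.2 a a.2).mul_mul_mul_comm (a : T) b,
          (H.cen _ (hval a a.2) ((b : T) * b)).mul_mul_mul_comm] }
  have hωU : omega A = U := by
    ext a; rw [mem_omega H.comm, H.mem_u]
  have hrange : f.range = sqs A := by
    refine Subgroup.eq_of_le_of_card_ge ?_ ?_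
    · rintro _ ⟨a, rfl⟩
      show (a : T) * a * disp g a ∈ sqs A
      have haA := a.2
      have hdA := H.disp_mem g haA
      obtain ⟨b, hb, e⟩ := H.root _ (A.mul_mem (A.mul_mem haA haA) hdA) (by
        rw [H.pow_mul_pow (A.mul_mem haA haA) hdA, H.pow_sq haA, hk2 _ (hval _ haA), one_mul])
      exact e ▸ mul_self_mem_sqs hb
    · have hk' : f.ker.map A.subtype = U := by
        ext x
        refine ⟨fun ⟨a, ha, hax⟩ => hax ▸ hker a a.2 ha,
          fun hu => ⟨⟨x, H.u_le hu⟩, ?_, rfl⟩⟩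
        show x * x * disp g x = 1
        rw [H.u_sq x hu, H.disp_u g hu, one_mul]
      have h1 := f.ker.card_mul_index
      rw [Subgroup.index_ker, ← Subgroup.card_map_of_injective A.subtype_injective, hk',
        ← card_sqs H.comm, hωU, mul_comm] at h1
      have hpos : 0 < Nat.card U := Nat.card_pos
      exact (Nat.eq_of_mul_eq_mul_right hpos h1).ge
  obtain ⟨b, hb, hbe⟩ := H.root _ (A.inv_mem hgg) (by rw [inv_pow, hggπ, inv_one])
  obtain ⟨x, hx⟩ : (g * g)⁻¹ ∈ f.range := by rw [hrange, ← hbe]; exact mul_self_mem_sqs hb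
  refine H.false_of_involution hB hgA hval (fun t => ?_) hker x.2 hx
  refine H.selfc _ fun a ha => ?_
  have hb' : g⁻¹ * a * g ∈ A := by
    have := H.conj_mem g⁻¹ ha
    rwa [inv_inv] at this
  set a' := g⁻¹ * a * g with ha'
  have hti : t⁻¹ * a' * t ∈ A := by
    have := H.conj_mem t⁻¹ hb'
    rwa [inv_inv] at this
  have hπ : (t⁻¹ * a' * t) ^ 2 ^ (k - 1) = a' ^ 2 ^ (k - 1) := by
    have h := conj_pow (i := 2 ^ (k - 1)) (a := t⁻¹) (b := a')
    rw [inv_inv] at h
    rw [h, (H.cen _ (H.pow_mem_u hb') t⁻¹).eq, inv_mul_cancel_right]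
  have e : t * g * t⁻¹ * a' * (t * g * t⁻¹)⁻¹ = a := by
    calc t * g * t⁻¹ * a' * (t * g * t⁻¹)⁻¹
        = t * disp g (t⁻¹ * a' * t) * t⁻¹ * a' := by unfold disp; group
      _ = disp g a' * a' := by
        rw [(H.cen _ (hval _ hti) t).eq, mul_inv_cancel_right, hcongr g hval _ hti _ hb' hπ]
      _ = a := by rw [ha']; unfold disp; group
  have e2 : t * g * t⁻¹ * g⁻¹ * a * (t * g * t⁻¹ * g⁻¹)⁻¹ = a := by
    conv_rhs => rw [← e]
    rw [ha']; group
  exact mul_inv_eq_iff_eq_mul.1 e2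

/-- Exponent at least eight: index two with an inverting involution. -/
theorem Homo.invData (H : Homo A U φ k) (hB : Base T) (hφ : Odd (orderOf φ)) (hk : 3 ≤ k)
    {E : Subgroup T} (hE1 : ∀ a ∈ E, a * a = 1) (hE8 : 8 ≤ Nat.card E) :
    ∃ g, InvData A U g := by
  classical
  haveI := H.normal
  have hk1 : k - 1 = (k - 2) + 1 := by omega
  have hdbl : ∀ b : T, (b * b) ^ 2 ^ (k - 2) = b ^ 2 ^ (k - 1) := fun b => by
    rw [hk1, pow_succ' 2 (k - 2), pow_mul, pow_two]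
  have hsq : ∀ g : T, ∀ a ∈ A, ∃ b ∈ A, b * b = disp g a :=
    fun g a ha => H.root _ (H.disp_mem g ha) (H.disp_pow g ha)
  have hdd : ∀ g : T, ∀ a ∈ A, disp (g * g) a = disp g a * disp g a * disp g (disp g a) :=
    fun g a ha => H.disp_comp g g ha
  have hmemU : ∀ g : T, (∀ a ∈ A, ∃ w ∈ A, disp g a = w ^ 4) →
      (∀ a ∈ A, disp g a * disp g a * disp g (disp g a) = 1) → g ∈ A := fun g h4 hr =>
    H.mem_of_disp_u hB hφ hk (H.mem_u_of_relation hB (disp g) (fun a ha b hb => H.disp_mul g ha hb)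
      h4 hr)
  -- every square lies in `A`
  have hgg : ∀ g : T, g * g ∈ A := by
    have key : ∀ n : ℕ, ∀ g : T, g ^ 2 ^ (n + 1) ∈ A → g * g ∈ A := by
      intro n
      induction n with
      | zero => intro g h; rwa [zero_add, pow_one, pow_two] at h
      | succ n ih =>
        intro g h
        have h4 : g * g * (g * g) ∈ A := ih (g * g) (by
          rw [← pow_two, ← pow_mul, ← pow_succ']; exact h)
        refine hmemU (g * g) (fun a ha => ?_) fun a ha => ?_
        · rw [hdd g a ha]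
          obtain ⟨b, hb, hbe⟩ := hsq g a ha
          obtain ⟨c, hc, hce⟩ := hsq g b hb
          refine ⟨b * c, A.mul_mem hb hc, ?_⟩
          rw [H.pow_mul_pow hb hc, ← hbe, H.disp_mul g hb hb, ← hce]
          simp only [pow_succ, pow_zero, one_mul, mul_assoc]
        · rw [← hdd (g * g) a ha]
          exact H.disp_of_mem h4 ha
    intro g
    obtain ⟨n, hn⟩ := hB.pg g
    exact key n g (by rw [pow_succ, pow_mul, hn, one_pow]; exact A.one_mem)
  have hrel : ∀ g : T, ∀ a ∈ A, disp g a * disp g a * disp g (disp g a) = 1 := fun g a ha => by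
    rw [← hdd g a ha]; exact H.disp_of_mem (hgg g) ha
  -- the induced endomorphisms of `U`
  have hsU : ∀ g : T, ∀ a ∈ A, disp g a ^ 2 ^ (k - 2) ∈ U := fun g a ha => by
    rw [H.mem_u]
    refine ⟨A.pow_mem (H.disp_mem g ha) _, ?_⟩
    rw [← (Commute.refl (disp g a)).mul_pow, hdbl]
    exact H.disp_pow g ha
  have hskill : ∀ g : T, ∀ c ∈ A, c ^ 2 ^ (k - 1) = 1 → disp g c ^ 2 ^ (k - 2) = 1 := by
    intro g c hc h
    obtain ⟨b, hb, rfl⟩ := H.root c hc h
    rw [H.disp_mul g hb hb, hdbl]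
    exact H.disp_pow g hb
  have hex : ∀ u : T, ∃ a : T, u ∈ U → a ∈ A ∧ a ^ 2 ^ (k - 1) = u := fun u => by
    by_cases hu : u ∈ U
    · obtain ⟨a, ha, h⟩ := H.surj u hu
      exact ⟨a, fun _ => ⟨ha, h⟩⟩
    · exact ⟨1, fun h => absurd h hu⟩
  choose ρ hρ using hex
  let τ : T → T → T := fun g u => disp g (ρ u) ^ 2 ^ (k - 2)
  have hτ : ∀ g : T, ∀ a ∈ A, τ g (a ^ 2 ^ (k - 1)) = disp g a ^ 2 ^ (k - 2) := by
    intro g a ha
    obtain ⟨hr, hre⟩ := hρ _ (H.pow_mem_u ha)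
    show disp g (ρ (a ^ 2 ^ (k - 1))) ^ 2 ^ (k - 2) = _
    generalize ρ (a ^ 2 ^ (k - 1)) = r at hr hre ⊢
    have hc : a⁻¹ * r ∈ A := A.mul_mem (A.inv_mem ha) hr
    conv_lhs => rw [show r = a * (a⁻¹ * r) by group]
    rw [H.disp_mul g ha hc, H.pow_mul_pow (H.disp_mem g ha) (H.disp_mem g hc),
      hskill g _ hc (by rw [H.pow_mul_pow (A.inv_mem ha) hr, hre, inv_pow, inv_mul_cancel]),
      mul_one]
  have hτU : ∀ g : T, ∀ u ∈ U, τ g u ∈ U := fun g u hu => hsU g _ (hρ u hu).1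
  have hτmul : ∀ g : T, ∀ u ∈ U, ∀ v ∈ U, τ g (u * v) = τ g u * τ g v := by
    intro g u hu v hv
    obtain ⟨ha, hae⟩ := hρ u hu
    obtain ⟨hb, hbe⟩ := hρ v hv
    rw [show u * v = (ρ u * ρ v) ^ 2 ^ (k - 1) by rw [H.pow_mul_pow ha hb, hae, hbe],
      hτ g _ (A.mul_mem ha hb), H.disp_mul g ha hb,
      H.pow_mul_pow (H.disp_mem g ha) (H.disp_mem g hb)]
  have hτone : ∀ g : T, τ g 1 = 1 := fun g => by
    have := hτmul g 1 U.one_mem 1 U.one_mem
    rwa [one_mul, left_eq_mul] at this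
  have hτadd : ∀ g h : T, ∀ u ∈ U, τ (g * h) u = τ g u * τ h u := by
    intro g h u hu
    obtain ⟨ha, -⟩ := hρ u hu
    show disp (g * h) (ρ u) ^ 2 ^ (k - 2) =
      disp g (ρ u) ^ 2 ^ (k - 2) * disp h (ρ u) ^ 2 ^ (k - 2)
    obtain ⟨b, hb, hbe⟩ := hsq h _ ha
    rw [H.disp_comp g h ha,
      H.pow_mul_pow (A.mul_mem (H.disp_mem g ha) (H.disp_mem h ha))
        (H.disp_mem g (H.disp_mem h ha)),
      H.pow_mul_pow (H.disp_mem g ha) (H.disp_mem h ha), ← hbe, H.disp_mul g hb hb, hdbl (disp g b),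
      H.disp_pow g hb, mul_one]
  have hτφ : ∀ g : T, ∀ u ∈ U, τ (φ g) (φ u) = φ (τ g u) := by
    intro g u hu
    obtain ⟨ha, hae⟩ := hρ u hu
    have e : φ u = (φ (ρ u)) ^ 2 ^ (k - 1) := by rw [← map_pow, hae]
    rw [e, hτ _ _ (H.stable _ ha), ← Homo.disp_map, ← map_pow]
  have hτidem : ∀ g : T, ∀ u ∈ U, τ g (τ g u) = τ g u := by
    intro g u hu
    obtain ⟨ha, -⟩ := hρ u hu
    obtain ⟨b, hb, hbe⟩ := hsq g _ ha
    have e : τ g u = b ^ 2 ^ (k - 1) := by
      show disp g (ρ u) ^ 2 ^ (k - 2) = _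
      rw [← hbe, hdbl]
    have h1 := hrel g _ ha
    rw [← hbe, H.disp_mul g hb hb] at h1
    set d := disp g b with hd
    have hdA : d ∈ A := H.disp_mem g hb
    have hbb := A.mul_mem hb hb
    have h2 : b * b * d ∈ U := (H.mem_u _).2 ⟨A.mul_mem hbb hdA, by
      rw [(H.comm d hdA _ hbb).mul_mul_mul_comm (b * b) d]; exact h1⟩
    have h3 : (b * b * d) ^ 2 ^ (k - 2) = 1 := by
      rw [show k - 2 = (k - 3) + 1 by omega, pow_succ', pow_mul, pow_two, H.u_sq _ h2, one_pow]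
    rw [H.pow_mul_pow hbb hdA, hdbl] at h3
    rw [e, hτ g b hb]
    refine (inv_eq_of_mul_eq_one_right h3).symm.trans ?_
    exact inv_eq_of_mul_eq_one_right (H.u_sq _ (H.pow_mem_u hb))
  have hτcases : ∀ g : T, (∀ u ∈ U, τ g u = 1) ∨ ∀ u ∈ U, τ g u = u := by
    intro g
    by_cases hker : ∀ u ∈ U, τ g u = 1 → u = 1
    · refine Or.inr fun u hu => ?_
      have := hker _ (U.mul_mem (hτU g u hu) hu) (by
        rw [hτmul g _ (hτU g u hu) u hu, hτidem g u hu, H.u_sq _ (hτU g u hu)])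
      rw [← inv_eq_of_mul_eq_one_left this]
      exact inv_eq_of_mul_eq_one_right (H.u_sq u hu)
    push Not at hker
    obtain ⟨u, hu, hτu, hu1⟩ := hker
    refine Or.inl fun w hw => ?_
    by_contra hne
    set r := τ g w with hr
    have hrU : r ∈ U := hτU g w hw
    have hτr : τ g r = r := hτidem g w hw
    have hur : u ≠ r := fun h => hne (by rw [← hτr, ← h, hτu])
    have hU4 := four_elems H.u_sq H.card_u hu hrU hu1 hne hur
    have hmu : φ u ≠ u := fun h => hu1 (H.moved u hu h)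
    have hmr : φ r ≠ r := fun h => hne (H.moved r hrU h)
    have hφu1 : φ u ≠ 1 := fun h => hu1 (φ.injective (h.trans (map_one φ).symm))
    have hφr1 : φ r ≠ 1 := fun h => hne (φ.injective (h.trans (map_one φ).symm))
    have hτ'u : τ (φ g) (φ u) = 1 := by rw [hτφ g u hu, hτu, map_one]
    have hτ'r : τ (φ g) (φ r) = φ r := by rw [hτφ g r hrU, hτr]
    have hidem := hτidem (g * φ g)
    have hadd := fun v hv => hτadd g (φ g) v hv
    have hrr := H.u_sq r hrU
    have huu := H.u_sq u hu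
    rcases hU4 _ (H.u_stable u hu) with h | h | h | h
    · exact hφu1 h
    · exact hmu h
    · rw [h] at hτ'u
      have hφr : φ r = u * r := by
        rcases hU4 _ (H.u_stable r hrU) with h' | h' | h' | h'
        · exact absurd h' hφr1
        · exact absurd (eq_of_apply_apply hφ (by rw [h, h'])) hmu
        · exact absurd h' hmr
        · exact h'
      rw [hφr] at hτ'r
      have hPr : τ (g * φ g) r = r := by rw [hadd r hrU, hτr, hτ'u, mul_one]
      have hPu : τ (g * φ g) u = u * r := by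
        rw [hadd u hu, hτu, one_mul]
        rw [hτmul _ u hu r hrU, hτ'u, mul_one] at hτ'r
        exact hτ'r
      have hc := hidem u hu
      rw [hPu, hτmul _ u hu r hrU, hPu, hPr, mul_assoc, hrr, mul_one] at hc
      exact hne (left_eq_mul.1 hc)
    · rw [h] at hτ'u
      have hφr : φ r = u := by
        rcases hU4 _ (H.u_stable r hrU) with h' | h' | h' | h'
        · exact absurd h' hφr1
        · exact h'
        · exact absurd h' hmr
        · exact absurd (φ.injective (h.trans h'.symm)) hur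
      rw [hφr] at hτ'r
      have hτ'r' : τ (φ g) r = u := by
        have e := hτmul (φ g) u hu (u * r) (U.mul_mem hu hrU)
        rwa [← mul_assoc, huu, one_mul, hτ'r, hτ'u, mul_one] at e
      have hPr : τ (g * φ g) r = r * u := by rw [hadd r hrU, hτr, hτ'r']
      have hPu : τ (g * φ g) u = u := by rw [hadd u hu, hτu, one_mul, hτ'r]
      have hc := hidem r hrU
      rw [hPr, hτmul _ r hrU u hu, hPr, hPu, mul_assoc, huu, mul_one] at hc
      exact hu1 (left_eq_mul.1 hc)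
  have hout : ∀ g ∉ A, ∀ a ∈ A, disp g a ^ 2 ^ (k - 2) = a ^ 2 ^ (k - 1) := by
    intro g hg a ha
    rcases hτcases g with h | h
    · exfalso
      refine hg (hmemU g (fun b hb => ?_) (hrel g))
      obtain ⟨w, hw, hwe⟩ := H.root_iter 2 (k - 2) (by omega) _ (H.disp_mem g hb)
        (by rw [← hτ g b hb]; exact h _ (H.pow_mem_u hb))
      exact ⟨w, hw, hwe.symm⟩
    · rw [← hτ g a ha]; exact h _ (H.pow_mem_u ha)
  obtain ⟨g, hgE, hgA⟩ : ∃ g ∈ E, g ∉ A := by
    by_contra h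
    push Not at h
    have := Subgroup.card_le_of_le
      (show E ≤ U from fun a ha => (H.mem_u a).2 ⟨h a ha, hE1 a ha⟩)
    rw [H.card_u] at this
    omega
  have hg2 : g * g = 1 := hE1 g hgE
  have hprod : ∀ g h : T, g ∉ A → h ∉ A → g * h ∈ A := by
    intro g h hg hh
    by_contra hgh
    obtain ⟨u, hu, hu1⟩ : ∃ u ∈ U, u ≠ 1 := by
      by_contra h0
      push Not at h0
      have h4 := H.card_u
      rw [show U = ⊥ from eq_bot_iff.2 fun x hx => Subgroup.mem_bot.2 (h0 x hx),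
        Subgroup.card_bot] at h4
      omega
    obtain ⟨a, ha, rfl⟩ := H.surj u hu
    have h1 := hτadd g h _ hu
    rw [hτ _ a ha, hτ _ a ha, hτ _ a ha, hout _ hgh a ha, hout g hg a ha, hout h hh a ha] at h1
    exact hu1 (left_eq_mul.1 h1)
  have hidx : A.index = 2 := by
    rw [Subgroup.index_eq_two_iff]
    refine ⟨g⁻¹, fun b => ?_⟩
    by_cases hb : b ∈ A
    · exact Or.inr ⟨hb, fun h => hgA (A.inv_mem_iff.1 ((A.mul_mem_cancel_left hb).1 h))⟩
    · exact Or.inl ⟨hprod b g⁻¹ hb (fun h => hgA (A.inv_mem_iff.1 h)), hb⟩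
  -- `g` inverts `A` modulo `U`
  let e : T → T := fun a => (g * a * g⁻¹ * a)⁻¹
  have hemem : ∀ a ∈ A, g * a * g⁻¹ * a ∈ A := fun a ha => A.mul_mem (H.conj_mem g ha) ha
  have hemul : ∀ a ∈ A, ∀ b ∈ A, e (a * b) = e a * e b := by
    intro a ha b hb
    show (g * (a * b) * g⁻¹ * (a * b))⁻¹ = (g * a * g⁻¹ * a)⁻¹ * (g * b * g⁻¹ * b)⁻¹
    rw [← mul_inv_rev, (H.comm _ (hemem b hb) _ (hemem a ha)).eq,
      show g * (a * b) * g⁻¹ = g * a * g⁻¹ * (g * b * g⁻¹) by group,
      (H.comm _ (H.conj_mem g hb) a ha).mul_mul_mul_comm (g * a * g⁻¹) b]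
  have hefour : ∀ a ∈ A, ∃ w ∈ A, e a = w ^ 4 := by
    intro a ha
    obtain ⟨b, hb, hbe⟩ := hsq g a ha
    have hπb : b ^ 2 ^ (k - 1) = a ^ 2 ^ (k - 1) := by rw [← hdbl, hbe, hout g hgA a ha]
    obtain ⟨c, hc, hce⟩ := H.root (b * a) (A.mul_mem hb ha) (by
      rw [H.pow_mul_pow hb ha, hπb]
      exact H.u_sq _ (H.pow_mem_u ha))
    refine ⟨c⁻¹, A.inv_mem hc, ?_⟩
    show (g * a * g⁻¹ * a)⁻¹ = c⁻¹ ^ 4
    rw [inv_pow]
    congr 1
    calc g * a * g⁻¹ * a = disp g a * (a * a) := by unfold disp; group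
      _ = b * a * (b * a) := by rw [← hbe, ← (H.comm a ha b hb).mul_mul_mul_comm b a]
      _ = c ^ 4 := by rw [← hce]; simp only [pow_succ, pow_zero, one_mul, mul_assoc]
  have heU : ∀ a ∈ A, g * a * g⁻¹ * a ∈ U := by
    intro a ha
    refine U.inv_mem_iff.1 (H.mem_u_of_relation hB e hemul hefour (fun x hx => ?_) a ha)
    set p := g * x * g⁻¹ * x with hp
    show p⁻¹ * p⁻¹ * (g * p⁻¹ * g⁻¹ * p⁻¹)⁻¹ = 1
    have hgp : g * p * g⁻¹ = p := by
      calc g * p * g⁻¹ = g * g * x * (g * g)⁻¹ * (g * x * g⁻¹) := by rw [hp]; group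
        _ = x * (g * x * g⁻¹) := by rw [hg2]; group
        _ = p := (H.comm x hx _ (H.conj_mem g hx))
    rw [show g * p⁻¹ * g⁻¹ = (g * p * g⁻¹)⁻¹ by group, hgp]
    group
  have hconj : ∀ h ∉ A, ∀ a ∈ A, h * a * h⁻¹ = g * a * g⁻¹ := by
    intro h hh a ha
    have hm : g⁻¹ * h ∈ A := by
      rw [inv_eq_of_mul_eq_one_right hg2]; exact hprod g h hgA hh
    calc h * a * h⁻¹ = g * (g⁻¹ * h * a * (g⁻¹ * h)⁻¹) * g⁻¹ := by group
      _ = _ := by rw [(H.comm _ hm a ha).eq, mul_inv_cancel_right]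
  refine ⟨g, ⟨hidx, H.comm, H.mem_u, H.card_u, H.cen, fun u hu => ?_, hgA, hg2,
    fun h hh a ha => by rw [hconj h hh a ha]; exact heU a ha, fun h hh a ha h4 => ?_⟩⟩
  · obtain ⟨a, ha, rfl⟩ := H.surj u hu
    exact ⟨a ^ 2 ^ (k - 2), A.pow_mem ha _, by rw [← (Commute.refl a).mul_pow, hdbl]⟩
  · rw [hconj h hh a ha]
    refine eq_inv_of_mul_eq_one_left (inv_eq_one.1 ?_)
    show e a = 1
    obtain ⟨y, hy, hya⟩ := H.root_iter (k - 2) 2 (by omega) a ha (by
      rw [show (2 : ℕ) ^ 2 = 2 * 2 from rfl, pow_mul, pow_two, pow_two]; exact h4)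
    have hone : e 1 = 1 := by simp [e]
    have hpow : ∀ n : ℕ, e (y ^ n) = e y ^ n := fun n => by
      induction n with
      | zero => simpa using hone
      | succ n ih => rw [pow_succ, pow_succ, hemul _ (A.pow_mem hy n) y hy, ih]
    rw [← hya, hpow, show k - 2 = (k - 3) + 1 by omega, pow_succ', pow_mul, pow_two,
      show e y = (g * y * g⁻¹ * y)⁻¹ from rfl, H.u_sq _ (U.inv_mem (heU y hy)), one_pow]

end CfsgLib.NormalRankTwoAut
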