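import Cfsg.Agent.NormalRankTwoAut.Four
import Cfsg.Agent.NormalRankTwoAut.Large
import Cfsg.Agent.NormalRankTwoAut.Defect

/-!
# The case where the automorphism moves the involutions of `Z(K)`
-/

set_option autoImplicit false

namespace CfsgLib.NormalRankTwoAut

open Subgroup

variable {T : Type*} [Group T] [Finite T]

/-- If `φ` moves an involution of a nonelementary `Z(K)`, then the order is 64 or 128, or there is
an abelian subgroup of index two inverted by an involution. -/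
theorem card_or_invData (hB : Base T) {Z M : Subgroup T} (S : Setup Z M) {φ : MulAut T}
    (hφ : Odd (orderOf φ)) {E : Subgroup T} (hE1 : ∀ a ∈ E, a * a = 1) (hE8 : 8 ≤ Nat.card E)
    (h4 : Nat.card (omega Z) = 4) (hnel : ¬ ∀ a ∈ Z, a * a = 1)
    (hmove : ∃ a ∈ Z, a * a = 1 ∧ φ a ≠ a) :
    Nat.card T = 64 ∨ Nat.card T = 128 ∨ ∃ (A U : Subgroup T) (g : T), InvData A U g := by
  classical
  haveI := S.zchar
  haveI := S.mchar
  have hZn : Z.Normal := inferInstance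
  have hMn : M.Normal := inferInstance
  have hc := S.zcomm
  haveI hΩn : (omega Z).Normal := omega_normal hc
  have hΩ1 : ∀ u ∈ omega Z, u * u = 1 := fun u hu => ((mem_omega hc).1 hu).2
  have hΩφ : ∀ u ∈ omega Z, φ u ∈ omega Z := fun u hu => apply_mem_omega hc S.zchar φ hu
  obtain ⟨a₀, ha₀, ha₀a, ha₀φ⟩ := hmove
  have ha₀Ω : a₀ ∈ omega Z := (mem_omega hc).2 ⟨ha₀, ha₀a⟩
  have hmoved : ∀ u ∈ omega Z, φ u = u → u = 1 := fun u hu h => by
    by_contra h1
    exact ha₀φ (fixed_all_of_four hφ hΩ1 h4 hΩφ hu h1 h a₀ ha₀Ω)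
  have hu4 : ∀ e ∈ omega Z, e ≠ 1 →
      ∀ u ∈ omega Z, u = 1 ∨ u = e ∨ u = φ e ∨ u = e * φ e := fun e he he1 =>
    four_elems hΩ1 h4 he (hΩφ e he) he1 (fun h => he1 (φ.injective (h.trans (map_one φ).symm)))
      fun h => he1 (hmoved e he h.symm)
  -- `Ω` is central
  obtain ⟨e, he, he1, hee, hec⟩ := hB.exists_central_involution (omega Z) ha₀Ω
    (fun h => ha₀φ (by rw [h, map_one]))
  have hφec : ∀ t, Commute t (φ e) := fun t => by
    have := (hec (φ.symm t)).map φ.toMonoidHom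
    simpa using this
  have hcen : ∀ u ∈ omega Z, ∀ t, Commute t u := by
    intro u hu t
    rcases hu4 e he he1 u hu with rfl | rfl | rfl | rfl
    · exact Commute.one_right t
    · exact hec t
    · exact hφec t
    · exact (hec t).mul_right (hφec t)
  -- every involution of `Z` is a square
  obtain ⟨b₀, hb₀, hb₀b⟩ : ∃ b ∈ Z, b * b ≠ 1 := by
    by_contra h
    push Not at h
    exact hnel h
  obtain ⟨k₀, hk1, hk2⟩ := hB.exists_pow_sq hb₀b
  set c := (b₀ * b₀) ^ k₀ with hcdef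
  have hcs : c ∈ sqs Z := (sqs Z).pow_mem (mul_self_mem_sqs hb₀) k₀
  have hcΩ : c ∈ omega Z := (mem_omega hc).2 ⟨sqs_le Z hcs, hk2⟩
  have hΩs : omega Z ≤ sqs Z := by
    intro u hu
    have hφc := apply_mem_sqs hc S.zchar φ hcs
    rcases hu4 c hcΩ hk1 u hu with rfl | rfl | rfl | rfl
    · exact one_mem _
    · exact hcs
    · exact hφc
    · exact (sqs Z).mul_mem hcs hφc
  haveI hsn : (sqs Z).Normal := sqs_normal hc
  have hcomm : ∀ p ∈ M, ∀ q ∈ M, p * q * p⁻¹ * q⁻¹ ∈ sqs Z := fun p hp q hq =>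
    hΩs ((mem_omega hc).2 ⟨S.comm p hp q hq, S.comm_sq p hp q hq⟩)
  -- squares inside the squares of `Z` only from `Z`
  have hN : ∀ m ∈ M, m * m ∈ sqs Z → m ∈ Z := by
    let N : Subgroup T :=
      { carrier := {p | p ∈ M ∧ p * p ∈ sqs Z}
        one_mem' := ⟨M.one_mem, by rw [one_mul]; exact (sqs Z).one_mem⟩
        mul_mem' := fun {a b} ha hb => ⟨M.mul_mem ha.1 hb.1, by
          rw [show a * b * (a * b) = a * (b * a * b⁻¹ * a⁻¹) * a⁻¹ * (a * a * (b * b)) by group]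
          exact (sqs Z).mul_mem (hsn.conj_mem _ (hcomm b hb.1 a ha.1) a)
            ((sqs Z).mul_mem ha.2 hb.2)⟩
        inv_mem' := fun {a} ha => ⟨M.inv_mem ha.1, by
          rw [← mul_inv_rev]; exact (sqs Z).inv_mem ha.2⟩ }
    have hNmem : ∀ a, a ∈ N ↔ a ∈ M ∧ a * a ∈ sqs Z := fun _ => Iff.rfl
    haveI : N.Normal := ⟨fun a ha t => by
      rw [hNmem] at ha ⊢
      refine ⟨hMn.conj_mem a ha.1 t, ?_⟩
      rw [show t * a * t⁻¹ * (t * a * t⁻¹) = t * (a * a) * t⁻¹ by group]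
      exact hsn.conj_mem _ ha.2 t⟩
    intro m hm hmm
    by_contra hmZ
    obtain ⟨a, ha, haZ, hat⟩ := hB.exists_fixed_mod Z N ((hNmem m).2 ⟨hm, hmm⟩) hmZ
    obtain ⟨haM, haa⟩ := (hNmem a).1 ha
    obtain ⟨θ, hθ, hθe⟩ := (mem_sqs hc).1 haa
    set x := a * θ⁻¹ with hx
    have hxx : x * x = 1 := by
      rw [hx, (S.cent a haM _ (Z.inv_mem hθ)).symm.mul_mul_mul_comm, ← hθe]; group
    have hxM : x ∈ M := M.mul_mem haM (S.zm (Z.inv_mem hθ))
    refine hB.false_of_normal_involution (omega Z)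
      (fun u hu w hw => hc u (omega_le Z hu) w (omega_le Z hw)) hΩ1 h4
      (fun h => haZ ((Z.mul_mem_cancel_right (Z.inv_mem hθ)).1 (omega_le Z h))) hxx
      (fun u hu => hcen u hu x) fun t => ?_
    have hd : t * θ⁻¹ * t⁻¹ * θ ∈ Z := Z.mul_mem (hZn.conj_mem _ (Z.inv_mem hθ) t) hθ
    have hxt : t * x * t⁻¹ * x⁻¹ ∈ Z := by
      rw [show t * x * t⁻¹ * x⁻¹ = (t * a * t⁻¹ * a⁻¹) * (a * (t * θ⁻¹ * t⁻¹ * θ) * a⁻¹) by
        rw [hx]; group]
      exact Z.mul_mem (hat t) (hZn.conj_mem _ hd a)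
    exact (mem_omega hc).2 ⟨hxt, comm_sq_one (S.cent x hxM _ hxt).symm
      (by rw [hxx]; exact Commute.one_right t)⟩
  -- `M / Z` has at most four elements
  have hVle : Nat.card (M.map (QuotientGroup.mk' Z)) ≤ 4 := by
    have h1 := card_map_mk (sqs Z) (sqs_le Z)
    rw [← card_sqs hc, h4, mul_comm (Nat.card (sqs Z)) 4] at h1
    have hQ : Nat.card (Z.map (QuotientGroup.mk' (sqs Z))) = 4 :=
      Nat.eq_of_mul_eq_mul_right Nat.card_pos h1
    have hrep : ∀ v : M.map (QuotientGroup.mk' Z), ∃ m ∈ M, (m : T ⧸ Z) = v := fun v => v.2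
    choose r hrM hrv using hrep
    let f : M.map (QuotientGroup.mk' Z) → Z.map (QuotientGroup.mk' (sqs Z)) := fun v =>
      ⟨((r v * r v : T) : T ⧸ sqs Z), r v * r v, S.sq _ (hrM v), rfl⟩
    rw [← hQ]
    refine Nat.card_le_card_of_injective f fun v v' h => ?_
    have h' : (r v * r v)⁻¹ * (r v' * r v') ∈ sqs Z := QuotientGroup.eq.1 (congrArg Subtype.val h)
    have hv := hrM v
    have hv' := hrM v'
    have hmem : (r v)⁻¹ * r v' ∈ Z := by
      refine hN _ (M.mul_mem (M.inv_mem hv) hv') ?_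
      rw [show (r v)⁻¹ * r v' * ((r v)⁻¹ * r v') =
        (r v)⁻¹ * (r v' * (r v)⁻¹ * (r v')⁻¹ * (r v)⁻¹⁻¹) * (r v)⁻¹⁻¹ *
          ((r v * r v)⁻¹ * (r v' * r v')) by group]
      exact (sqs Z).mul_mem (hsn.conj_mem _ (hcomm _ hv' _ (M.inv_mem hv)) _) h'
    refine Subtype.ext ?_
    rw [← hrv v, ← hrv v', QuotientGroup.eq]
    exact hmem
  -- `M` is abelian
  have hMc : ∀ p ∈ M, ∀ q ∈ M, Commute p q := by
    intro m hm n hn
    by_contra hne
    have hmZ : m ∉ Z := fun h => hne (S.cent n hn m h).symm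
    have hnZ : n ∉ Z := fun h => hne (S.cent m hm n h)
    have hmnZ : m⁻¹ * n ∉ Z := fun h => hne (by
      have := (Commute.refl m).mul_right (S.cent m hm _ h)
      rwa [mul_inv_cancel_left] at this)
    have hmnZ' : m * n ∉ Z := fun h => hne (by
      have := (Commute.refl m).inv_right.mul_right (S.cent m hm _ h)
      rwa [inv_mul_cancel_left] at this)
    let R : Set (T ⧸ Z) := {1, (m : T ⧸ Z), (n : T ⧸ Z), ((m * n : T) : T ⧸ Z)}
    have hR4 : R.ncard = 4 := by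
      refine Set.ncard_eq_four.2 ⟨1, (m : T ⧸ Z), (n : T ⧸ Z), ((m * n : T) : T ⧸ Z),
        ?_, ?_, ?_, ?_, ?_, ?_, rfl⟩
      · exact fun h => hmZ ((QuotientGroup.eq_one_iff m).1 h.symm)
      · exact fun h => hnZ ((QuotientGroup.eq_one_iff n).1 h.symm)
      · exact fun h => hmnZ' ((QuotientGroup.eq_one_iff _).1 h.symm)
      · exact fun h => hmnZ (QuotientGroup.eq.1 h)
      · intro h
        have h' := QuotientGroup.eq.1 h
        rw [inv_mul_cancel_left] at h'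
        exact hnZ h'
      · intro h
        have h' := QuotientGroup.eq.1 h
        have : m = n * (n⁻¹ * (m * n)) * n⁻¹ := by group
        exact hmZ (this ▸ hZn.conj_mem _ h' n)
    have hsub : R ⊆ (M.map (QuotientGroup.mk' Z) : Set (T ⧸ Z)) := by
      intro v hv
      rcases hv with rfl | rfl | rfl | rfl
      · exact one_mem _
      · exact ⟨m, hm, rfl⟩
      · exact ⟨n, hn, rfl⟩
      · exact ⟨m * n, M.mul_mem hm hn, rfl⟩
    have hall := Set.eq_of_subset_of_ncard_le hsub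
      (by rw [hR4, ← Nat.card_coe_set_eq]; exact hVle) (Set.toFinite _)
    set d := m * n * m⁻¹ * n⁻¹ with hd
    have hdZ : d ∈ Z := S.comm m hm n hn
    have hdd : d * d = 1 := S.comm_sq m hm n hn
    have hd1 : d ≠ 1 := fun h => hne (mul_inv_eq_iff_eq_mul.1 (mul_inv_eq_one.1 h))
    have hdc : ∀ p ∈ M, Commute p d := fun p hp => S.cent p hp d hdZ
    have hdi : d⁻¹ = d := inv_eq_of_mul_eq_one_right hdd
    have hnm : n * m * n⁻¹ * m⁻¹ = d := by
      rw [show n * m * n⁻¹ * m⁻¹ = d⁻¹ by rw [hd]; group, hdi]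
    have hmnm : m * n * m * (m * n)⁻¹ * m⁻¹ = d := by
      rw [show m * n * m * (m * n)⁻¹ * m⁻¹ = m * (n * m * n⁻¹ * m⁻¹) * m⁻¹ by group, hnm,
        (hdc m hm).eq, mul_inv_cancel_right]
    have hmnn : m * n * n * (m * n)⁻¹ * n⁻¹ = d := by rw [hd]; group
    have hrep : ∀ p ∈ M, ∃ p₀, (p₀ = 1 ∨ p₀ = m ∨ p₀ = n ∨ p₀ = m * n) ∧ p₀⁻¹ * p ∈ Z := by
      intro p hp
      have hpR : (p : T ⧸ Z) ∈ R := hall ▸ ⟨p, hp, rfl⟩
      rcases hpR with h | h | h | h
      · exact ⟨1, Or.inl rfl, by simpa using (QuotientGroup.eq_one_iff p).1 h⟩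
      · exact ⟨m, Or.inr (Or.inl rfl), QuotientGroup.eq.1 h.symm⟩
      · exact ⟨n, Or.inr (Or.inr (Or.inl rfl)), QuotientGroup.eq.1 h.symm⟩
      · exact ⟨m * n, Or.inr (Or.inr (Or.inr rfl)), QuotientGroup.eq.1 h.symm⟩
    have key : ∀ p ∈ M, ∀ q ∈ M, p * q * p⁻¹ * q⁻¹ = 1 ∨ p * q * p⁻¹ * q⁻¹ = d := by
      intro p hp q hq
      obtain ⟨p₀, hp₀, hθ⟩ := hrep p hp
      obtain ⟨q₀, hq₀, hη⟩ := hrep q hq
      have hmem : ∀ r : T, (r = 1 ∨ r = m ∨ r = n ∨ r = m * n) → r ∈ M := by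
        rintro r (rfl | rfl | rfl | rfl)
        · exact M.one_mem
        · exact hm
        · exact hn
        · exact M.mul_mem hm hn
      have e1 : p * q * p⁻¹ * q⁻¹ = p₀ * q * p₀⁻¹ * q⁻¹ := by
        calc p * q * p⁻¹ * q⁻¹ = p₀ * ((p₀⁻¹ * p) * q * (p₀⁻¹ * p)⁻¹) * p₀⁻¹ * q⁻¹ := by group
          _ = _ := by rw [← (S.cent q hq _ hθ).eq, mul_inv_cancel_right]
      have e2 : p₀ * q * p₀⁻¹ * q⁻¹ = p₀ * q₀ * p₀⁻¹ * q₀⁻¹ := by
        calc p₀ * q * p₀⁻¹ * q⁻¹ = p₀ * q₀ * (q₀⁻¹ * q * p₀⁻¹) * q⁻¹ := by group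
          _ = _ := by rw [← (S.cent _ (M.inv_mem (hmem p₀ hp₀)) _ hη).eq]; group
      rw [e1, e2]
      rcases hp₀ with rfl | rfl | rfl | rfl
      · left; group
      · rcases hq₀ with rfl | rfl | rfl | rfl
        · left; group
        · left; group
        · right; exact hd.symm
        · right
          rw [show p₀ * (p₀ * n) * p₀⁻¹ * (p₀ * n)⁻¹ = (p₀ * n * p₀ * (p₀ * n)⁻¹ * p₀⁻¹)⁻¹ by simp [mul_assoc],
            hmnm, hdi]
      · rcases hq₀ with rfl | rfl | rfl | rfl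
        · left; group
        · right; exact hnm
        · left; group
        · right
          rw [show p₀ * (m * p₀) * p₀⁻¹ * (m * p₀)⁻¹ = (m * p₀ * p₀ * (m * p₀)⁻¹ * p₀⁻¹)⁻¹ by simp [mul_assoc],
            hmnn, hdi]
      · rcases hq₀ with rfl | rfl | rfl | rfl
        · left; group
        · right; exact hmnm
        · right; exact hmnn
        · left; group
    have hφd : φ d = φ m * φ n * (φ m)⁻¹ * (φ n)⁻¹ := by rw [hd]; simp
    rcases key (φ m) (map_mem_of_characteristic S.mchar φ hm) (φ n)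
      (map_mem_of_characteristic S.mchar φ hn) with h | h <;> rw [← hφd] at h
    · exact hd1 (φ.injective (h.trans (map_one φ).symm))
    · exact hd1 (hmoved d ((mem_omega hc).2 ⟨hdZ, hdd⟩) h)
  -- the homocyclic structure of `M`
  have hinv : ∀ a ∈ M, a * a = 1 → a ∈ Z := fun a ha h => hN a ha (by rw [h]; exact one_mem _)
  have hU : ∀ a, a ∈ omega Z ↔ a ∈ M ∧ a * a = 1 := fun a => by
    rw [mem_omega hc]
    exact ⟨fun h => ⟨S.zm h.1, h.2⟩, fun h => ⟨hinv a h.1 h.2, h.2⟩⟩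
  have hexp : ∃ n, ∀ a ∈ M, a ^ 2 ^ n = 1 := by
    haveI : Fact (Nat.Prime 2) := ⟨Nat.prime_two⟩
    obtain ⟨d, hd⟩ := hB.pg.exists_card_eq
    exact ⟨d, fun a _ => by rw [← hd]; exact pow_card_eq_one'⟩
  set k := Nat.find hexp with hkdef
  have hpowk : ∀ a ∈ M, a ^ 2 ^ k = 1 := Nat.find_spec hexp
  have hk2' : 2 ≤ k := by
    by_contra h
    refine hb₀b ?_
    have h0 := hpowk b₀ (S.zm hb₀)
    rcases (show k = 0 ∨ k = 1 by omega) with h' | h' <;> rw [h'] at h0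
    · rw [pow_zero, pow_one] at h0; rw [h0, one_mul]
    · rwa [pow_one, pow_two] at h0
  obtain ⟨a₁, ha₁, ha₁v⟩ : ∃ a ∈ M, a ^ 2 ^ (k - 1) ≠ 1 := by
    by_contra h
    push Not at h
    have := Nat.find_min hexp (show k - 1 < k by omega)
    exact this h
  have hπsq : ∀ a ∈ M, a ^ 2 ^ (k - 1) * a ^ 2 ^ (k - 1) = 1 := fun a ha => by
    rw [← pow_add, ← two_mul, ← pow_succ', Nat.sub_add_cancel (by omega)]
    exact hpowk a ha
  have hπU : ∀ a ∈ M, a ^ 2 ^ (k - 1) ∈ omega Z := fun a ha =>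
    (hU _).2 ⟨M.pow_mem ha _, hπsq a ha⟩
  have hsurj : ∀ u ∈ omega Z, ∃ a ∈ M, a ^ 2 ^ (k - 1) = u := by
    intro u hu
    have hφa := map_mem_of_characteristic S.mchar φ ha₁
    rcases hu4 _ (hπU a₁ ha₁) ha₁v u hu with rfl | rfl | rfl | rfl
    · exact ⟨1, M.one_mem, one_pow _⟩
    · exact ⟨a₁, ha₁, rfl⟩
    · exact ⟨φ a₁, hφa, (map_pow φ a₁ _).symm⟩
    · exact ⟨a₁ * φ a₁, M.mul_mem ha₁ hφa, by
        rw [(hMc a₁ ha₁ _ hφa).mul_pow, ← map_pow]⟩
  have hroot : ∀ a ∈ M, a ^ 2 ^ (k - 1) = 1 → ∃ b ∈ M, b * b = a := by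
    let f : M →* T :=
      { toFun := fun a => (a : T) ^ 2 ^ (k - 1)
        map_one' := by simp
        map_mul' := fun a b => by simp [(hMc a a.2 b b.2).mul_pow] }
    have hle : sqs M ≤ f.ker.map M.subtype := by
      intro x hx
      obtain ⟨b, hb, rfl⟩ := (mem_sqs hMc).1 hx
      refine ⟨⟨b * b, M.mul_mem hb hb⟩, ?_, rfl⟩
      show (b * b) ^ 2 ^ (k - 1) = 1
      rw [(Commute.refl b).mul_pow]; exact hπsq b hb
    have hrange : f.range = omega Z := by
      refine le_antisymm (fun x ⟨a, ha⟩ => ha ▸ hπU a a.2) fun u hu => ?_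
      obtain ⟨a, ha, hau⟩ := hsurj u hu
      exact ⟨⟨a, ha⟩, hau⟩
    have hω : omega M = omega Z := by
      ext a; rw [mem_omega hMc, hU]
    have h1 := f.ker.card_mul_index
    rw [Subgroup.index_ker, hrange, ← Subgroup.card_map_of_injective M.subtype_injective,
      ← card_sqs hMc, hω] at h1
    have heq := Subgroup.eq_of_le_of_card_ge hle
      (Nat.eq_of_mul_eq_mul_right Nat.card_pos h1).le
    intro a ha h
    have : a ∈ sqs M := heq ▸ ⟨⟨a, ha⟩, h, rfl⟩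
    exact (mem_sqs hMc).1 this
  have H : Homo M (omega Z) φ k :=
    { normal := hMn
      comm := hMc
      stable := fun a ha => map_mem_of_characteristic S.mchar φ ha
      selfc := fun t h => S.mem_m t fun a ha => h a (S.zm ha)
      mem_u := hU
      card_u := h4
      cen := hcen
      moved := hmoved
      two_le := hk2'
      pow_k := hpowk
      surj := hsurj
      root := hroot }
  rcases eq_or_lt_of_le hk2' with h | h
  · rcases (h ▸ H : Homo M (omega Z) φ 2).card_of_two hB hE1 hE8 with h' | h'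
    · exact Or.inl h'
    · exact Or.inr (Or.inl h')
  · obtain ⟨g, hg⟩ := H.invData hB hφ h hE1 hE8
    exact Or.inr (Or.inr ⟨M, omega Z, g, hg⟩)

end CfsgLib.NormalRankTwoAut
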