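import Cfsg.Agent.NormalRankTwoAut.Elem
import Cfsg.Agent.NormalRankTwoAut.Cyclic
import Cfsg.Agent.NormalRankTwoAut.Fixed
import Cfsg.Agent.NormalRankTwoAut.Moved
import Cfsg.Agent.NormalRankTwoAut.Fusion
import Cfsg.Agent.S1238
import Cfsg.Agent.S3116
import Cfsg.Agent.S1202
import Cfsg.Agent.S0949
import Cfsg.Agent.S0280
import Mathlib.FieldTheory.Finite.GaloisField

/-!
# Simple groups with a Sylow 2-subgroup of normal rank two and a nontrivial odd automorphism
-/

set_option autoImplicit false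

namespace CfsgLib.NormalRankTwoAut

open Subgroup

variable {G : Type*} [Group G] [Finite G]

/-- Sylow 2-subgroups of groups of order 62400 have order 64. -/
theorem card_of_card_eq {Q : Type*} [Group Q] [Finite Q] (P : Sylow 2 Q)
    (h : Nat.card Q = 62400) : Nat.card P = 64 := by
  haveI : Fact (Nat.Prime 2) := ⟨Nat.prime_two⟩
  have hidx : ¬ 2 ∣ (P : Subgroup Q).index := P.not_dvd_index
  have hmul : Nat.card P * (P : Subgroup Q).index = 62400 := h ▸ (P : Subgroup Q).card_mul_index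
  obtain ⟨d, hd⟩ := P.2.exists_card_eq
  rw [hd] at hmul
  have hd16 : d ≤ 16 := by
    by_contra hd'
    have h2 := Nat.pow_le_pow_right (n := 2) (by norm_num) (not_le.1 hd')
    have h3 : (2 : ℕ) ^ d ≤ 62400 := Nat.le_of_dvd (by norm_num) ⟨_, hmul.symm⟩
    simp only [Nat.succ_eq_add_one] at h2
    omega
  rw [hd]
  interval_cases d <;> omega

/-- An element of the normaliser outside `P C(P)` induces an automorphism of odd order. -/
theorem exists_odd_aut (P : Sylow 2 G)
    (hN : ¬ Subgroup.normalizer ((P : Subgroup G) : Set G) ≤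
      (P : Subgroup G) ⊔ Subgroup.centralizer ((P : Subgroup G) : Set G)) :
    ∃ φ : MulAut P, Odd (orderOf φ) ∧ φ ≠ 1 := by
  haveI : Fact (Nat.Prime 2) := ⟨Nat.prime_two⟩
  obtain ⟨n, hn, hnot⟩ := SetLike.not_le_iff_exists.1 hN
  obtain ⟨a, m, hm, hnm⟩ := Nat.exists_eq_pow_mul_and_not_dvd (orderOf_pos n).ne' 2 (by norm_num)
  have hmpos : 0 < m := by
    rcases Nat.eq_zero_or_pos m with h | h
    · exact absurd (h ▸ dvd_zero 2) hm
    · exact h
  have hQ : IsPGroup 2 (Subgroup.zpowers (n ^ m)) := by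
    refine IsPGroup.of_card (n := a) ?_
    rw [Nat.card_zpowers, orderOf_pow' n hmpos.ne', hnm, Nat.gcd_mul_left_left,
      Nat.mul_div_cancel _ hmpos]
  have hmP : n ^ m ∈ (P : Subgroup G) :=
    ((hQ.inf_normalizer_sylow P).le ⟨Subgroup.mem_zpowers _, pow_mem hn m⟩).2
  let c : Subgroup.normalizer ((P : Subgroup G) : Set G) := ⟨n ^ 2 ^ a, pow_mem hn _⟩
  refine ⟨(P : Subgroup G).normalizerMonoidHom c, ?_, fun h => hnot ?_⟩
  · have h1 : c ^ m = 1 := Subtype.ext (by
      show (n ^ 2 ^ a) ^ m = 1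
      rw [← pow_mul, ← hnm, pow_orderOf_eq_one])
    have h2 : ((P : Subgroup G).normalizerMonoidHom c) ^ m = 1 := by
      rw [← map_pow]
      exact (congrArg _ h1).trans (map_one _)
    exact (Nat.odd_iff.2 (Nat.two_dvd_ne_zero.1 hm)).of_dvd_nat (orderOf_dvd_of_pow_eq_one h2)
  · have hc : c ∈ (P : Subgroup G).normalizerMonoidHom.ker := h
    rw [Subgroup.normalizerMonoidHom_ker, Subgroup.mem_subgroupOf] at hc
    have hcop : Nat.Coprime (2 ^ a) m :=
      Nat.Coprime.pow_left a ((Nat.prime_two.coprime_iff_not_dvd).2 hm)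
    have hone : ((Nat.gcd (2 ^ a) m : ℕ) : ℤ) = 1 := by rw [hcop]; rfl
    have e : n = (n ^ 2 ^ a) ^ Nat.gcdA (2 ^ a) m * (n ^ m) ^ Nat.gcdB (2 ^ a) m := by
      rw [← zpow_natCast n (2 ^ a), ← zpow_natCast n m, ← zpow_mul, ← zpow_mul, ← zpow_add,
        ← Nat.gcd_eq_gcd_ab, hone, zpow_one]
    rw [e]
    exact Subgroup.mul_mem _ (zpow_mem (Subgroup.mem_sup_right hc) _)
      (zpow_mem (Subgroup.mem_sup_left hmP) _)

/-- Two generators bound the squares index by four. -/
theorem card_omega_le {T : Type*} [Group T] [Finite T] {A : Subgroup T} [A.Normal]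
    (hc : ∀ a ∈ A, ∀ b ∈ A, Commute a b) {a b : T} (hgen : Subgroup.closure {a, b} = A) :
    Nat.card (omega A) ≤ 4 := by
  haveI := sqs_normal hc
  have ha : a ∈ A := hgen ▸ Subgroup.subset_closure (Set.mem_insert _ _)
  have hb : b ∈ A := hgen ▸ Subgroup.subset_closure (Set.mem_insert_of_mem _ rfl)
  set π := QuotientGroup.mk' (sqs A)
  have hsq : ∀ x ∈ A, π x * π x = 1 := fun x hx => by
    rw [← map_mul]; exact (QuotientGroup.eq_one_iff _).2 (mul_self_mem_sqs hx)
  have hcomm : π b * π a = π a * π b := by rw [← map_mul, ← map_mul, (hc b hb a ha).eq]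
  have hsub : (A.map π : Set (T ⧸ sqs A)) ⊆ {1, π a, π b, π a * π b} := by
    intro v hv
    rw [show A.map π = (Subgroup.closure {a, b}).map π from congrArg (Subgroup.map π) hgen.symm,
      MonoidHom.map_closure, Set.image_pair] at hv
    have haa := hsq a ha
    have hbb := hsq b hb
    have e1 : π a * (π a * π b) = π b := by rw [← mul_assoc, haa, one_mul]
    have e2 : π b * (π a * π b) = π a := by rw [← mul_assoc, hcomm, mul_assoc, hbb, mul_one]
    have e3 : π a * π b * π a = π b := by rw [mul_assoc, hcomm, e1]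
    have e4 : π a * π b * π b = π a := by rw [mul_assoc, hbb, mul_one]
    have e5 : π a * π b * (π a * π b) = 1 := by rw [← mul_assoc, e3, hbb]
    induction hv using Subgroup.closure_induction with
    | mem y hy => rcases hy with rfl | rfl <;> simp
    | one => simp
    | mul y w _ _ hy hw =>
      simp only [Set.mem_insert_iff, Set.mem_singleton_iff] at hy hw ⊢
      rcases hy with h | h | h | h <;> rcases hw with h' | h' | h' | h' <;>
        simp [h, h', haa, hbb, hcomm, e1, e2, e3, e4, e5]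
    | inv y _ hy =>
      simp only [Set.mem_insert_iff, Set.mem_singleton_iff] at hy ⊢
      have i1 : (π a)⁻¹ = π a := inv_eq_of_mul_eq_one_right haa
      have i2 : (π b)⁻¹ = π b := inv_eq_of_mul_eq_one_right hbb
      rcases hy with h | h | h | h <;> simp [h, i1, i2, hcomm, mul_inv_rev]
  have h1 := Set.ncard_le_ncard hsub (Set.toFinite _)
  have h2 := Set.ncard_insert_le (1 : T ⧸ sqs A) {π a, π b, π a * π b}
  have h3 := Set.ncard_insert_le (π a) ({π b, π a * π b} : Set (T ⧸ sqs A))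
  have h4 := Set.ncard_insert_le (π b) ({π a * π b} : Set (T ⧸ sqs A))
  rw [Set.ncard_singleton] at h4
  rw [← Nat.card_coe_set_eq] at h1
  have h5 : Nat.card (A.map π) ≤ 4 := le_trans h1 (by omega)
  have h6 := card_map_mk (sqs A) (sqs_le A)
  rw [← card_sqs hc, mul_comm] at h6
  have h7 : Nat.card (A.map π) = Nat.card (omega A) := Nat.eq_of_mul_eq_mul_left Nat.card_pos h6
  omega

theorem isCyclic_of_omega {T : Type*} [Group T] [Finite T] (hp : IsPGroup 2 T) {A : Subgroup T}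
    [A.Normal] (hc : ∀ a ∈ A, ∀ b ∈ A, Commute a b) (h : Nat.card (omega A) ≤ 2) : IsCyclic A := by
  haveI := sqs_normal hc
  have hle : Nat.card (A.map (QuotientGroup.mk' (sqs A))) ≤ 2 := by
    have h6 := card_map_mk (sqs A) (sqs_le A)
    rw [← card_sqs hc, mul_comm] at h6
    exact (Nat.eq_of_mul_eq_mul_left Nat.card_pos h6).le.trans h
  obtain ⟨c, hc', hcc⟩ : ∃ c ∈ A, ∀ x ∈ A, x ∈ sqs A ∨ c⁻¹ * x ∈ sqs A := by
    by_cases hall : ∀ x ∈ A, x ∈ sqs A
    · exact ⟨1, A.one_mem, fun x hx => Or.inl (hall x hx)⟩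
    push Not at hall
    obtain ⟨c, hcA, hcs⟩ := hall
    refine ⟨c, hcA, fun x hx => ?_⟩
    by_contra hno
    push Not at hno
    set π := QuotientGroup.mk' (sqs A)
    have h3 : ({1, π c, π x} : Set (T ⧸ sqs A)) ⊆ (A.map π : Set (T ⧸ sqs A)) := by
      intro v hv
      rcases hv with rfl | rfl | rfl
      · exact one_mem _
      · exact ⟨c, hcA, rfl⟩
      · exact ⟨x, hx, rfl⟩
    have h4 := Set.ncard_le_ncard h3 (Set.toFinite _)
    rw [Set.ncard_eq_three.2 ⟨1, π c, π x,
      fun e => hcs ((QuotientGroup.eq_one_iff c).1 e.symm),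
      fun e => hno.1 ((QuotientGroup.eq_one_iff x).1 e.symm),
      fun e => hno.2 (QuotientGroup.eq.1 e), rfl⟩, ← Nat.card_coe_set_eq] at h4
    have h5 : 3 ≤ Nat.card (A.map π) := h4
    omega
  have key : ∀ n : ℕ, ∀ x ∈ A, ∃ (i : ℕ) (y : T), y ∈ A ∧ x = c ^ i * y ^ 2 ^ n := by
    intro n
    induction n with
    | zero => exact fun x hx => ⟨0, x, hx, by simp⟩
    | succ n ih =>
      intro x hx
      obtain ⟨i, y, hy, e⟩ := ih x hx
      rcases hcc y hy with h' | h'
      · obtain ⟨z, hz, hzy⟩ := (mem_sqs hc).1 h'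
        exact ⟨i, z, hz, by rw [e, ← hzy, ← pow_two, ← pow_mul, ← pow_succ']⟩
      · obtain ⟨z, hz, hzy⟩ := (mem_sqs hc).1 h'
        refine ⟨i + 2 ^ n, z, hz, ?_⟩
        have hy' : y = c * (z * z) := by rw [hzy, mul_inv_cancel_left]
        rw [e, hy', (hc c hc' _ (A.mul_mem hz hz)).mul_pow, ← pow_two, ← pow_mul, ← pow_succ',
          ← mul_assoc, ← pow_add]
  refine ⟨⟨⟨c, hc'⟩, fun x => ?_⟩⟩
  haveI : Fact (Nat.Prime 2) := ⟨Nat.prime_two⟩
  obtain ⟨d, hd⟩ := hp.exists_card_eq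
  obtain ⟨i, y, -, e⟩ := key d x x.2
  refine ⟨(i : ℤ), Subtype.ext ?_⟩
  rw [e, ← hd, pow_card_eq_one', mul_one]
  simp

/-- The case of 2-rank at most two. -/
theorem card_of_rank_two [IsSimpleGroup G] (hna : ¬ IsMulCommutative G) (T : Sylow 2 G)
    (h2 : Cfsg.PRankLE 2 2 G) (h1 : ¬ Cfsg.PRankLE 2 1 G)
    (hidx : ∀ H : Subgroup G, H.index ≠ 2)
    (hO : ∀ N : Subgroup G, N.Normal → Odd (Nat.card N) → N = ⊥)
    (hA : ¬ IsPGroup 2 (MulAut T)) : Nat.card T = 4 ∨ Nat.card T = 64 := by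
  haveI : Fact (Nat.Prime 2) := ⟨Nat.prime_two⟩
  have hiso : ∀ z : G, ¬ Cfsg.IsIsolatedInvolution z := fun z hz => by
    have hc := CfsgLib.ZStar.mem_center_of_isolated hz hO
    rcases IsSimpleGroup.eq_bot_or_eq_top_of_normal (Subgroup.center G) inferInstance with h | h
    · rw [h, Subgroup.mem_bot] at hc
      have := hz.1
      rw [hc, orderOf_one] at this
      omega
    · exact hna ⟨⟨fun a b => (Subgroup.mem_center_iff.1 (h ▸ Subgroup.mem_top b) a)⟩⟩
  haveI : Fintype (GaloisField 2 4) := Fintype.ofFinite _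
  have hF : Fintype.card (GaloisField 2 4) = 16 := by
    rw [← Nat.card_eq_fintype_card, GaloisField.card 2 4 (by norm_num)]; rfl
  let P : Sylow 2 (Cfsg.PSU 3 (GaloisField 2 4) 4) := Classical.arbitrary _
  rcases Cfsg.Agent.S1238.result h2 h1 hidx hiso T hF P with
    ⟨m, hm, ⟨e⟩⟩ | hsd | hw | ⟨n, hn, ⟨e⟩⟩ | ⟨⟨e⟩⟩
  · left
    have hcard : Nat.card T = 2 * m := (Nat.card_congr e.toEquiv).trans DihedralGroup.nat_card
    by_cases h4 : 4 ≤ m
    · exact absurd (Cfsg.Agent.S3116.result T.2 (Or.inl ⟨m, h4, ⟨e⟩⟩)) hA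
    obtain ⟨d, hd⟩ := T.2.exists_card_eq
    have hm' : m = 2 ∨ m = 3 := by omega
    rcases hm' with rfl | rfl
    · rw [hcard]
    · exfalso
      rw [hcard] at hd
      rcases Nat.lt_or_ge d 3 with h | h
      · interval_cases d <;> omega
      · have := Nat.pow_le_pow_right (n := 2) (by norm_num) h
        omega
  · exact absurd (Cfsg.Agent.S3116.result T.2 (Or.inr hsd)) hA
  · exfalso
    obtain ⟨n, hn, hc, hrest⟩ := hw
    have h := (Cfsg.Agent.S1202.result (S := (T : Subgroup G)) ⟨n, hn, hc, hrest⟩ n hc ⊤ le_top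
      (fun h => hA (h.of_equiv (MulAut.congr Subgroup.topEquiv)))).1
    rw [Subgroup.normalizer_eq_top, Subgroup.relIndex_self] at h
    omega
  · exfalso
    obtain ⟨hn', -, -⟩ := Cfsg.Agent.S0949.result T n hn e hO
    rcases IsSimpleGroup.eq_bot_or_eq_top_of_normal (T : Subgroup G) hn' with h | h
    · have hc := Nat.card_congr e.toEquiv
      rw [h, Subgroup.card_bot, Nat.card_congr Multiplicative.toAdd, Nat.card_prod, Nat.card_zmod] at hc
      have := Nat.pow_le_pow_right (n := 2) (by norm_num) hn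
      nlinarith
    · have hp : IsPGroup 2 G := by
        intro g
        obtain ⟨k, hk⟩ := T.2 ⟨g, h ▸ Subgroup.mem_top g⟩
        exact ⟨k, congrArg Subtype.val hk⟩
      haveI : Nontrivial G := IsSimpleGroup.toNontrivial
      rcases IsSimpleGroup.eq_bot_or_eq_top_of_normal (Subgroup.center G) inferInstance with h' | h'
      · obtain ⟨⟨x, hx⟩, ⟨y, hy⟩, hxy⟩ := hp.center_nontrivial
        rw [h', Subgroup.mem_bot] at hx hy
        exact hxy (Subtype.ext (hx.trans hy.symm))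
      · exact hna ⟨⟨fun a b => (Subgroup.mem_center_iff.1 (h' ▸ Subgroup.mem_top b) a)⟩⟩
  · right
    rw [Nat.card_congr e.toEquiv]
    have h := Cfsg.Agent.S0280.result (F := GaloisField 2 4) (q := 4) (by rw [hF]; norm_num) 3
      (by norm_num)
    norm_num [Finset.prod_range_succ, Nat.even_iff] at h
    exact card_of_card_eq P (by omega)

/-- The main theorem. -/
theorem card_sylow [IsSimpleGroup G] (hna : ¬ IsMulCommutative G) (T : Sylow 2 G)
    (hd2 : ∀ A : Subgroup T, A.Normal → IsMulCommutative A →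
      ∃ a b : T, Subgroup.closure {a, b} = A)
    (hd2' : ∃ A : Subgroup T, A.Normal ∧ IsMulCommutative A ∧ ¬ IsCyclic A)
    (hN : ¬ Subgroup.normalizer ((T : Subgroup G) : Set G) ≤
      (T : Subgroup G) ⊔ Subgroup.centralizer ((T : Subgroup G) : Set G)) :
    Nat.card T = 4 ∨ Nat.card T = 64 ∨ Nat.card T = 128 := by
  classical
  haveI : Fact (Nat.Prime 2) := ⟨Nat.prime_two⟩
  obtain ⟨φ, hφ, hne⟩ := exists_odd_aut T hN
  have hB : Base T := by
    refine ⟨T.2, fun A hA hc B hBA hB1 => ?_⟩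
    obtain ⟨a, b, hab⟩ := hd2 A hA ⟨⟨fun x y => Subtype.ext (hc x x.2 y y.2).eq⟩⟩
    refine le_trans (Subgroup.card_le_of_le fun x hx => ?_) (card_omega_le hc hab)
    exact (mem_omega hc).2 ⟨hBA hx, hB1 x hx⟩
  have hA : ¬ IsPGroup 2 (MulAut T) := fun h => by
    obtain ⟨k, hk⟩ := h φ
    obtain ⟨j, -, hje⟩ := (Nat.dvd_prime_pow Nat.prime_two).1 (orderOf_dvd_of_pow_eq_one hk)
    rcases j with _ | j
    · exact hne (orderOf_eq_one_iff.1 (by rw [hje]; rfl))
    · rw [hje, pow_succ] at hφ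
      exact (Nat.not_even_iff_odd.2 hφ) ⟨2 ^ j, by ring⟩
  have hTne : Nat.card T ≠ 1 := fun h => by
    haveI : Subsingleton T := (Nat.card_eq_one_iff_unique.1 h).1
    exact hne (MulEquiv.ext fun x => Subsingleton.elim _ _)
  have hTdvd : 2 ∣ Nat.card G := by
    rcases T.2.card_eq_or_dvd with h | h
    · exact absurd h hTne
    · exact h.trans (Subgroup.card_subgroup_dvd_card _)
  have hO : ∀ N : Subgroup G, N.Normal → Odd (Nat.card N) → N = ⊥ := fun N hN' hodd => by
    refine (IsSimpleGroup.eq_bot_or_eq_top_of_normal N hN').resolve_right fun h => ?_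
    rw [h, Subgroup.card_top] at hodd
    exact (Nat.not_even_iff_odd.2 hodd) (even_iff_two_dvd.2 hTdvd)
  have hidx : ∀ H : Subgroup G, H.index ≠ 2 := fun H h => by
    have hHn := Subgroup.normal_of_index_eq_two h
    rcases IsSimpleGroup.eq_bot_or_eq_top_of_normal H hHn with h' | h'
    · rw [h', Subgroup.index_bot] at h
      haveI : IsCyclic G := isCyclic_of_prime_card h
      exact hna ⟨⟨fun a b => (IsCyclic.commGroup (α := G)).mul_comm a b⟩⟩
    · rw [h', Subgroup.index_top] at h; omega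
  have h1 : ¬ Cfsg.PRankLE 2 1 G := by
    obtain ⟨A, hAn, hAc, hAnc⟩ := hd2'
    haveI := hAn
    have hc : ∀ a ∈ A, ∀ b ∈ A, Commute a b := fun a ha b hb =>
      congrArg Subtype.val (hAc.is_comm.comm ⟨a, ha⟩ ⟨b, hb⟩)
    intro h
    refine hAnc (isCyclic_of_omega T.2 hc ?_)
    have h' := h ((omega A).map (T : Subgroup G).subtype) ⟨⟨fun x y => ?_⟩⟩ ?_
    · rwa [Subgroup.card_map_of_injective (T : Subgroup G).subtype_injective] at h'
    · obtain ⟨a, ha, hax⟩ := x.2
      obtain ⟨b, hb, hby⟩ := y.2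
      refine Subtype.ext ?_
      show (x : G) * y = y * x
      rw [← hax, ← hby, ← map_mul, ← map_mul, (hc a (omega_le A ha) b (omega_le A hb)).eq]
    · rintro _ ⟨a, ha, rfl⟩
      rw [← map_pow, pow_two, ((mem_omega hc).1 ha).2, map_one]
  by_cases h2 : Cfsg.PRankLE 2 2 G
  · rcases card_of_rank_two hna T h2 h1 hidx hO hA with h | h
    · exact Or.inl h
    · exact Or.inr (Or.inl h)
  -- an elementary abelian subgroup of order eight
  rw [Cfsg.PRankLE] at h2
  push Not at h2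
  obtain ⟨E₀, hE₀c, hE₀2, hE₀card⟩ := h2
  have hE₀p : IsPGroup 2 E₀ := fun x => ⟨1, Subtype.ext (by simpa using hE₀2 x x.2)⟩
  obtain ⟨k, hk⟩ := exists_conj_le T hE₀p
  set R := E₀.map (MulAut.conj k).toMonoidHom with hR
  have hRT : R ≤ T := by
    rintro _ ⟨x, hx, rfl⟩; exact hk x hx
  set E : Subgroup T := R.subgroupOf T with hE
  have hE8 : 8 ≤ Nat.card E := by
    rw [hE, Nat.card_congr (Subgroup.subgroupOfEquivOfLe hRT).toEquiv, hR,
      Subgroup.card_map_of_injective (MulAut.conj k).injective]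
    obtain ⟨d, hd⟩ := hE₀p.exists_card_eq
    rw [hd] at hE₀card ⊢
    have h3 : 2 < d := (Nat.pow_lt_pow_iff_right one_lt_two).1 hE₀card
    exact Nat.pow_le_pow_right (n := 2) (by norm_num) h3
  have hE1 : ∀ a ∈ E, a * a = 1 := fun a ha => by
    obtain ⟨x, hx, hxa⟩ := ha
    refine Subtype.ext ?_
    show (a : G) * a = 1
    rw [show (a : G) = (MulAut.conj k).toMonoidHom x from hxa.symm, ← map_mul, ← pow_two,
      hE₀2 x hx, map_one]
  have hEc : ∀ a ∈ E, ∀ b ∈ E, Commute a b := fun a ha b hb => by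
    have ha' := eq_inv_of_mul_eq_one_left (hE1 a ha)
    have hb' := eq_inv_of_mul_eq_one_left (hE1 b hb)
    have hab := eq_inv_of_mul_eq_one_left (hE1 _ (E.mul_mem ha hb))
    rw [mul_inv_rev, ← ha', ← hb'] at hab
    exact hab
  obtain ⟨Z, M, S⟩ := hB.exists_setup
  haveI := S.zchar
  have hc := S.zcomm
  obtain ⟨v, hv, hv1⟩ : ∃ v ∈ Z, v ≠ 1 := by
    haveI : Nontrivial T := (subsingleton_or_nontrivial T).resolve_left fun h =>
      hTne (Nat.card_eq_one_iff_unique.2 ⟨h, ⟨1⟩⟩)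
    haveI := hB.pg.center_nontrivial
    obtain ⟨⟨v, hv⟩, hv1⟩ := exists_ne (1 : Subgroup.center T)
    exact ⟨v, S.center_le hv, fun h => hv1 (Subtype.ext h)⟩
  rcases hB.card_omega hc hv hv1 with hω | hω
  · exact ((hasSplit_of_cyclic hB S hφ hne hEc hE1 hE8 hω).false_of_simple hna T).elim
  by_cases hel : ∀ z ∈ Z, z * z = 1
  · have hZω : omega Z = Z :=
      le_antisymm (omega_le Z) fun z hz => (mem_omega hc).2 ⟨hz, hel z hz⟩
    exact Or.inr (card_of_elementary hB S hφ hne hEc hE1 hE8 hel (hZω ▸ hω))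
  by_cases hfix : ∀ a ∈ Z, a * a = 1 → φ a = a
  · exact ((hasSplit_of_fixed hB S hφ hne hω hel hfix).false_of_simple hna T).elim
  push Not at hfix
  obtain ⟨a, ha, haa, haφ⟩ := hfix
  rcases card_or_invData hB S hφ hE1 hE8 hω hel ⟨a, ha, haa, haφ⟩ with h | h | ⟨A, U, g, D⟩
  · exact Or.inr (Or.inl h)
  · exact Or.inr (Or.inr h)
  · exact (D.false_of_simple hidx T).elim

end CfsgLib.NormalRankTwoAut
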