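import Cfsg.Agent.NormalRankTwoAut.Omega

/-!
# Squares in abelian 2-subgroups with at most four involutions
-/

set_option autoImplicit false

namespace CfsgLib.NormalRankTwoAut

open Subgroup

variable {T : Type*} [Group T]

/-- The subgroup generated by the squares of elements of `Z`. -/
def sqs (Z : Subgroup T) : Subgroup T := Subgroup.closure {x | ∃ y ∈ Z, y * y = x}

theorem mem_sqs {Z : Subgroup T} (hc : ∀ a ∈ Z, ∀ b ∈ Z, Commute a b) {x : T} :
    x ∈ sqs Z ↔ ∃ y ∈ Z, y * y = x := by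
  refine ⟨fun h => ?_, fun h => Subgroup.subset_closure h⟩
  induction h using Subgroup.closure_induction with
  | mem y hy => exact hy
  | one => exact ⟨1, Z.one_mem, one_mul 1⟩
  | mul a b _ _ ha hb =>
    obtain ⟨u, hu, rfl⟩ := ha
    obtain ⟨v, hv, rfl⟩ := hb
    exact ⟨u * v, Z.mul_mem hu hv, (hc v hv u hu).mul_mul_mul_comm u v⟩
  | inv a _ ha =>
    obtain ⟨u, hu, rfl⟩ := ha
    exact ⟨u⁻¹, Z.inv_mem hu, (mul_inv_rev u u).symm⟩

theorem mul_self_mem_sqs {Z : Subgroup T} {y : T} (hy : y ∈ Z) : y * y ∈ sqs Z :=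
  Subgroup.subset_closure ⟨y, hy, rfl⟩

theorem sqs_le (Z : Subgroup T) : sqs Z ≤ Z :=
  (Subgroup.closure_le Z).2 fun _ ⟨_, hy, h⟩ => h ▸ Z.mul_mem hy hy

theorem sqs_normal {Z : Subgroup T} [hZ : Z.Normal] (hc : ∀ a ∈ Z, ∀ b ∈ Z, Commute a b) :
    (sqs Z).Normal := by
  refine ⟨fun x hx t => ?_⟩
  obtain ⟨y, hy, rfl⟩ := (mem_sqs hc).1 hx
  exact (mem_sqs hc).2 ⟨t * y * t⁻¹, hZ.conj_mem y hy t, by group⟩

theorem apply_mem_sqs {Z : Subgroup T} (hc : ∀ a ∈ Z, ∀ b ∈ Z, Commute a b)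
    (hchar : Z.Characteristic) (φ : MulAut T) {x : T} (hx : x ∈ sqs Z) : φ x ∈ sqs Z := by
  obtain ⟨y, hy, rfl⟩ := (mem_sqs hc).1 hx
  exact (mem_sqs hc).2 ⟨φ y, map_mem_of_characteristic hchar φ hy, (map_mul φ y y).symm⟩

theorem apply_mem_omega {Z : Subgroup T} (hc : ∀ a ∈ Z, ∀ b ∈ Z, Commute a b)
    (hchar : Z.Characteristic) (φ : MulAut T) {x : T} (hx : x ∈ omega Z) : φ x ∈ omega Z := by
  rw [mem_omega hc] at hx ⊢
  exact ⟨map_mem_of_characteristic hchar φ hx.1, by rw [← map_mul, hx.2, map_one]⟩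

variable [Finite T]

theorem card_sqs {Z : Subgroup T} (hc : ∀ a ∈ Z, ∀ b ∈ Z, Commute a b) :
    Nat.card (sqs Z) * Nat.card (omega Z) = Nat.card Z := by
  let f : Z →* T :=
    { toFun := fun a => (a : T) * a
      map_one' := one_mul 1
      map_mul' := fun a b => (hc b b.2 a a.2).mul_mul_mul_comm (a : T) b }
  have hr : f.range = sqs Z := by
    ext x
    rw [mem_sqs hc]
    exact ⟨fun ⟨a, ha⟩ => ⟨a, a.2, ha⟩, fun ⟨y, hy, h⟩ => ⟨⟨y, hy⟩, h⟩⟩
  have hk : f.ker.map Z.subtype = omega Z := by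
    ext x
    rw [mem_omega hc]
    exact ⟨fun ⟨a, ha, hax⟩ => hax ▸ ⟨a.2, ha⟩, fun ⟨hx, hxx⟩ => ⟨⟨x, hx⟩, hxx, rfl⟩⟩
  rw [← hr, ← Subgroup.index_ker, ← hk, Subgroup.card_map_of_injective Z.subtype_injective,
    mul_comm]
  exact f.ker.card_mul_index

/-- The product of the squares and the involutions. -/
def sqo (Z : Subgroup T) : Subgroup T := sqs Z ⊔ omega Z

theorem sqo_le (Z : Subgroup T) : sqo Z ≤ Z := sup_le (sqs_le Z) (omega_le Z)

omit [Finite T] in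
theorem sqo_normal {Z : Subgroup T} [Z.Normal] (hc : ∀ a ∈ Z, ∀ b ∈ Z, Commute a b) :
    (sqo Z).Normal := by
  haveI := sqs_normal hc
  haveI := omega_normal hc
  exact Subgroup.sup_normal _ _

omit [Finite T] in
theorem mem_sqo {Z : Subgroup T} [Z.Normal] (hc : ∀ a ∈ Z, ∀ b ∈ Z, Commute a b) {x : T} :
    x ∈ sqo Z ↔ ∃ η ∈ Z, ∃ o ∈ Z, o * o = 1 ∧ x = η * η * o := by
  haveI := sqs_normal hc
  constructor
  · intro h
    obtain ⟨a, ha, o, ho, rfl⟩ := Subgroup.mem_sup_of_normal_left.1 h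
    obtain ⟨η, hη, rfl⟩ := (mem_sqs hc).1 ha
    obtain ⟨hoZ, hoo⟩ := (mem_omega hc).1 ho
    exact ⟨η, hη, o, hoZ, hoo, rfl⟩
  · rintro ⟨η, hη, o, ho, hoo, rfl⟩
    exact Subgroup.mul_mem_sup (mul_self_mem_sqs hη) ((mem_omega hc).2 ⟨ho, hoo⟩)

/-- With two involutions, or four of which one is not a square, `Z / (squares · involutions)` has
order at most two. -/
theorem two_sqo {Z : Subgroup T} (hc : ∀ a ∈ Z, ∀ b ∈ Z, Commute a b)
    (h : Nat.card (omega Z) = 2 ∨ (Nat.card (omega Z) = 4 ∧ ∃ b ∈ omega Z, b ∉ sqs Z)) :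
    ∀ a ∈ Z, ∀ b ∈ Z, a ∉ sqo Z → b ∉ sqo Z → a * b ∈ sqo Z := by
  have hcard : Nat.card Z ≤ 2 * Nat.card (sqo Z) := by
    have hle : sqs Z ≤ sqo Z := le_sup_left
    rw [← card_sqs hc]
    rcases h with h | ⟨h, b, hb, hbs⟩
    · rw [h, mul_comm]
      exact Nat.mul_le_mul_left 2 (Subgroup.card_le_of_le hle)
    · rw [h]
      have h2 : 2 * Nat.card (sqs Z) ≤ Nat.card (sqo Z) := by
        have hd := Subgroup.card_dvd_of_le hle
        have hne : Nat.card (sqs Z) ≠ Nat.card (sqo Z) := fun he =>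
          hbs ((Subgroup.eq_of_le_of_card_ge hle he.ge).symm ▸ Subgroup.mem_sup_right hb)
        obtain ⟨k, hk⟩ := hd
        have hpos : 0 < Nat.card (sqo Z) := Nat.card_pos
        rcases k with _ | _ | k
        · omega
        · omega
        · rw [hk]; nlinarith
      omega
  intro a ha b hb haL hbL
  by_contra hab
  have haa : a * a ∈ sqo Z := Subgroup.mem_sup_left (mul_self_mem_sqs ha)
  have hab' : a⁻¹ * b ∉ sqo Z := fun h1 => hab (by
    rw [show a * b = a * a * (a⁻¹ * b) by group]; exact (sqo Z).mul_mem haa h1)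
  set L := (sqo Z : Set T) with hL
  have hinj : ∀ c : T, (((fun x => c * x) '' L).ncard = L.ncard) := fun c =>
    Set.ncard_image_of_injective _ (mul_right_injective c)
  have hd1 : Disjoint L ((fun x => a * x) '' L) := Set.disjoint_left.2 fun x hx ⟨y, hy, hxy⟩ =>
    haL (by
      have : a = x * y⁻¹ := by rw [← hxy]; group
      rw [this]; exact (sqo Z).mul_mem hx ((sqo Z).inv_mem hy))
  have hd2 : Disjoint (L ∪ (fun x => a * x) '' L) ((fun x => b * x) '' L) := by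
    refine Set.disjoint_left.2 fun x hx ⟨y, hy, hxy⟩ => ?_
    rcases hx with hx | ⟨w, hw, hxw⟩
    · apply hbL
      have : b = x * y⁻¹ := by rw [← hxy]; group
      rw [this]; exact (sqo Z).mul_mem hx ((sqo Z).inv_mem hy)
    · apply hab'
      have e : b * y = a * w := hxy.trans hxw.symm
      have : a⁻¹ * b = w * y⁻¹ := by
        calc a⁻¹ * b = a⁻¹ * (b * y) * y⁻¹ := by group
          _ = _ := by rw [e]; group
      rw [this]; exact (sqo Z).mul_mem hw ((sqo Z).inv_mem hy)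
  have hsub : L ∪ (fun x => a * x) '' L ∪ (fun x => b * x) '' L ⊆ (Z : Set T) := by
    rintro x ((hx | ⟨y, hy, rfl⟩) | ⟨y, hy, rfl⟩)
    · exact sqo_le Z hx
    · exact Z.mul_mem ha (sqo_le Z hy)
    · exact Z.mul_mem hb (sqo_le Z hy)
  have h3 := Set.ncard_le_ncard hsub (Set.toFinite _)
  rw [Set.ncard_union_eq hd2, Set.ncard_union_eq hd1, hinj, hinj, ← Nat.card_coe_set_eq,
    ← Nat.card_coe_set_eq] at h3
  have hpos : 0 < Nat.card (sqo Z) := Nat.card_pos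
  have h3' : Nat.card (sqo Z) + Nat.card (sqo Z) + Nat.card (sqo Z) ≤ Nat.card Z := h3
  omega

/-- Conjugates differ by squares and involutions. -/
theorem hk_of_two {Z : Subgroup T} [hZ : Z.Normal] (hc : ∀ a ∈ Z, ∀ b ∈ Z, Commute a b)
    (h : Nat.card (omega Z) = 2 ∨ (Nat.card (omega Z) = 4 ∧ ∃ b ∈ omega Z, b ∉ sqs Z)) :
    ∀ g : T, ∀ a ∈ Z, ∃ η ∈ Z, ∃ o ∈ Z, o * o = 1 ∧ g * a * g⁻¹ = a * (η * η) * o := by
  intro g a ha
  have hn := sqo_normal hc
  have hga := hZ.conj_mem a ha g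
  have hmem : a⁻¹ * (g * a * g⁻¹) ∈ sqo Z := by
    by_cases haL : a ∈ sqo Z
    · exact (sqo Z).mul_mem ((sqo Z).inv_mem haL) (hn.conj_mem a haL g)
    · have hgaL : g * a * g⁻¹ ∉ sqo Z := fun h1 => haL (by
        have := hn.conj_mem _ h1 g⁻¹
        simpa [mul_assoc] using this)
      exact two_sqo hc h _ (Z.inv_mem ha) _ hga
        (fun h1 => haL ((sqo Z).inv_mem_iff.1 h1)) hgaL
  obtain ⟨η, hη, o, ho, hoo, e⟩ := (mem_sqo hc).1 hmem
  refine ⟨η, hη, o, ho, hoo, ?_⟩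
  rw [mul_assoc a, ← e]
  group

/-- Some power of a nonidentity element of `Z` is an involution. -/
theorem Base.exists_pow_sq (hB : Base T) {a : T} (ha : a ≠ 1) :
    ∃ k : ℕ, a ^ k ≠ 1 ∧ a ^ k * a ^ k = 1 := by
  have key : ∀ n : ℕ, ∀ b : T, b ^ 2 ^ n = 1 → b ≠ 1 → ∃ k : ℕ, b ^ k ≠ 1 ∧ b ^ k * b ^ k = 1 := by
    intro n
    induction n with
    | zero => intro b h h1; rw [pow_zero, pow_one] at h; exact absurd h h1
    | succ n ih =>
      intro b h h1
      by_cases h2 : b * b = 1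
      · exact ⟨1, by rw [pow_one]; exact h1, by rw [pow_one]; exact h2⟩
      · obtain ⟨k, hk1, hk2⟩ := ih (b * b) (by
          rw [← pow_two, ← pow_mul, ← pow_succ']; exact h) h2
        exact ⟨2 * k, by rwa [pow_mul, pow_two], by rwa [pow_mul, pow_two]⟩
  obtain ⟨n, hn⟩ := hB.pg a
  exact key n a hn ha

end CfsgLib.NormalRankTwoAut
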